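import Cfsg.Agent.FischerTypes.M24QuadCent.Members

/-!
# The elementary abelian section of the centralizer of a product of four commuting members

The pairs of the quadruples generate modulo `z` an elementary abelian group; a member acts on it as a
transvection given by the two pairs through it and by whether lifts commute.
-/

set_option autoImplicit false
set_option linter.unusedSectionVars false
set_option linter.unusedDecidableInType false
set_option linter.unusedFintypeInType false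

namespace CfsgLib.FischerTypes.M24QuadCent

open Cfsg CfsgLib.FischerTypes
open CfsgLib.Transpositions.TypeM24

attribute [local instance] Classical.propDecidable

variable {G : Type*} [Group G]

/-- The centralizer of `z`. -/
abbrev CC (z : G) : Subgroup G := Subgroup.centralizer ({z} : Set G)

theorem mem_CC {z x : G} : x ∈ CC z ↔ Commute x z := Subgroup.mem_centralizer_singleton_iff

/-- The subgroup generated by `z` in its centralizer. -/
def Zc (z : G) : Subgroup ↥(CC z) := Subgroup.zpowers ⟨z, mem_CC.2 (Commute.refl z)⟩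

instance (z : G) : (Zc z).Normal := by
  refine ⟨fun n hn g => ?_⟩
  obtain ⟨k, rfl⟩ := Subgroup.mem_zpowers_iff.1 hn
  have hc : Commute g (⟨z, mem_CC.2 (Commute.refl z)⟩ : ↥(CC z)) := Subtype.ext (mem_CC.1 g.2).eq
  rw [(hc.zpow_right k).eq, mul_inv_cancel_right]
  exact hn

/-- The quotient by `z`. -/
abbrev Quo (z : G) := ↥(CC z) ⧸ Zc z

/-- The class of an element of `G`; trivial outside the centralizer. -/
noncomputable def cl (z x : G) : Quo z :=
  if h : x ∈ CC z then QuotientGroup.mk ⟨x, h⟩ else 1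

theorem cl_of_mem {z x : G} (h : x ∈ CC z) : cl z x = QuotientGroup.mk ⟨x, h⟩ := dif_pos h

theorem cl_coe {z : G} (x : ↥(CC z)) : cl z (x : G) = QuotientGroup.mk x := cl_of_mem x.2

theorem exists_cl {z : G} (p : Quo z) : ∃ x ∈ CC z, cl z x = p := by
  obtain ⟨⟨x, hx⟩, rfl⟩ := QuotientGroup.mk_surjective p
  exact ⟨x, hx, cl_of_mem hx⟩

theorem cl_mul {z x y : G} (hx : x ∈ CC z) (hy : y ∈ CC z) : cl z (x * y) = cl z x * cl z y := by
  rw [cl_of_mem hx, cl_of_mem hy, cl_of_mem (mul_mem hx hy), ← QuotientGroup.mk_mul]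
  rfl

theorem cl_inv {z x : G} (hx : x ∈ CC z) : cl z x⁻¹ = (cl z x)⁻¹ := by
  rw [cl_of_mem hx, cl_of_mem (inv_mem hx), ← QuotientGroup.mk_inv]
  rfl

theorem cl_one (z : G) : cl z 1 = 1 := cl_of_mem (one_mem _)

theorem cl_self (z : G) : cl z z = 1 :=
  (cl_of_mem _).trans ((QuotientGroup.eq_one_iff _).2 (Subgroup.mem_zpowers _))

/-- The commutation of lifts. -/
noncomputable def nc {z : G} (p q : Quo z) : Bool :=
  decide (¬ Commute ((Quotient.out p : ↥(CC z)) : G) ((Quotient.out q : ↥(CC z)) : G))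

/-- The classes of the pairs of a set of members. -/
def pairs (z : G) (R : Finset G) : Set (Quo z) := {p | ∃ a ∈ R, ∃ b ∈ R, a ≠ b ∧ p = cl z (a * b)}

/-- The section generated by the pairs of all quadruples. -/
def Abar (D : Set G) (z : G) : Subgroup (Quo z) :=
  Subgroup.closure {p | ∃ R, IsRep D z R ∧ p ∈ pairs z R}

theorem exists_four {R : Finset G} (h4 : R.card = 4) {a b : G} (ha : a ∈ R) (hb : b ∈ R) (hab : a ≠ b) :
    ∃ c e, c ≠ e ∧ a ≠ c ∧ a ≠ e ∧ b ≠ c ∧ b ≠ e ∧ R = {a, b, c, e} := by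
  have hbe : b ∈ R.erase a := Finset.mem_erase.2 ⟨hab.symm, hb⟩
  have h2 : ((R.erase a).erase b).card = 2 := by
    rw [Finset.card_erase_of_mem hbe, Finset.card_erase_of_mem ha, h4]
  obtain ⟨c, e, hce, he⟩ := Finset.card_eq_two.1 h2
  have hc : c ∈ (R.erase a).erase b := by simp [he]
  have he' : e ∈ (R.erase a).erase b := by simp [he]
  simp only [Finset.mem_erase] at hc he'
  refine ⟨c, e, hce, hc.2.1.symm, he'.2.1.symm, hc.1.symm, he'.1.symm, ?_⟩
  rw [← Finset.insert_erase ha, ← Finset.insert_erase hbe, he]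

variable [Finite G] {D : Set G} {z : G}

theorem mem_CC_of_Mz {x : G} (hx : x ∈ Mz D z) : x ∈ CC z := mem_CC.2 hx.2

theorem IsRep.mem_CC (H : M24.Hyp G D) {R : Finset G} (hR : IsRep D z R) {a : G} (ha : a ∈ R) :
    a ∈ CC z := mem_CC_of_Mz (hR.subset_Mz H ha)

variable (S₀ : Setting G D z)

include S₀

theorem Setting.cl_eq_iff {x y : G} (hx : x ∈ CC z) (hy : y ∈ CC z) :
    cl z x = cl z y ↔ y = x ∨ y = x * z := by
  constructor
  · intro h
    rw [cl_of_mem hx, cl_of_mem hy, QuotientGroup.eq, Zc, Subgroup.mem_zpowers_iff] at h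
    obtain ⟨k, hk⟩ := h
    have hk' : z ^ k = x⁻¹ * y := by simpa using congrArg Subtype.val hk
    have hz2 : z ^ (2 : ℤ) = 1 := by rw [zpow_two, S₀.commute_z_z]
    rcases Int.even_or_odd' k with ⟨m, rfl | rfl⟩
    · rw [zpow_mul, hz2, one_zpow, eq_comm, inv_mul_eq_one] at hk'
      exact Or.inl hk'.symm
    · rw [zpow_add_one, zpow_mul, hz2, one_zpow, one_mul, eq_inv_mul_iff_mul_eq] at hk'
      exact Or.inr hk'.symm
  · rintro (rfl | rfl)
    · rfl
    · rw [cl_mul hx (mem_CC.2 (Commute.refl z)), cl_self, mul_one]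

theorem Setting.nc_cl {x y : G} (hx : x ∈ CC z) (hy : y ∈ CC z) :
    nc (cl z x) (cl z y) = decide (¬ Commute x y) := by
  have hout : ∀ {w : G}, w ∈ CC z → ((Quotient.out (cl z w) : ↥(CC z)) : G) = w ∨
      ((Quotient.out (cl z w) : ↥(CC z)) : G) = w * z := fun {w} hw =>
    (S₀.cl_eq_iff hw (Quotient.out (cl z w)).2).1 (by rw [cl_coe]; exact (QuotientGroup.out_eq' _).symm)
  have key : ∀ {u v : G}, v ∈ CC z → (Commute (u * z) v ↔ Commute u v) := fun {u v} hv => by
    constructor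
    · intro h
      have := h.mul_left (mem_CC.1 hv).symm
      rwa [mul_assoc, S₀.commute_z_z, mul_one] at this
    · exact fun h => h.mul_left (mem_CC.1 hv).symm
  have hiff : Commute ((Quotient.out (cl z x) : ↥(CC z)) : G) ((Quotient.out (cl z y) : ↥(CC z)) : G) ↔
      Commute x y := by
    rcases hout hx with e | e <;> rcases hout hy with e' | e' <;> rw [e, e']
    · exact ⟨fun h => ((key hx).1 h.symm).symm, fun h => ((key hx).2 h.symm).symm⟩
    · exact key hy
    · rw [key (mul_mem hy (mem_CC.2 (Commute.refl z)))]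
      exact ⟨fun h => ((key hx).1 h.symm).symm, fun h => ((key hx).2 h.symm).symm⟩
  simp only [nc, hiff]

theorem Setting.nc_false_iff {x y : G} (hx : x ∈ CC z) (hy : y ∈ CC z) :
    nc (cl z x) (cl z y) = false ↔ Commute x y := by
  rw [S₀.nc_cl hx hy, decide_eq_false_iff_not, not_not]

theorem Setting.nc_comm (p q : Quo z) : nc p q = nc q p := by
  simp only [nc, Commute.symm_iff]

theorem Setting.nc_self (p : Quo z) : nc p p = false := by simp [nc]

theorem Setting.nc_one (p : Quo z) : nc (1 : Quo z) p = false := by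
  obtain ⟨x, hx, rfl⟩ := exists_cl p
  rw [← cl_one z, S₀.nc_false_iff (one_mem _) hx]
  exact Commute.one_left x

theorem Setting.nc_conj (g p q : Quo z) : nc (g * p * g⁻¹) (g * q * g⁻¹) = nc p q := by
  obtain ⟨w, hw, rfl⟩ := exists_cl g
  obtain ⟨x, hx, rfl⟩ := exists_cl p
  obtain ⟨y, hy, rfl⟩ := exists_cl q
  rw [← cl_inv hw, ← cl_mul hw hx, ← cl_mul (mul_mem hw hx) (inv_mem hw), ← cl_mul hw hy,
    ← cl_mul (mul_mem hw hy) (inv_mem hw), S₀.nc_cl (mul_mem (mul_mem hw hx) (inv_mem hw))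
    (mul_mem (mul_mem hw hy) (inv_mem hw)), S₀.nc_cl hx hy]
  simp only [commute_conj_iff']

/-- The three pairs at a member of a quadruple. -/
theorem Setting.four {R : Finset G} (hR : IsRep D z R) {a b c e : G} (hRe : R = {a, b, c, e})
    (hab : a ≠ b) (hac : a ≠ c) (hae : a ≠ e) (hbc : b ≠ c) (hbe : b ≠ e) (hce : c ≠ e) :
    a * b * (c * e) = z ∧ cl z (a * b) = cl z (c * e) ∧ cl z (a * e) = cl z (b * c) ∧
      cl z (a * c) = cl z (b * e) ∧ cl z (a * b) * cl z (a * c) = cl z (a * e) := by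
  have hH := S₀.hyp
  have h1 := hR.prod_eq hH (l := [a, b, c, e]) (by simp [hab, hac, hae, hbc, hbe, hce]) (by simp [hRe])
  have h2 := hR.prod_eq hH (l := [a, c, b, e]) (by simp [hab, hac, hae, hbc.symm, hbe, hce])
    (by simp [hRe, or_left_comm])
  have h3 := hR.prod_eq hH (l := [a, e, b, c]) (by simp [hab, hac, hae, hbc, hbe.symm, hce.symm])
    (by simp [hRe, or_left_comm, or_comm])
  simp only [List.prod_cons, List.prod_nil, mul_one, ← mul_assoc] at h1 h2 h3
  have m : ∀ {x}, x ∈ R → x ∈ CC z := fun hx => hR.mem_CC hH hx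
  have ma := m (x := a) (by simp [hRe]); have mb := m (x := b) (by simp [hRe])
  have mc := m (x := c) (by simp [hRe]); have me := m (x := e) (by simp [hRe])
  have sq : ∀ {x y : G}, x ∈ R → y ∈ R → x * y * (x * y) = 1 := fun {x y} hx hy => by
    rw [mul_assoc, ← mul_assoc y, (hR.comm y hy x hx).eq, mul_assoc x y, mul_self hH.group.1 (hR.mem y hy),
      mul_one, mul_self hH.group.1 (hR.mem x hx)]
  have key : ∀ {p q r s : G}, p ∈ R → q ∈ R → r ∈ CC z → s ∈ CC z → p * q * r * s = z →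
      cl z (p * q) = cl z (r * s) := fun {p q r s} hp hq hr hs h => by
    refine (S₀.cl_eq_iff (mul_mem (m hp) (m hq)) (mul_mem hr hs)).2 (Or.inr ?_)
    rw [← h, show p * q * (p * q * r * s) = p * q * (p * q) * (r * s) by group, sq hp hq, one_mul]
  have e3 := key (p := a) (q := e) (by simp [hRe]) (by simp [hRe]) mb mc h3
  refine ⟨by rw [← mul_assoc]; exact h1, key (by simp [hRe]) (by simp [hRe]) mc me h1, e3,
    key (by simp [hRe]) (by simp [hRe]) mb me h2, ?_⟩
  rw [e3, ← cl_mul (mul_mem ma mb) (mul_mem ma mc)]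
  congr 1
  rw [(hR.comm a (by simp [hRe]) b (by simp [hRe])).eq, mul_assoc,
    mul_self_cancel hH.group.1 (hR.mem a (by simp [hRe]))]

theorem Setting.cl_pair_ne_one {R : Finset G} (hR : IsRep D z R) {a b : G} (ha : a ∈ R) (hb : b ∈ R)
    (hab : a ≠ b) : cl z (a * b) ≠ 1 := by
  intro h
  rw [← cl_one z, eq_comm, S₀.cl_eq_iff (one_mem _) (mul_mem (hR.mem_CC S₀.hyp ha) (hR.mem_CC S₀.hyp hb))] at h
  have hl : IsCList D [a, b] := isCList_pair (hR.mem a ha) ⟨hR.mem b hb, hab.symm, hR.comm a ha b hb⟩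
  rcases h with h | h
  · exact hab ((Transpositions.mul_eq_one_iff S₀.hyp.group.1 (hR.mem b hb)).1 h)
  · exact S₀.not_short hl (by simp) (by simpa using h)

/-- A quadruple is determined by any of its pairs. -/
theorem Setting.eq_of_pairs {R U : Finset G} (hR : IsRep D z R) (hU : IsRep D z U) {p : Quo z}
    (hp : p ∈ pairs z R) (hp' : p ∈ pairs z U) : R = U := by
  have hH := S₀.hyp
  have hpu := pairUnique hH.group.1 (noTwins_of_primitive hH.group hH.type.1 hH.prim)
  obtain ⟨a, ha, b, hb, hab, rfl⟩ := hp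
  obtain ⟨x, hx, y, hy, hxy, he⟩ := hp'
  obtain ⟨c, e, hce, hac, hae, hbc, hbe, hRe⟩ := exists_four hR.card ha hb hab
  obtain ⟨h1, -, -, -, -⟩ := S₀.four hR hRe hab hac hae hbc hbe hce
  have hxR : x ∈ R := by
    rcases (S₀.cl_eq_iff (mul_mem (hR.mem_CC hH ha) (hR.mem_CC hH hb))
      (mul_mem (hU.mem_CC hH hx) (hU.mem_CC hH hy))).1 he with h | h
    · rcases hpu x (hU.mem x hx) y (hU.mem y hy) a (hR.mem a ha) b (hR.mem b hb) hxy (hU.comm x hx y hy) hab
        (hR.comm a ha b hb) h with ⟨rfl, -⟩ | ⟨rfl, -⟩ <;> assumption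
    · have hc : c ∈ R := by simp [hRe]
      have he' : e ∈ R := by simp [hRe]
      rw [← h1, ← mul_assoc (a * b), mul_assoc a b (a * b), ← mul_assoc b a b, (hR.comm b hb a ha).eq,
        mul_assoc a b b, mul_self hH.group.1 (hR.mem b hb), mul_one, mul_self hH.group.1 (hR.mem a ha),
        one_mul] at h
      rcases hpu x (hU.mem x hx) y (hU.mem y hy) c (hR.mem c hc) e (hR.mem e he') hxy (hU.comm x hx y hy) hce
        (hR.comm c hc e he') h with ⟨rfl, -⟩ | ⟨rfl, -⟩ <;> assumption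
  exact hR.eq_of_mem hH hU hxR hx

theorem Setting.pairs_mem_Abar {R : Finset G} (hR : IsRep D z R) {p : Quo z} (hp : p ∈ pairs z R) :
    p ∈ Abar D z := Subgroup.subset_closure ⟨R, hR, hp⟩

/-- The pair `ab` moves each member of a non-commuting quadruple inside it. -/
theorem Setting.sigma {R U : Finset G} (hR : IsRep D z R) (hU : IsRep D z U) {a b y y' : G} (ha : a ∈ R)
    (hb : b ∈ R) (hab : a ≠ b) (hy : y ∈ U) (hy' : y' ∈ U) (hne : y ≠ y') (hay : ¬ Commute a y) :
    cl z (a * b) * cl z (y * y') * (cl z (a * b))⁻¹ = cl z (y * y') ∧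
      (nc (cl z (a * b)) (cl z (y * y')) = false ↔ a * b * y * b * a = y') := by
  have hH := S₀.hyp
  have h := hH.group
  have hay' : ¬ Commute a y' := fun hc => hay (hU.commute_all hH (hR.subset_Mz hH ha) hy' hc y hy)
  obtain ⟨hu, huy⟩ := S₀.conj_pair hR hU ha hb hab hy hay
  obtain ⟨hu', huy'⟩ := S₀.conj_pair hR hU ha hb hab hy' hay'
  set g := a * b with hg
  have hginv : g⁻¹ = b * a := by rw [hg, mul_inv_rev, inv_eq h.1 (hR.mem a ha), inv_eq h.1 (hR.mem b hb)]
  have hgg : g = g⁻¹ := by rw [hginv, hg, (hR.comm a ha b hb).eq]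
  have hconj : ∀ x : G, g * x * b * a = g * x * g⁻¹ := fun x => by rw [hginv, ← mul_assoc]
  rw [hconj] at hu huy hu' huy' ⊢
  have hgC : g ∈ CC z := mul_mem (hR.mem_CC hH ha) (hR.mem_CC hH hb)
  have hyC : y * y' ∈ CC z := mul_mem (hU.mem_CC hH hy) (hU.mem_CC hH hy')
  have hinv : ∀ x, g * (g * x * g⁻¹) * g⁻¹ = x := fun x => by
    nth_rewrite 1 [hgg]; nth_rewrite 3 [hgg]; group
  have hcl : cl z g * cl z (y * y') * (cl z g)⁻¹ = cl z (g * y * g⁻¹ * (g * y' * g⁻¹)) := by
    rw [← cl_inv hgC, ← cl_mul hgC hyC, ← cl_mul (mul_mem hgC hyC) (inv_mem hgC)]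
    congr 1
    group
  have hcomm : ∀ {x : G}, x ∈ CC z → (Commute g x ↔ g * x * g⁻¹ = x) := fun {x} _ =>
    (mul_inv_eq_iff_eq_mul (a := g * x) (b := g) (c := x)).symm
  rw [hcl, S₀.nc_false_iff hgC hyC, hcomm hyC, show g * (y * y') * g⁻¹ = g * y * g⁻¹ * (g * y' * g⁻¹) by group]
  by_cases hs : g * y * g⁻¹ = y'
  · have hs' : g * y' * g⁻¹ = y := by rw [← hs, hinv]
    rw [hs, hs', (hU.comm y' hy' y hy).eq]
    exact ⟨rfl, iff_of_true rfl rfl⟩
  · obtain ⟨c, e, hce, hyc, hye, hy'c, hy'e, hUe⟩ := exists_four hU.card hy hy' hne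
    obtain ⟨h1, h2, -, -, -⟩ := S₀.four hU hUe hne hyc hye hy'c hy'e hce
    have hcases : ∀ x ∈ U, x ≠ y → x ≠ y' → x = c ∨ x = e := fun x hx n1 n2 => by
      simpa [hUe, n1, n2] using hx
    have n1 : g * y' * g⁻¹ ≠ y := fun he => hs (by rw [← he, hinv])
    have n2 : g * y * g⁻¹ ≠ g * y' * g⁻¹ := fun he => hne (mul_left_cancel (mul_right_cancel he))
    have hprod : g * y * g⁻¹ * (g * y' * g⁻¹) = c * e := by
      rcases hcases _ hu huy hs with e1 | e1 <;> rcases hcases _ hu' n1 huy' with e2 | e2 <;>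
        rw [e1, e2] at n2 ⊢
      · exact absurd rfl n2
      · exact hU.comm e (by simp [hUe]) c (by simp [hUe])
      · exact absurd rfl n2
    rw [hprod]
    refine ⟨h2.symm, iff_of_false (fun he => S₀.z_ne_one ?_) hs⟩
    rw [← h1, he, ← mul_assoc, mul_assoc y y' y, (hU.comm y' hy' y hy).eq, ← mul_assoc,
      mul_self h.1 (hU.mem y hy), one_mul, mul_self h.1 (hU.mem y' hy')]

/-- The generators of the section commute. -/
theorem Setting.pairs_commute {R U : Finset G} (hR : IsRep D z R) (hU : IsRep D z U) {p q : Quo z}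
    (hp : p ∈ pairs z R) (hq : q ∈ pairs z U) : Commute p q := by
  have hH := S₀.hyp
  obtain ⟨a, ha, b, hb, hab, rfl⟩ := hp
  obtain ⟨y, hy, y', hy', hne, rfl⟩ := hq
  by_cases hay : Commute a y
  · have hc : ∀ v ∈ R, ∀ w ∈ U, Commute v w := fun v hv w hw =>
      (hR.commute_all hH (hU.subset_Mz hH hw) ha
        (hU.commute_all hH (hR.subset_Mz hH ha) hy hay w hw).symm v hv).symm
    have hcomm : Commute (a * b) (y * y') := ((hc a ha y hy).mul_right (hc a ha y' hy')).mul_left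
      ((hc b hb y hy).mul_right (hc b hb y' hy'))
    have m1 := mul_mem (hR.mem_CC hH ha) (hR.mem_CC hH hb)
    have m2 := mul_mem (hU.mem_CC hH hy) (hU.mem_CC hH hy')
    show _ = _
    rw [← cl_mul m1 m2, ← cl_mul m2 m1, hcomm.eq]
  · exact mul_inv_eq_iff_eq_mul.1 (S₀.sigma hR hU ha hb hab hy hy' hne hay).1

theorem Setting.abar_comm {p q : Quo z} (hp : p ∈ Abar D z) (hq : q ∈ Abar D z) : Commute p q := by
  induction hp, hq using Subgroup.closure_induction₂ with
  | mem x y hx hy =>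
    obtain ⟨R, hR, hx⟩ := hx; obtain ⟨U, hU, hy⟩ := hy
    exact S₀.pairs_commute hR hU hx hy
  | one_left => exact Commute.one_left _
  | one_right => exact Commute.one_right _
  | mul_left _ _ _ _ _ _ h1 h2 => exact h1.mul_left h2
  | mul_right _ _ _ _ _ _ h1 h2 => exact h1.mul_right h2
  | inv_left _ _ _ _ h1 => exact h1.inv_left
  | inv_right _ _ _ _ h1 => exact h1.inv_right

theorem Setting.abar_sq {p : Quo z} (hp : p ∈ Abar D z) : p * p = 1 := by
  induction hp using Subgroup.closure_induction with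
  | mem x hx =>
    obtain ⟨R, hR, a, ha, b, hb, -, rfl⟩ := hx
    have hC := mul_mem (hR.mem_CC S₀.hyp ha) (hR.mem_CC S₀.hyp hb)
    rw [← cl_mul hC hC, mul_assoc, ← mul_assoc b, (hR.comm b hb a ha).eq, mul_assoc a b,
      mul_self S₀.hyp.group.1 (hR.mem b hb), mul_one, mul_self S₀.hyp.group.1 (hR.mem a ha), cl_one]
  | one => rw [one_mul]
  | mul x y hx hy h1 h2 =>
    rw [mul_assoc, ← mul_assoc y, (S₀.abar_comm hy hx).eq, mul_assoc x y, h2, mul_one, h1]
  | inv x _ h1 => rw [← mul_inv_rev, h1, inv_one]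

/-- Non-commutation of lifts is additive on classes commuting with a given one. -/
theorem Setting.nc_mul_of_commute {p q r : Quo z} (hp : Commute p r) (hq : Commute q r) :
    nc (p * q) r = xor (nc p r) (nc q r) := by
  obtain ⟨x, hx, rfl⟩ := exists_cl p
  obtain ⟨y, hy, rfl⟩ := exists_cl q
  obtain ⟨w, hw, rfl⟩ := exists_cl r
  have conj : ∀ {v : G}, v ∈ CC z → Commute (cl z v) (cl z w) → v * w * v⁻¹ = w ∨ v * w * v⁻¹ = w * z := by
    intro v hv hvA
    refine (S₀.cl_eq_iff hw (mul_mem (mul_mem hv hw) (inv_mem hv))).1 ?_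
    rw [cl_mul (mul_mem hv hw) (inv_mem hv), cl_mul hv hw, cl_inv hv, hvA.eq,
      mul_inv_cancel_right]
  have hiff : ∀ {v : G}, Commute v w ↔ v * w * v⁻¹ = w := fun {v} =>
    (mul_inv_eq_iff_eq_mul (a := v * w) (b := v) (c := w)).symm
  have hwz : w * z ≠ w := fun h => S₀.z_ne_one (mul_eq_left.1 h)
  rw [← cl_mul hx hy, S₀.nc_cl (mul_mem hx hy) hw, S₀.nc_cl hx hw, S₀.nc_cl hy hw]
  simp only [hiff]
  rw [show x * y * w * (x * y)⁻¹ = x * (y * w * y⁻¹) * x⁻¹ by group]
  have hxz : x * z * x⁻¹ = z := mul_inv_eq_iff_eq_mul.2 (mem_CC.1 hx).eq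
  have hdist : x * (w * z) * x⁻¹ = (x * w * x⁻¹) * z := by
    conv_rhs => rw [← hxz]
    group
  rcases conj hy hq with e | e <;> rw [e] <;> rcases conj hx hp with e' | e'
  · simp [e']
  · simp [e', hwz]
  · rw [hdist, e']; simp [hwz]
  · rw [hdist, e', mul_assoc, S₀.commute_z_z]; simp [hwz]

/-- Non-commutation of lifts is additive on the section. -/
theorem Setting.nc_mul {p q r : Quo z} (hp : p ∈ Abar D z) (hq : q ∈ Abar D z) (hr : r ∈ Abar D z) :
    nc (p * q) r = xor (nc p r) (nc q r) :=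
  S₀.nc_mul_of_commute (S₀.abar_comm hp hr) (S₀.abar_comm hq hr)

theorem Setting.nc_mul_right {p q r : Quo z} (hp : p ∈ Abar D z) (hq : q ∈ Abar D z) (hr : r ∈ Abar D z) :
    nc r (p * q) = xor (nc r p) (nc r q) := by
  rw [S₀.nc_comm r, S₀.nc_mul hp hq hr, S₀.nc_comm p r, S₀.nc_comm q r]

theorem Setting.sigma_inj {R U : Finset G} (hR : IsRep D z R) (hU : IsRep D z U) {a b c y : G} (ha : a ∈ R)
    (hb : b ∈ R) (hc : c ∈ R) (hbc : b ≠ c) (hy : y ∈ U) (hay : ¬ Commute a y) :
    a * b * y * b * a ≠ a * c * y * c * a := by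
  have hH := S₀.hyp
  intro he
  have hby : ¬ Commute b y := fun h' => hay (hR.commute_all hH (hU.subset_Mz hH hy) hb h'.symm a ha).symm
  refine (S₀.conj_pair hR hU hc hb hbc.symm hy fun h' =>
    hay (hR.commute_all hH (hU.subset_Mz hH hy) hc h'.symm a ha).symm).2 ?_
  have ha2 := mul_self hH.group.1 (hR.mem a ha)
  have e2 : b * y * b = c * y * c := by
    have := congrArg (fun t => a * t * a) he
    simpa [mul_assoc, mul_self_cancel hH.group.1 (hR.mem a ha), ha2] using this
  rw [show c * b * y * b * c = c * (b * y * b) * c by simp [mul_assoc], e2]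
  simp [mul_assoc, mul_self_cancel hH.group.1 (hR.mem c hc), mul_self hH.group.1 (hR.mem c hc)]

/-- Of the three pairs of a quadruple exactly one commutes with a pair of a non-commuting one. -/
theorem Setting.exists_orth {R U : Finset G} (hR : IsRep D z R) (hU : IsRep D z U) {a y y' : G} (ha : a ∈ R)
    (hy : y ∈ U) (hy' : y' ∈ U) (hne : y ≠ y') (hay : ¬ Commute a y) :
    ∃ b ∈ R, b ≠ a ∧ a * b * y * b * a = y' ∧
      ∀ c ∈ R, c ≠ a → (nc (cl z (a * c)) (cl z (y * y')) = false ↔ c = b) := by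
  classical
  have hcard : (R.erase a).card = (U.erase y).card := by
    rw [Finset.card_erase_of_mem ha, Finset.card_erase_of_mem hy, hR.card, hU.card]
  have hmaps : ∀ b ∈ R.erase a, a * b * y * b * a ∈ U.erase y := fun b hb => by
    obtain ⟨hba, hb⟩ := Finset.mem_erase.1 hb
    obtain ⟨h1, h2⟩ := S₀.conj_pair hR hU ha hb hba.symm hy hay
    exact Finset.mem_erase.2 ⟨h2, h1⟩
  obtain ⟨b, hb, hby⟩ : ∃ b ∈ R.erase a, a * b * y * b * a = y' := by
    obtain ⟨b, hb, hb'⟩ := Finset.surj_on_of_inj_on_of_card_le (fun b _ => a * b * y * b * a) hmaps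
      (fun b c hb hc he => by
        by_contra hbc
        exact S₀.sigma_inj hR hU ha (Finset.mem_of_mem_erase hb) (Finset.mem_of_mem_erase hc) hbc hy hay he)
      hcard.ge y' (Finset.mem_erase.2 ⟨hne.symm, hy'⟩)
    exact ⟨b, hb, hb'.symm⟩
  obtain ⟨hba, hb⟩ := Finset.mem_erase.1 hb
  refine ⟨b, hb, hba, hby, fun c hc hca => ?_⟩
  rw [(S₀.sigma hR hU ha hc hca.symm hy hy' hne hay).2]
  exact ⟨fun h => by_contra fun hcb => S₀.sigma_inj hR hU ha hc hb hcb hy hay (h.trans hby.symm),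
    fun h => h ▸ hby⟩

/-- A pair of a quadruple, seen from one of its members. -/
theorem Setting.exists_at {R : Finset G} (hR : IsRep D z R) {p : Quo z} (hp : p ∈ pairs z R) {a : G}
    (ha : a ∈ R) : ∃ b ∈ R, b ≠ a ∧ p = cl z (a * b) := by
  obtain ⟨x, hx, y, hy, hxy, rfl⟩ := hp
  by_cases hax : a = x
  · exact ⟨y, hy, hax ▸ hxy.symm, by rw [hax]⟩
  by_cases hay : a = y
  · exact ⟨x, hx, fun h => hax h.symm, by rw [hay, (hR.comm x hx y hy).eq]⟩
  obtain ⟨c, e, hce, hxc, hxe, hyc, hye, hRe⟩ := exists_four hR.card hx hy hxy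
  have h2 := (S₀.four hR hRe hxy hxc hxe hyc hye hce).2.1
  obtain rfl | rfl : a = c ∨ a = e := by simpa [hRe, hax, hay] using ha
  · exact ⟨e, by simp [hRe], hce.symm, h2⟩
  · exact ⟨c, by simp [hRe], hce, by rw [h2, (hR.comm c (by simp [hRe]) a (by simp [hRe])).eq]⟩

/-- The three pairs at a member multiply to one. -/
theorem Setting.pair_mul {R : Finset G} (hR : IsRep D z R) {w b c f : G} (hw : w ∈ R) (hb : b ∈ R)
    (hc : c ∈ R) (hf : f ∈ R) (hwb : w ≠ b) (hcw : c ≠ w) (hcb : c ≠ b) (hfw : f ≠ w) (hfb : f ≠ b)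
    (hfc : f ≠ c) : cl z (w * b) * cl z (w * c) = cl z (w * f) := by
  obtain ⟨c', e, hce, hwc, hwe, hbc, hbe, hRe⟩ := exists_four hR.card hw hb hwb
  have h5 := (S₀.four hR hRe hwb hwc hwe hbc hbe hce).2.2.2.2
  have hc2 : c = c' ∨ c = e := by simpa [hRe, hcw, hcb] using hc
  have hf2 : f = c' ∨ f = e := by simpa [hRe, hfw, hfb] using hf
  rcases hc2 with rfl | rfl <;> rcases hf2 with rfl | rfl
  · exact absurd rfl hfc
  · exact h5
  · rw [← h5, ← mul_assoc, S₀.abar_sq (S₀.pairs_mem_Abar hR ⟨w, hw, b, hb, hwb, rfl⟩), one_mul]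
  · exact absurd rfl hfc

/-- A member moves a pair of a non-commuting quadruple by the commuting pair of its own. -/
theorem Setting.conj_pair_eq {R U : Finset G} (hR : IsRep D z R) (hU : IsRep D z U) {w b y y' : G}
    (hw : w ∈ R) (hb : b ∈ R) (hy : y ∈ U) (hy' : y' ∈ U) (hyy' : y ≠ y') (hwy : ¬ Commute w y)
    (hby : w * b * y * b * w = y') :
    cl z w * cl z (y * y') * (cl z w)⁻¹ = cl z (y * y') * cl z (w * b) := by
  have hH := S₀.hyp
  have h := hH.group
  have hby' : ¬ Commute b y := fun hc => hwy (hR.commute_all hH (hU.subset_Mz hH hy) hb hc.symm w hw).symm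
  have mw := hR.mem_CC hH hw; have mb := hR.mem_CC hH hb
  have myy : y * y' ∈ CC z := mul_mem (hU.mem_CC hH hy) (hU.mem_CC hH hy')
  have mwb : w * b ∈ CC z := mul_mem mw mb
  have e : w * (y * y') * w⁻¹ = w * b * (y * y') := by
    have w2 := mul_self h.1 (hR.mem w hw)
    have cwb := (hR.comm w hw b hb).eq
    have s1 : w * y' * w = b * y * b := by
      rw [← hby]; simp [mul_assoc, mul_self_cancel h.1 (hR.mem w hw), w2]
    calc w * (y * y') * w⁻¹ = (w * y * w) * (w * y' * w) := by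
          rw [inv_eq h.1 (hR.mem w hw)]; simp [mul_assoc, mul_self_cancel h.1 (hR.mem w hw)]
      _ = (y * w * y) * (y * b * y) := by
          rw [s1, braid h.1 (hR.mem w hw) (hU.mem y hy) hwy, braid h.1 (hR.mem b hb) (hU.mem y hy) hby']
      _ = y * (w * b) * y := by simp [mul_assoc, mul_self_cancel h.1 (hU.mem y hy)]
      _ = w * b * y' * y := by
          rw [← hby]
          simp only [mul_assoc]
          rw [← mul_assoc b w, ← cwb, mul_assoc w b, mul_self_cancel h.1 (hR.mem w hw),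
            mul_self_cancel h.1 (hR.mem b hb)]
          rw [← mul_assoc w b y, cwb, mul_assoc]
      _ = w * b * (y * y') := by rw [mul_assoc, (hU.comm y' hy' y hy).eq]
  rw [← cl_inv mw, ← cl_mul mw myy, ← cl_mul (mul_mem mw myy) (inv_mem mw), e, cl_mul mwb myy]
  have hwb : w ≠ b := by
    rintro rfl
    rw [mul_self h.1 (hR.mem w hw), one_mul, mul_assoc, mul_self h.1 (hR.mem w hw), mul_one] at hby
    exact hyy' hby
  exact (S₀.abar_comm (S₀.pairs_mem_Abar hR ⟨w, hw, b, hb, hwb, rfl⟩)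
    (S₀.pairs_mem_Abar hU ⟨y, hy, y', hy', hyy', rfl⟩)).eq

/-- A member acts on the section as a transvection. -/
theorem Setting.conj_eq {R : Finset G} (hR : IsRep D z R) {w : G} (hw : w ∈ R) {α β : Quo z}
    (hα : α ∈ pairs z R) (hβ : β ∈ pairs z R) (hαβ : α ≠ β) {q : Quo z} (hq : q ∈ Abar D z) :
    cl z w * q * (cl z w)⁻¹ = q * (if nc q β then α else 1) * (if nc q α then β else 1) := by
  have hH := S₀.hyp
  have hαA := S₀.pairs_mem_Abar hR hα
  have hβA := S₀.pairs_mem_Abar hR hβ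
  induction hq using Subgroup.closure_induction with
  | one => simp [S₀.nc_one]
  | inv x hx ih =>
    have : x⁻¹ = x := inv_eq_of_mul_eq_one_right (S₀.abar_sq hx)
    rwa [this]
  | mul x y hx hy ihx ihy =>
    rw [show cl z w * (x * y) * (cl z w)⁻¹ = cl z w * x * (cl z w)⁻¹ * (cl z w * y * (cl z w)⁻¹) by group,
      ihx, ihy, S₀.nc_mul hx hy hβA, S₀.nc_mul hx hy hαA]
    have c1 := (S₀.abar_comm hαA hy).eq
    have c2 := (S₀.abar_comm hβA hy).eq
    have c3 := (S₀.abar_comm hβA hαA).eq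
    have s1 := S₀.abar_sq hαA
    have s2 := S₀.abar_sq hβA
    cases nc x β <;> cases nc y β <;> cases nc x α <;> cases nc y α <;>
      simp only [Bool.xor_false, Bool.xor_true, Bool.not_false, Bool.not_true, mul_one,
        Bool.false_eq_true, ↓reduceIte] <;>
      grind
  | mem q hq =>
    obtain ⟨U, hU, y, hy, y', hy', hne, rfl⟩ := hq
    obtain ⟨b, hb, hba, rfl⟩ := S₀.exists_at hR hα hw
    obtain ⟨c, hc, hca, rfl⟩ := S₀.exists_at hR hβ hw
    have hbc : b ≠ c := fun e => hαβ (by rw [e])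
    have myy := mul_mem (hU.mem_CC hH hy) (hU.mem_CC hH hy')
    have mw := hR.mem_CC hH hw
    rw [S₀.nc_comm (cl z (y * y')) (cl z (w * c)), S₀.nc_comm (cl z (y * y')) (cl z (w * b))]
    by_cases hwy : Commute w y
    · have hall : ∀ v ∈ R, ∀ u ∈ U, Commute v u := fun v hv u hu =>
        (hR.commute_all hH (hU.subset_Mz hH hu) hw
          (hU.commute_all hH (hR.subset_Mz hH hw) hy hwy u hu).symm v hv).symm
      have hn : ∀ v ∈ R, nc (cl z (w * v)) (cl z (y * y')) = false := fun v hv =>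
        (S₀.nc_false_iff (mul_mem mw (hR.mem_CC hH hv)) myy).2
          (((hall w hw y hy).mul_right (hall w hw y' hy')).mul_left
            ((hall v hv y hy).mul_right (hall v hv y' hy')))
      rw [hn b hb, hn c hc, ← cl_inv mw, ← cl_mul mw myy, ← cl_mul (mul_mem mw myy) (inv_mem mw),
        ((hall w hw y hy).mul_right (hall w hw y' hy')).eq, mul_inv_cancel_right]
      simp
    · obtain ⟨f, hf, hfw, hfy, hforth⟩ := S₀.exists_orth hR hU hw hy hy' hne hwy
      rw [S₀.conj_pair_eq hR hU hw hf hy hy' hne hwy hfy]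
      have eb := hforth b hb hba
      have ec := hforth c hc hca
      by_cases hfb : f = b
      · subst hfb
        rw [eb.2 rfl, Bool.eq_true_of_not_eq_false fun h0 => hbc (ec.1 h0).symm]
        simp
      · rw [Bool.eq_true_of_not_eq_false fun h0 => hfb (eb.1 h0).symm]
        by_cases hfc : f = c
        · subst hfc
          rw [ec.2 rfl]
          simp
        · rw [Bool.eq_true_of_not_eq_false fun h0 => hfc (ec.1 h0).symm,
            ← S₀.pair_mul hR hw hb hc hf hba.symm hca hbc.symm hfw hfb hfc]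
          simp [mul_assoc]

end CfsgLib.FischerTypes.M24QuadCent
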