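import Cfsg.Agent.FischerTypes.M24QuadCent.Code
import Mathlib

/-!
# Products over the set bits of a code
-/

set_option autoImplicit false

namespace CfsgLib.FischerTypes.M24QuadCent

/-- The product of the entries selected by the bits of a code. -/
def sel {A : Type*} [Monoid A] : List A → ℕ → A
  | [], _ => 1
  | x :: l, n => (if n % 2 = 1 then x else 1) * sel l (n / 2)

variable {A : Type*} [Monoid A]

theorem sel_mem {S : Submonoid A} : ∀ {l : List A}, (∀ x ∈ l, x ∈ S) → ∀ n, sel l n ∈ S := by
  intro l
  induction l with
  | nil => exact fun _ _ => one_mem S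
  | cons x l ih =>
    intro h n
    refine mul_mem ?_ (ih (fun y hy => h y (List.mem_cons_of_mem _ hy)) _)
    split_ifs
    exacts [h x List.mem_cons_self, one_mem S]

theorem sel_zero (l : List A) : sel l 0 = 1 := by
  induction l with
  | nil => rfl
  | cons x l ih => simp [sel, ih]

/-- On commuting involutions, addition of codes is multiplication. -/
theorem sel_xor {S : Submonoid A} (hc : ∀ x ∈ S, ∀ y ∈ S, Commute x y) (hsq : ∀ x ∈ S, x * x = 1) :
    ∀ {l : List A}, (∀ x ∈ l, x ∈ S) → ∀ n m, sel l (n ^^^ m) = sel l n * sel l m := by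
  intro l
  induction l with
  | nil => simp [sel]
  | cons x l ih =>
    intro h n m
    have hx := h x List.mem_cons_self
    have hl := fun y hy => h y (List.mem_cons_of_mem x hy)
    have e2 : (n ^^^ m) / 2 = n / 2 ^^^ m / 2 := by
      simpa using Nat.xor_div_two_pow (n := 1) (a := n) (b := m)
    have e1 : (n ^^^ m) % 2 = 1 ↔ ¬ (n % 2 = 1 ↔ m % 2 = 1) := by
      have := Nat.testBit_xor n m 0
      simp only [Nat.testBit_zero] at this
      by_cases h1 : n % 2 = 1 <;> by_cases h2 : m % 2 = 1 <;> simp_all
    simp only [sel, e2, ih hl]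
    set a := sel l (n / 2)
    set b := sel l (m / 2)
    have ha : Commute a x := hc _ (sel_mem hl _) _ hx
    by_cases h1 : n % 2 = 1 <;> by_cases h2 : m % 2 = 1
    · rw [if_neg (fun h0 => e1.1 h0 (iff_of_true h1 h2)), if_pos h1, if_pos h2, one_mul, mul_assoc x a,
        ← mul_assoc a, ha.eq, mul_assoc x a, ← mul_assoc x x, hsq x hx, one_mul]
    · rw [if_pos (e1.2 fun h0 => h2 (h0.1 h1)), if_pos h1, if_neg h2, one_mul, mul_assoc]
    · rw [if_pos (e1.2 fun h0 => h1 (h0.2 h2)), if_neg h1, if_pos h2, one_mul, ← mul_assoc, ← mul_assoc,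
        ha.eq]
    · rw [if_neg (fun h0 => e1.1 h0 (iff_of_false h1 h2)), if_neg h1, if_neg h2, one_mul, one_mul, one_mul]

/-- An additive function turns `sel` into `Code.selB`. -/
theorem apply_sel {S : Submonoid A} (f : A → Bool) (h1 : f 1 = false)
    (hmul : ∀ x ∈ S, ∀ y ∈ S, f (x * y) = xor (f x) (f y)) :
    ∀ {l : List A}, (∀ x ∈ l, x ∈ S) → ∀ n, f (sel l n) = Code.selB (l.map f) n := by
  intro l
  induction l with
  | nil => exact fun _ _ => h1
  | cons x l ih =>
    intro h n
    have hl := fun y hy => h y (List.mem_cons_of_mem x hy)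
    have hx : (if n % 2 = 1 then x else 1) ∈ S := by
      split_ifs
      exacts [h x List.mem_cons_self, one_mem S]
    rw [sel, hmul _ hx _ (sel_mem hl _), ih hl, List.map_cons, Code.selB]
    by_cases hn : n % 2 = 1
    · simp [hn]
    · have : n % 2 = 0 := by omega
      simp [h1, this]

/-- A single indicator selects a bit. -/
theorem selB_single : ∀ (k j n : ℕ), Code.selB ((List.range k).map fun i => i == j) n =
    (decide (j < k) && n.testBit j) := by
  intro k
  induction k with
  | zero => simp [Code.selB]
  | succ k ih =>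
    intro j n
    rw [List.range_succ_eq_map, List.map_cons, List.map_map, Code.selB]
    cases j with
    | zero =>
      have h0 : ∀ (l : List ℕ) (m : ℕ), Code.selB (l.map fun _ => false) m = false := fun l => by
        induction l with
        | nil => simp [Code.selB]
        | cons i l ih => intro m; rw [List.map_cons, Code.selB, ih]; rfl
      rw [show ((fun i => i == 0) ∘ Nat.succ : ℕ → Bool) = fun _ => false from funext fun i => by simp, h0]
      simp only [Nat.zero_lt_succ, decide_true, Bool.true_and, Bool.xor_false, beq_self_eq_true, Nat.testBit_zero]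
      rw [Bool.eq_iff_iff]; simp
    | succ j =>
      have : ((fun i => i == j + 1) ∘ Nat.succ : ℕ → Bool) = fun i => i == j := by
        funext i; simp
      rw [this, ih, Nat.testBit_succ]
      simp

end CfsgLib.FischerTypes.M24QuadCent
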