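import Cfsg.Agent.FischerTypes.M24QuadCent.Frame
import Cfsg.Agent.FischerTypes.M24QuadCent.Coords

/-!
# A basis with one of the four standard Gram matrices

Five tetrads and three outside quadruples give twelve pairs with a standard matrix, the lines of the eight
quadruples in that basis being the eight generating ones.
-/

set_option autoImplicit false
set_option linter.unusedSectionVars false
set_option linter.unusedDecidableInType false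
set_option linter.unusedFintypeInType false

namespace CfsgLib.FischerTypes.M24QuadCent

open Cfsg CfsgLib.FischerTypes
open CfsgLib.Transpositions.TypeM24

attribute [local instance] Classical.propDecidable

variable {G : Type*} [Group G] [Finite G] {D : Set G} {z : G} (S₀ : Setting G D z)

include S₀

/-- A quadruple inside against one outside. -/
theorem Setting.side {M R U V S : Finset G} (hM : IsMaxClique D (M : Set G)) (hR : IsRep D z R) (hRM : R ⊆ M)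
    (hU : IsRep D z U) (hV : IsRep D z V) (hS : IsRep D z S) {s : G} (hsS : s ∈ S) (hsM : s ∉ M)
    (hadj : adj D M s = U ∪ V) :
    (R = U ∨ R = V → ¬ Opp R S) ∧ (R ≠ U → R ≠ V → Opp R S) := by
  have hH := S₀.hyp
  obtain ⟨a, ha⟩ := Finset.card_pos.1 (show 0 < R.card by rw [hR.card]; norm_num)
  constructor
  · intro h hopp
    have : a ∈ adj D M s := by rw [hadj]; rcases h with rfl | rfl <;> simp [ha]
    exact hopp.all hH hR hS ha hsS (mem_adj.1 this).2.2.2.symm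
  · intro h1 h2
    refine ⟨a, ha, s, hsS, fun hc => ?_⟩
    have : a ∈ adj D M s := mem_adj.2 ⟨hRM ha, hM.sub (hRM ha), fun e => hsM (e ▸ hRM ha), hc.symm⟩
    rw [hadj, Finset.mem_union] at this
    rcases this with h | h
    exacts [h1 (hR.eq_of_mem hH hU ha h), h2 (hR.eq_of_mem hH hV ha h)]

/-- The basis. -/
theorem Setting.exists_basis :
    ∃ (u : Fin 4) (bas : List (Quo z)), bas.length = 12 ∧ (∀ x ∈ bas, x ∈ Abar D z) ∧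
      bas.map (fun x => bas.map (nc x)) = Code.gram u ∧
      ∀ k, ∃ R, IsRep D z R ∧ sel bas (Code.gen k).1 ∈ pairs z R ∧ sel bas (Code.gen k).2 ∈ pairs z R := by
  have hH := S₀.hyp
  obtain ⟨T, hT⟩ := S₀.exists_rep
  obtain ⟨M, hMc, hTM⟩ := exists_clique hH hT.mem hT.comm
  have hM := (mem_cliques hH).1 hMc
  have h6 := card_tetrads hH hM hTM hT.card
  obtain ⟨X, hX, hX5⟩ := Finset.exists_subset_card_eq (show 5 ≤ (tetrads M T).card by omega)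
  have hrep : ∀ U ∈ X, IsRep D z U ∧ U ⊆ M := fun U hU =>
    ⟨hT.of_mem_tetrads hH hM hTM (hX hU), (Transpositions.TypeM24.mem_tetrads.1 (hX hU)).1⟩
  obtain ⟨e⟩ : Nonempty (Fin 5 ≃ X) := ⟨(Fintype.equivFinOfCardEq (by simp [hX5])).symm⟩
  set R : Fin 5 → Finset G := fun i => (e i : Finset G) with hRdef
  have hR : ∀ i, IsRep D z (R i) := fun i => (hrep _ (e i).2).1
  have sM : ∀ i, R i ⊆ M := fun i => (hrep _ (e i).2).2
  have hne : ∀ {i j}, i ≠ j → R i ≠ R j := fun h he => h (e.injective (Subtype.ext he))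
  -- the three outside quadruples
  obtain ⟨s₁, hs₁, hs₁M, ha₁⟩ := S₀.exists_outside hM (hR 1) (hR 2) (sM 1) (sM 2) (hne (by decide))
  obtain ⟨s₂, hs₂, hs₂M, ha₂, c21⟩ := S₀.exists_step hM (hR 0) (hR 1) (hR 2) (sM 0) (sM 1) (sM 2)
    (hne (by decide)) (hne (by decide)) (hne (by decide)) hs₁ hs₁M ha₁
  obtain ⟨s₃, hs₃, hs₃M, ha₃, c31⟩ := S₀.exists_step hM (hR 0) (hR 2) (hR 1) (sM 0) (sM 2) (sM 1)
    (hne (by decide)) (hne (by decide)) (hne (by decide)) hs₁ hs₁M (by rw [ha₁, Finset.union_comm])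
  obtain ⟨S₁, hS₁, hm₁⟩ := S₀.exists_rep_mem hs₁
  obtain ⟨S₂, hS₂, hm₂⟩ := S₀.exists_rep_mem hs₂
  obtain ⟨S₃, hS₃, hm₃⟩ := S₀.exists_rep_mem hs₃
  have p12 : ¬ Opp S₁ S₂ := fun h => h.all hH hS₁ hS₂ hm₁ hm₂ c21.symm
  have p13 : ¬ Opp S₁ S₃ := fun h => h.all hH hS₁ hS₃ hm₁ hm₃ c31.symm
  have side₁ := fun i => S₀.side hM (hR i) (sM i) (hR 1) (hR 2) hS₁ hm₁ hs₁M ha₁
  have side₂ := fun i => S₀.side hM (hR i) (sM i) (hR 0) (hR 2) hS₂ hm₂ hs₂M ha₂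
  have side₃ := fun i => S₀.side hM (hR i) (sM i) (hR 0) (hR 1) hS₃ hm₃ hs₃M ha₃
  have o₁ : ∀ i, i ≠ 1 → i ≠ 2 → Opp (R i) S₁ := fun i h h' => (side₁ i).2 (hne h) (hne h')
  have o₂ : ∀ i, i ≠ 0 → i ≠ 2 → Opp (R i) S₂ := fun i h h' => (side₂ i).2 (hne h) (hne h')
  have o₃ : ∀ i, i ≠ 0 → i ≠ 1 → Opp (R i) S₃ := fun i h h' => (side₃ i).2 (hne h) (hne h')
  have inA : ∀ {U : Finset G}, IsRep D z U → ∀ {p}, p ∈ pairs z U → p ∈ Abar D z :=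
    fun {U} hU {p} hp => S₀.pairs_mem_Abar hU hp
  have zR : ∀ i j {p q}, p ∈ pairs z (R i) → q ∈ pairs z (R j) → nc p q = false := fun i j {p q} hp hq =>
    S₀.nc_of_perp (hR i) (hR j) (S₀.not_opp_of_clique hM (sM i) (sM j)) hp hq
  have z₁ : ∀ i, i = 1 ∨ i = 2 → ∀ {p q}, p ∈ pairs z (R i) → q ∈ pairs z S₁ → nc p q = false :=
    fun i h {p q} hp hq => S₀.nc_of_perp (hR i) hS₁ ((side₁ i).1 (h.imp (congrArg R) (congrArg R))) hp hq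
  have z₂ : ∀ i, i = 0 ∨ i = 2 → ∀ {p q}, p ∈ pairs z (R i) → q ∈ pairs z S₂ → nc p q = false :=
    fun i h {p q} hp hq => S₀.nc_of_perp (hR i) hS₂ ((side₂ i).1 (h.imp (congrArg R) (congrArg R))) hp hq
  have z₃ : ∀ i, i = 0 ∨ i = 1 → ∀ {p q}, p ∈ pairs z (R i) → q ∈ pairs z S₃ → nc p q = false :=
    fun i h {p q} hp hq => S₀.nc_of_perp (hR i) hS₃ ((side₃ i).1 (h.imp (congrArg R) (congrArg R))) hp hq
  -- decomposition
  have dec : ∀ i, (i = 3 ∨ i = 4) → ∀ p ∈ pairs z (R i), ∃ x ∈ pairs z (R 0), ∃ y ∈ pairs z (R 1),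
      ∃ w ∈ pairs z (R 2), p = x * y * w ∧ (∀ q ∈ pairs z S₁, nc p q = nc x q) ∧
        (∀ q ∈ pairs z S₂, nc p q = nc y q) ∧ ∀ q ∈ pairs z S₃, nc p q = nc w q := by
    intro i hi p hp
    obtain ⟨x, hx, y, hy, w, hw, rfl⟩ := S₀.decompose hM (hR 0) (hR 1) (hR 2) (hR i) (sM 0) (sM 1) (sM 2)
      (sM i) (hne (by decide)) (hne (by decide)) (hne (by decide)) (hne (by omega)) (hne (by omega))
      (hne (by omega)) hp
    refine ⟨x, hx, y, hy, w, hw, rfl, fun q hq => ?_, fun q hq => ?_, fun q hq => ?_⟩ <;>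
      rw [S₀.nc_mul (mul_mem (inA (hR 0) hx) (inA (hR 1) hy)) (inA (hR 2) hw) (inA (by assumption) hq),
        S₀.nc_mul (inA (hR 0) hx) (inA (hR 1) hy) (inA (by assumption) hq)]
    · rw [z₁ 1 (Or.inl rfl) hy hq, z₁ 2 (Or.inr rfl) hw hq]; simp
    · rw [z₂ 0 (Or.inl rfl) hx hq, z₂ 2 (Or.inr rfl) hw hq]; simp
    · rw [z₃ 0 (Or.inl rfl) hx hq, z₃ 1 (Or.inr rfl) hy hq]; simp
  -- elements of one quadruple seen equally by another are equal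
  have sep : ∀ {U S : Finset G}, IsRep D z U → IsRep D z S → Opp U S → ∀ {p p'}, p ∈ pairs z U →
      p' ∈ pairs z U → (∀ q ∈ pairs z S, nc p q = nc p' q) → p = p' := by
    intro U S hU hS ho p p' hp hp' h
    obtain ⟨q, hq, hq0, -⟩ := S₀.orth_unique hS hU ho.symm hp
    rw [S₀.nc_comm] at hq0
    obtain ⟨α, -, -, huniq⟩ := S₀.orth_unique hU hS ho hq
    exact (huniq p hp hq0).trans (huniq p' hp' ((h q hq).symm.trans hq0)).symm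
  have match' : ∀ {U V S : Finset G}, IsRep D z U → IsRep D z V → IsRep D z S → Opp U S → Opp V S →
      ∀ {p}, p ∈ pairs z U → ∃ p' ∈ pairs z V, ∃ q ∈ pairs z S, nc p q = false ∧ nc p' q = false := by
    intro U V S hU hV hS hoU hoV p hp
    obtain ⟨q, hq, hq0, -⟩ := S₀.orth_unique hS hU hoU.symm hp
    obtain ⟨p', hp', hp'0, -⟩ := S₀.orth_unique hV hS hoV hq
    exact ⟨p', hp', q, hq, by rw [S₀.nc_comm]; exact hq0, hp'0⟩
  have sep' : ∀ {U S : Finset G}, IsRep D z U → IsRep D z S → Opp U S → ∀ {p p' q}, p ∈ pairs z U →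
      p' ∈ pairs z U → q ∈ pairs z S → nc p q = false → nc p' q = false → p = p' := by
    intro U S hU hS ho p p' q hp hp' hq h h'
    obtain ⟨α, -, -, huniq⟩ := S₀.orth_unique hU hS ho hq
    exact (huniq p hp h).trans (huniq p' hp' h').symm
  obtain ⟨u₁, -, hu₁, -, -⟩ := S₀.exists_two (hR 3)
  obtain ⟨a₁, ha₁', a₂, ha₂', a₃, ha₃', hu₁e, ua₁, ua₂, ua₃⟩ := dec 3 (Or.inl rfl) u₁ hu₁
  obtain ⟨p₅, hp₅, q₁, hq₁, hq₁a, hq₁p⟩ := match' (hR 0) (hR 4) hS₁ (o₁ 0 (by decide) (by decide))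
    (o₁ 4 (by decide) (by decide)) ha₁'
  obtain ⟨b₁, hb₁, b₂, hb₂, b₃, hb₃, hp₅e, pb₁, pb₂, pb₃⟩ := dec 4 (Or.inr rfl) p₅ hp₅
  have hb₁a : b₁ = a₁ := sep' (hR 0) hS₁ (o₁ 0 (by decide) (by decide)) hb₁ ha₁' hq₁
    ((pb₁ q₁ hq₁).symm.trans hq₁p) hq₁a
  subst b₁
  obtain ⟨u₂, hu₂, q₂, hq₂, hq₂b, hq₂u⟩ := match' (hR 1) (hR 3) hS₂ (o₂ 1 (by decide) (by decide))
    (o₂ 3 (by decide) (by decide)) hb₂
  obtain ⟨c₁, hc₁, c₂, hc₂, c₃, hc₃, hu₂e, uc₁, uc₂, uc₃⟩ := dec 3 (Or.inl rfl) u₂ hu₂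
  have hc₂b : c₂ = b₂ := sep' (hR 1) hS₂ (o₂ 1 (by decide) (by decide)) hc₂ hb₂ hq₂
    ((uc₂ q₂ hq₂).symm.trans hq₂u) hq₂b
  subst b₂
  obtain ⟨p₆, hp₆, q₃, hq₃, hq₃c, hq₃p⟩ := match' (hR 0) (hR 4) hS₁ (o₁ 0 (by decide) (by decide))
    (o₁ 4 (by decide) (by decide)) hc₁
  obtain ⟨d₁, hd₁, d₂, hd₂, d₃, hd₃, hp₆e, pd₁, pd₂, pd₃⟩ := dec 4 (Or.inr rfl) p₆ hp₆
  have hd₁c : d₁ = c₁ := sep' (hR 0) hS₁ (o₁ 0 (by decide) (by decide)) hd₁ hc₁ hq₃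
    ((pd₁ q₃ hq₃).symm.trans hq₃p) hq₃c
  subst d₁
  -- no two components agree
  have hmul : ∀ {i} {x y : Quo z}, x ∈ pairs z (R i) → y ∈ pairs z (R i) → x * y = 1 ∨ x * y ∈ pairs z (R i) :=
    fun {i x y} hx hy => by
      by_cases h : x = y
      · exact Or.inl (by rw [h]; exact S₀.abar_sq (inA (hR i) hy))
      · exact Or.inr (S₀.pairs_three (hR i) hx hy h).1
  have acomm : ∀ {i j} {x y : Quo z}, x ∈ pairs z (R i) → y ∈ pairs z (R j) → x * y = y * x :=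
    fun {i j x y} hx hy => (S₀.abar_comm (inA (hR i) hx) (inA (hR j) hy)).eq
  have cancel : ∀ {x y w w' : Quo z}, x ∈ Abar D z → y ∈ Abar D z → w ∈ Abar D z → w' ∈ Abar D z →
      x * y * w * (x * y * w') = w * w' := fun {x y w w'} hx hy hw hw' => by
    have hxy := mul_mem hx hy
    rw [mul_assoc (x * y), ← mul_assoc w, (S₀.abar_comm hw hxy).eq, ← mul_assoc (x * y),
      ← mul_assoc (x * y), S₀.abar_sq hxy, one_mul]
  have agree : ∀ {p q x y w x' y' w' : Quo z}, p ∈ pairs z (R 3) → q ∈ pairs z (R 4) → x ∈ pairs z (R 0) →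
      y ∈ pairs z (R 1) → w ∈ pairs z (R 2) → x' ∈ pairs z (R 0) → y' ∈ pairs z (R 1) → w' ∈ pairs z (R 2) →
      p = x * y * w → q = x' * y' * w' → ¬ (x = x' ∧ y = y') ∧ ¬ (x = x' ∧ w = w') ∧ ¬ (y = y' ∧ w = w') := by
    intro p q x y w x' y' w' hp hq hx hy hw hx' hy' hw' hpe hqe
    have hind := fun (i : Fin 5) (h3 : (3 : Fin 5) ≠ i) (h4 : (4 : Fin 5) ≠ i) => S₀.indep_pairs hM (hR 3)
      (hR 4) (hR i) (sM 3) (sM 4) (sM i) (hne (by decide)) (hne h3) (hne h4) hp hq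
    have A : ∀ {i} {v}, v ∈ pairs z (R i) → v ∈ Abar D z := fun {i v} hv => inA (hR i) hv
    refine ⟨fun ⟨e1, e2⟩ => ?_, fun ⟨e1, e2⟩ => ?_, fun ⟨e1, e2⟩ => ?_⟩ <;> subst e1 e2
    · have h := hind 2 (by decide) (by decide)
      rw [hpe, hqe, cancel (A hx) (A hy) (A hw) (A hw')] at h
      exact (hmul hw hw').elim h.1 h.2
    · have h := hind 1 (by decide) (by decide)
      have h5 : p = x * w * y := by rw [hpe, mul_assoc, acomm hy hw, ← mul_assoc]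
      have h6 : q = x * w * y' := by rw [hqe, mul_assoc, acomm hy' hw, ← mul_assoc]
      rw [h5, h6, cancel (A hx) (A hw) (A hy) (A hy')] at h
      exact (hmul hy hy').elim h.1 h.2
    · have h := hind 0 (by decide) (by decide)
      rw [hpe, hqe, mul_assoc x, mul_assoc x', (S₀.abar_comm (A hx) (mul_mem (A hy) (A hw))).eq,
        (S₀.abar_comm (A hx') (mul_mem (A hy) (A hw))).eq, cancel (A hy) (A hw) (A hx) (A hx')] at h
      exact (hmul hx hx').elim h.1 h.2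
  have A₁₅ := agree hu₁ hp₅ ha₁' ha₂' ha₃' ha₁' hb₂ hb₃ hu₁e hp₅e
  have A₂₅ := agree hu₂ hp₅ hc₁ hb₂ hc₃ ha₁' hb₂ hb₃ hu₂e hp₅e
  have A₂₆ := agree hu₂ hp₆ hc₁ hb₂ hc₃ hc₁ hd₂ hd₃ hu₂e hp₆e
  have hu : u₁ ≠ u₂ := fun h => by
    refine A₁₅.1 ⟨rfl, ?_⟩
    subst h
    exact sep (hR 1) hS₂ (o₂ 1 (by decide) (by decide)) ha₂' hb₂ fun q hq => by rw [← ua₂ q hq, uc₂ q hq]
  have n₁ : a₁ ≠ c₁ := fun h => hu (sep (hR 3) hS₁ (o₁ 3 (by decide) (by decide)) hu₁ hu₂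
    fun q hq => by rw [ua₁ q hq, uc₁ q hq, h])
  have n₂ : a₂ ≠ c₂ := fun h => hu (sep (hR 3) hS₂ (o₂ 3 (by decide) (by decide)) hu₁ hu₂
    fun q hq => by rw [ua₂ q hq, uc₂ q hq, h])
  have n₃ : a₃ ≠ c₃ := fun h => hu (sep (hR 3) hS₃ (o₃ 3 (by decide) (by decide)) hu₁ hu₂
    fun q hq => by rw [ua₃ q hq, uc₃ q hq, h])
  have hp56 : p₅ ≠ p₆ := fun h => n₁ (sep (hR 0) hS₁ (o₁ 0 (by decide) (by decide)) ha₁' hc₁
    fun q hq => by rw [← pb₁ q hq, h, pd₁ q hq])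
  have hb₃e : b₃ = a₃ * c₃ := by
    rcases (S₀.pairs_three (hR 2) ha₃' hc₃ n₃).2 b₃ hb₃ with h | h | h
    exacts [absurd ⟨rfl, h.symm⟩ A₁₅.2.1, absurd ⟨rfl, h.symm⟩ A₂₅.2.2, h]
  obtain ⟨hu₁₂, -⟩ := S₀.pairs_three (hR 3) hu₁ hu₂ hu
  obtain ⟨hp₅₆, -⟩ := S₀.pairs_three (hR 4) hp₅ hp₆ hp56
  have C : ∀ {x y : Quo z}, x ∈ Abar D z → y ∈ Abar D z → x * y = y * x := fun hx hy =>
    (S₀.abar_comm hx hy).eq
  have A₁ := inA (hR 0) ha₁'; have A₂ := inA (hR 1) ha₂'; have A₃ := inA (hR 2) ha₃'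
  have C₁ := inA (hR 0) hc₁; have C₂ := inA (hR 1) hb₂; have C₃ := inA (hR 2) hc₃
  have D₂ := inA (hR 1) hd₂; have D₃ := inA (hR 2) hd₃
  have mix : ∀ {x y w x' y' w' : Quo z}, x ∈ Abar D z → y ∈ Abar D z → w ∈ Abar D z → x' ∈ Abar D z →
      y' ∈ Abar D z → w' ∈ Abar D z → x * y * w * (x' * y' * w') = x * x' * (y * y') * (w * w') :=
    fun {x y w x' y' w'} hx hy hw hx' hy' hw' => by
      have := C hy hx'
      have := C hw (mul_mem hx' hy')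
      grind
  have hd₂e : d₂ = a₂ * c₂ := by
    rcases (S₀.pairs_three (hR 1) ha₂' hb₂ n₂).2 d₂ hd₂ with h | h | h
    · exfalso
      have e1 : p₅ * p₆ = a₁ * c₁ * (a₂ * c₂) * (b₃ * d₃) := by
        rw [hp₅e, hp₆e, h, mix A₁ C₂ (inA (hR 2) hb₃) C₁ A₂ D₃, C C₂ A₂]
      have e2 : u₁ * u₂ = a₁ * c₁ * (a₂ * c₂) * (a₃ * c₃) := by
        rw [hu₁e, hu₂e, mix A₁ A₂ A₃ C₁ C₂ C₃]
      have hbd : b₃ ≠ d₃ := fun hbd => hp56 (sep (hR 4) hS₃ (o₃ 4 (by decide) (by decide)) hp₅ hp₆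
        fun q hq => by rw [pb₃ q hq, pd₃ q hq, hbd])
      exact (agree hu₁₂ hp₅₆ (S₀.pairs_three (hR 0) ha₁' hc₁ n₁).1 (S₀.pairs_three (hR 1) ha₂' hb₂ n₂).1
        (S₀.pairs_three (hR 2) ha₃' hc₃ n₃).1 (S₀.pairs_three (hR 0) ha₁' hc₁ n₁).1
        (S₀.pairs_three (hR 1) ha₂' hb₂ n₂).1 (S₀.pairs_three (hR 2) hb₃ hd₃ hbd).1 e2 e1).1 ⟨rfl, rfl⟩
    · exact absurd ⟨rfl, h.symm⟩ A₂₆.1
    · exact h
  have hd₃e : d₃ = a₃ := by
    rcases (S₀.pairs_three (hR 2) ha₃' hc₃ n₃).2 d₃ hd₃ with h | h | h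
    · exact h
    · exact absurd ⟨rfl, h.symm⟩ A₂₆.2.1
    · exact absurd (sep (hR 4) hS₃ (o₃ 4 (by decide) (by decide)) hp₅ hp₆
        fun q hq => by rw [pb₃ q hq, pd₃ q hq, hb₃e, h]) hp56
  -- the dual pairs
  have dual : ∀ {U S : Finset G}, IsRep D z U → IsRep D z S → Opp U S → ∀ {p q}, p ∈ pairs z U →
      q ∈ pairs z U → p ≠ q → ∃ f g, f ∈ pairs z S ∧ g ∈ pairs z S ∧ f ≠ g ∧ nc p f = false ∧ nc q g = false ∧
        nc p g = true ∧ nc q f = true := by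
    intro U S hU hS ho p q hp hq hpq
    obtain ⟨f, hf, hf0, -⟩ := S₀.orth_unique hS hU ho.symm hp
    obtain ⟨g, hg, hg0, -⟩ := S₀.orth_unique hS hU ho.symm hq
    rw [S₀.nc_comm] at hf0 hg0
    refine ⟨f, g, hf, hg, fun h => hpq (sep' hU hS ho hp hq hf hf0 (h ▸ hg0)), hf0, hg0, ?_, ?_⟩
    · exact Bool.eq_true_of_not_eq_false fun h => hpq (sep' hU hS ho hp hq hg h hg0)
    · exact Bool.eq_true_of_not_eq_false fun h => hpq (sep' hU hS ho hp hq hf hf0 h)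
  obtain ⟨f₁, g₁, hf₁, hg₁, nf₁, af₁, cg₁, ag₁, cf₁⟩ :=
    dual (hR 0) hS₁ (o₁ 0 (by decide) (by decide)) ha₁' hc₁ n₁
  obtain ⟨f₂, g₂, hf₂, hg₂, nf₂, af₂, cg₂, ag₂, cf₂⟩ :=
    dual (hR 1) hS₂ (o₂ 1 (by decide) (by decide)) ha₂' hb₂ n₂
  obtain ⟨f₃, g₃, hf₃, hg₃, nf₃, af₃, cg₃, ag₃, cf₃⟩ :=
    dual (hR 2) hS₃ (o₃ 2 (by decide) (by decide)) ha₃' hc₃ n₃
  -- the four possibilities between the second and third outside quadruple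
  have hdet : ∀ {U S : Finset G}, IsRep D z U → IsRep D z S → ∀ {p q f g}, p ∈ pairs z U → q ∈ pairs z U →
      p ≠ q → f ∈ pairs z S → g ∈ pairs z S → f ≠ g →
      (nc p f = false ∧ nc p g = false ∧ nc q f = false ∧ nc q g = false) ∨
        xor (nc p f && nc q g) (nc p g && nc q f) = true := by
    intro U S hU hS p q f g hp hq hpq hf hg hfg
    by_cases ho : Opp U S
    · exact Or.inr (S₀.pairing_det hU hS ho hp hq hpq hf hg hfg)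
    · exact Or.inl ⟨S₀.nc_of_perp hU hS ho hp hf, S₀.nc_of_perp hU hS ho hp hg,
        S₀.nc_of_perp hU hS ho hq hf, S₀.nc_of_perp hU hS ho hq hg⟩
  have hBcase := hdet hS₂ hS₃ hf₂ hg₂ nf₂ hf₃ hg₃ nf₃
  -- the fourth tetrad moved by a member of the third outside quadruple
  obtain ⟨R', hR', hq, hq'⟩ : ∃ R', IsRep D z R' ∧ u₁ * f₃ ∈ pairs z R' ∧ u₂ * g₃ ∈ pairs z R' := by
    have hgz : s₃ * z * s₃⁻¹ = z := mul_inv_eq_iff_eq_mul.2 hs₃.2.eq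
    set φ : G →* G := (MulAut.conj s₃).toMonoidHom with hφ
    have hφinj : Function.Injective φ := (MulAut.conj s₃).injective
    refine ⟨(R 3).image φ, ⟨?_, ?_, ?_, ?_⟩, ?_, ?_⟩
    · rw [Finset.card_image_of_injective _ hφinj, (hR 3).card]
    · intro a ha
      obtain ⟨x, hx, rfl⟩ := Finset.mem_image.1 ha
      exact hH.group.2.1 s₃ x ((hR 3).mem x hx)
    · intro a ha b hb
      obtain ⟨x, hx, rfl⟩ := Finset.mem_image.1 ha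
      obtain ⟨y, hy, rfl⟩ := Finset.mem_image.1 hb
      exact ((hR 3).comm x hx y hy).map φ
    · have hl : ((R 3).toList.map φ).Nodup := (R 3).nodup_toList.map hφinj
      rw [Transpositions.CliqueAlgebra.val_eq_prod (l := (R 3).toList.map φ)
        ⟨fun a ha => ?_, fun a ha b hb => ?_⟩ (Finset.Subset.refl _) hl (fun x => by simp [Finset.mem_image]),
        ← map_list_prod, (hR 3).prod_eq hH (R 3).nodup_toList fun x => Finset.mem_toList]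
      · exact hgz
      · obtain ⟨x, hx, rfl⟩ := Finset.mem_image.1 ha
        rw [← map_mul, mul_self hH.group.1 ((hR 3).mem x hx), map_one]
      · obtain ⟨x, hx, rfl⟩ := Finset.mem_image.1 ha
        obtain ⟨y, hy, rfl⟩ := Finset.mem_image.1 hb
        exact ((hR 3).comm x hx y hy).map φ
    all_goals
      have hm3 := mem_CC_of_Mz hs₃
      have himage : ∀ {p}, p ∈ pairs z (R 3) →
          cl z s₃ * p * (cl z s₃)⁻¹ ∈ pairs z ((R 3).image φ) := by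
        rintro p ⟨a, ha, b, hb, hab, rfl⟩
        refine ⟨φ a, Finset.mem_image_of_mem _ ha, φ b, Finset.mem_image_of_mem _ hb,
          fun h => hab (hφinj h), ?_⟩
        have hC := mul_mem ((hR 3).mem_CC hH ha) ((hR 3).mem_CC hH hb)
        rw [← cl_inv hm3, ← cl_mul hm3 hC, ← cl_mul (mul_mem hm3 hC) (inv_mem hm3), ← map_mul]
        rfl
    · have h := himage hu₁
      rwa [S₀.conj_eq hS₃ hm₃ hf₃ hg₃ nf₃ (inA (hR 3) hu₁), ua₃ g₃ hg₃, ag₃, ua₃ f₃ hf₃, af₃, if_pos rfl,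
        if_neg Bool.false_ne_true, mul_one] at h
    · have h := himage hu₂
      rwa [S₀.conj_eq hS₃ hm₃ hf₃ hg₃ nf₃ (inA (hR 3) hu₂), uc₃ g₃ hg₃, cg₃, uc₃ f₃ hf₃, cf₃, if_pos rfl,
        if_neg Bool.false_ne_true, mul_one] at h
  have F₂ := inA hS₂ hf₂; have G₂ := inA hS₂ hg₂; have F₃ := inA hS₃ hf₃; have G₃ := inA hS₃ hg₃
  have v11 : nc (u₁ * f₃) f₂ = nc f₂ f₃ := by
    rw [S₀.nc_mul (inA (hR 3) hu₁) F₃ F₂, ua₂ f₂ hf₂, af₂, S₀.nc_comm f₃]; simp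
  have v12 : nc (u₁ * f₃) g₂ = !nc g₂ f₃ := by
    rw [S₀.nc_mul (inA (hR 3) hu₁) F₃ G₂, ua₂ g₂ hg₂, ag₂, S₀.nc_comm f₃]; simp
  have v21 : nc (u₂ * g₃) f₂ = !nc f₂ g₃ := by
    rw [S₀.nc_mul (inA (hR 3) hu₂) G₃ F₂, uc₂ f₂ hf₂, cf₂, S₀.nc_comm g₃]; simp
  have v22 : nc (u₂ * g₃) g₂ = nc g₂ g₃ := by
    rw [S₀.nc_mul (inA (hR 3) hu₂) G₃ G₂, uc₂ g₂ hg₂, cg₂, S₀.nc_comm g₃]; simp
  have hne' : u₁ * f₃ ≠ u₂ * g₃ := fun h => hu (sep (hR 3) hS₁ (o₁ 3 (by decide) (by decide)) hu₁ hu₂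
    fun q hq => by
      have e := congrArg (fun x => nc x q) h
      simp only [S₀.nc_mul (inA (hR 3) hu₁) F₃ (inA hS₁ hq), S₀.nc_mul (inA (hR 3) hu₂) G₃ (inA hS₁ hq),
        S₀.nc_comm f₃, S₀.nc_comm g₃, S₀.nc_of_perp hS₁ hS₃ p13 hq hf₃, S₀.nc_of_perp hS₁ hS₃ p13 hq hg₃,
        Bool.xor_false] at e
      exact e)
  have hB'case := hdet hR' hS₂ hq hq' hne' hf₂ hg₂ nf₂
  rw [v11, v12, v21, v22] at hB'case
  obtain ⟨u, hgram⟩ : ∃ u : Fin 4, Code.gram u =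
      [[false, false, false, false, false, false, false, true, false, false, false, false],
       [false, false, false, false, false, false, true, false, false, false, false, false],
       [false, false, false, false, false, false, false, false, false, true, false, false],
       [false, false, false, false, false, false, false, false, true, false, false, false],
       [false, false, false, false, false, false, false, false, false, false, false, true],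
       [false, false, false, false, false, false, false, false, false, false, true, false],
       [false, true, false, false, false, false, false, false, false, false, false, false],
       [true, false, false, false, false, false, false, false, false, false, false, false],
       [false, false, false, true, false, false, false, false, false, false, nc f₂ f₃, nc f₂ g₃],
       [false, false, true, false, false, false, false, false, false, false, nc g₂ f₃, nc g₂ g₃],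
       [false, false, false, false, false, true, false, false, nc f₂ f₃, nc g₂ f₃, false, false],
       [false, false, false, false, true, false, false, false, nc f₂ g₃, nc g₂ g₃, false, false]] := by
    revert hBcase hB'case
    generalize nc f₂ f₃ = x₁, nc f₂ g₃ = x₂, nc g₂ f₃ = x₃, nc g₂ g₃ = x₄
    revert x₁ x₂ x₃ x₄
    decide +kernel
  refine ⟨u, [a₁, c₁, a₂, c₂, a₃, c₃, f₁, g₁, f₂, g₂, f₃, g₃], rfl, ?_, ?_, ?_⟩
  · simp only [List.mem_cons, List.not_mem_nil, or_false, forall_eq_or_imp, forall_eq]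
    exact ⟨A₁, C₁, A₂, C₂, A₃, C₃, inA hS₁ hf₁, inA hS₁ hg₁, F₂, G₂, F₃, G₃⟩
  · have w₁ : ∀ {p q}, p ∈ pairs z S₁ → q ∈ pairs z S₂ → nc p q = false ∧ nc q p = false := fun hp hq =>
      ⟨S₀.nc_of_perp hS₁ hS₂ p12 hp hq, by rw [S₀.nc_comm]; exact S₀.nc_of_perp hS₁ hS₂ p12 hp hq⟩
    have w₂ : ∀ {p q}, p ∈ pairs z S₁ → q ∈ pairs z S₃ → nc p q = false ∧ nc q p = false := fun hp hq =>
      ⟨S₀.nc_of_perp hS₁ hS₃ p13 hp hq, by rw [S₀.nc_comm]; exact S₀.nc_of_perp hS₁ hS₃ p13 hp hq⟩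
    have w₀ : ∀ {S p q}, IsRep D z S → p ∈ pairs z S → q ∈ pairs z S → nc p q = false := fun {S p q} hS hp hq =>
      S₀.nc_of_perp hS hS (fun ⟨a, ha, b, hb, h⟩ => h (hS.comm a ha b hb)) hp hq
    have sy : ∀ {p q b}, nc p q = b → nc q p = b := fun h => (S₀.nc_comm _ _).trans h
    rw [hgram]
    simp only [List.map_cons, List.map_nil, S₀.nc_self,
      zR 0 0 ha₁' hc₁, zR 0 0 hc₁ ha₁', zR 0 1 ha₁' ha₂', zR 0 1 ha₁' hb₂, zR 0 1 hc₁ ha₂', zR 0 1 hc₁ hb₂,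
      zR 1 0 ha₂' ha₁', zR 1 0 hb₂ ha₁', zR 1 0 ha₂' hc₁, zR 1 0 hb₂ hc₁,
      zR 0 2 ha₁' ha₃', zR 0 2 ha₁' hc₃, zR 0 2 hc₁ ha₃', zR 0 2 hc₁ hc₃,
      zR 2 0 ha₃' ha₁', zR 2 0 hc₃ ha₁', zR 2 0 ha₃' hc₁, zR 2 0 hc₃ hc₁,
      zR 1 1 ha₂' hb₂, zR 1 1 hb₂ ha₂', zR 1 2 ha₂' ha₃', zR 1 2 ha₂' hc₃, zR 1 2 hb₂ ha₃', zR 1 2 hb₂ hc₃,
      zR 2 1 ha₃' ha₂', zR 2 1 hc₃ ha₂', zR 2 1 ha₃' hb₂, zR 2 1 hc₃ hb₂,
      zR 2 2 ha₃' hc₃, zR 2 2 hc₃ ha₃',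
      af₁, cg₁, ag₁, cf₁, af₂, cg₂, ag₂, cf₂, af₃, cg₃, ag₃, cf₃,
      sy af₁, sy cg₁, sy ag₁, sy cf₁, sy af₂, sy cg₂, sy ag₂, sy cf₂, sy af₃, sy cg₃, sy ag₃, sy cf₃,
      z₁ 1 (Or.inl rfl) ha₂' hf₁, z₁ 1 (Or.inl rfl) ha₂' hg₁, z₁ 1 (Or.inl rfl) hb₂ hf₁,
      z₁ 1 (Or.inl rfl) hb₂ hg₁, z₁ 2 (Or.inr rfl) ha₃' hf₁, z₁ 2 (Or.inr rfl) ha₃' hg₁,
      z₁ 2 (Or.inr rfl) hc₃ hf₁, z₁ 2 (Or.inr rfl) hc₃ hg₁,
      sy (z₁ 1 (Or.inl rfl) ha₂' hf₁), sy (z₁ 1 (Or.inl rfl) ha₂' hg₁), sy (z₁ 1 (Or.inl rfl) hb₂ hf₁),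
      sy (z₁ 1 (Or.inl rfl) hb₂ hg₁), sy (z₁ 2 (Or.inr rfl) ha₃' hf₁), sy (z₁ 2 (Or.inr rfl) ha₃' hg₁),
      sy (z₁ 2 (Or.inr rfl) hc₃ hf₁), sy (z₁ 2 (Or.inr rfl) hc₃ hg₁),
      z₂ 0 (Or.inl rfl) ha₁' hf₂, z₂ 0 (Or.inl rfl) ha₁' hg₂, z₂ 0 (Or.inl rfl) hc₁ hf₂,
      z₂ 0 (Or.inl rfl) hc₁ hg₂, z₂ 2 (Or.inr rfl) ha₃' hf₂, z₂ 2 (Or.inr rfl) ha₃' hg₂,
      z₂ 2 (Or.inr rfl) hc₃ hf₂, z₂ 2 (Or.inr rfl) hc₃ hg₂,
      sy (z₂ 0 (Or.inl rfl) ha₁' hf₂), sy (z₂ 0 (Or.inl rfl) ha₁' hg₂), sy (z₂ 0 (Or.inl rfl) hc₁ hf₂),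
      sy (z₂ 0 (Or.inl rfl) hc₁ hg₂), sy (z₂ 2 (Or.inr rfl) ha₃' hf₂), sy (z₂ 2 (Or.inr rfl) ha₃' hg₂),
      sy (z₂ 2 (Or.inr rfl) hc₃ hf₂), sy (z₂ 2 (Or.inr rfl) hc₃ hg₂),
      z₃ 0 (Or.inl rfl) ha₁' hf₃, z₃ 0 (Or.inl rfl) ha₁' hg₃, z₃ 0 (Or.inl rfl) hc₁ hf₃,
      z₃ 0 (Or.inl rfl) hc₁ hg₃, z₃ 1 (Or.inr rfl) ha₂' hf₃, z₃ 1 (Or.inr rfl) ha₂' hg₃,
      z₃ 1 (Or.inr rfl) hb₂ hf₃, z₃ 1 (Or.inr rfl) hb₂ hg₃,
      sy (z₃ 0 (Or.inl rfl) ha₁' hf₃), sy (z₃ 0 (Or.inl rfl) ha₁' hg₃), sy (z₃ 0 (Or.inl rfl) hc₁ hf₃),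
      sy (z₃ 0 (Or.inl rfl) hc₁ hg₃), sy (z₃ 1 (Or.inr rfl) ha₂' hf₃), sy (z₃ 1 (Or.inr rfl) ha₂' hg₃),
      sy (z₃ 1 (Or.inr rfl) hb₂ hf₃), sy (z₃ 1 (Or.inr rfl) hb₂ hg₃),
      w₀ hS₁ hf₁ hg₁, w₀ hS₁ hg₁ hf₁, w₀ hS₂ hf₂ hg₂, w₀ hS₂ hg₂ hf₂, w₀ hS₃ hf₃ hg₃, w₀ hS₃ hg₃ hf₃,
      w₁ hf₁ hf₂, w₁ hf₁ hg₂, w₁ hg₁ hf₂, w₁ hg₁ hg₂, w₂ hf₁ hf₃, w₂ hf₁ hg₃, w₂ hg₁ hf₃, w₂ hg₁ hg₃,
      S₀.nc_comm f₃ f₂, S₀.nc_comm f₃ g₂, S₀.nc_comm g₃ f₂, S₀.nc_comm g₃ g₂]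
  · intro k
    fin_cases k <;> simp only [Code.gen] <;> norm_num [sel]
    · exact ⟨_, hR 0, ha₁', hc₁⟩
    · exact ⟨_, hR 1, ha₂', hb₂⟩
    · exact ⟨_, hR 2, ha₃', hc₃⟩
    · refine ⟨_, hR 3, ?_, ?_⟩
      · rw [← mul_assoc, ← hu₁e]; exact hu₁
      · rw [← mul_assoc, ← hu₂e]; exact hu₂
    · refine ⟨_, hR 4, ?_, ?_⟩
      · rw [← hb₃e, ← mul_assoc, ← hp₅e]; exact hp₅
      · rw [show c₁ * (a₂ * (c₂ * a₃)) = p₆ by rw [hp₆e, hd₂e, hd₃e]; simp [mul_assoc]]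
        exact hp₆
    · exact ⟨_, hS₁, hf₁, hg₁⟩
    · exact ⟨_, hS₂, hf₂, hg₂⟩
    · exact ⟨_, hS₃, hf₃, hg₃⟩

end CfsgLib.FischerTypes.M24QuadCent
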