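/-!
# The linear model of the centralizer of a product of four commuting members in type M(24)

Codes below `4096` stand for the elements of the elementary abelian group of rank twelve; `beta u` is one
of the four possible alternating forms and a line is a pair of codes spanning a plane. Only tables and
their verification.
-/

set_option autoImplicit false

namespace CfsgLib.FischerTypes.M24QuadCent.Code

/-- The sum of the selected entries. -/
def selB : List Bool → Nat → Bool
  | [], _ => false
  | x :: l, n => Bool.xor (x && n % 2 == 1) (selB l (n / 2))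

/-- The four possible Gram matrices. -/
def gram : Fin 4 → List (List Bool)
  | 0 =>
    [[false, false, false, false, false, false, false, true, false, false, false, false],
     [false, false, false, false, false, false, true, false, false, false, false, false],
     [false, false, false, false, false, false, false, false, false, true, false, false],
     [false, false, false, false, false, false, false, false, true, false, false, false],
     [false, false, false, false, false, false, false, false, false, false, false, true],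
     [false, false, false, false, false, false, false, false, false, false, true, false],
     [false, true, false, false, false, false, false, false, false, false, false, false],
     [true, false, false, false, false, false, false, false, false, false, false, false],
     [false, false, false, true, false, false, false, false, false, false, false, false],
     [false, false, true, false, false, false, false, false, false, false, false, false],
     [false, false, false, false, false, true, false, false, false, false, false, false],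
     [false, false, false, false, true, false, false, false, false, false, false, false]]
  | 1 =>
    [[false, false, false, false, false, false, false, true, false, false, false, false],
     [false, false, false, false, false, false, true, false, false, false, false, false],
     [false, false, false, false, false, false, false, false, false, true, false, false],
     [false, false, false, false, false, false, false, false, true, false, false, false],
     [false, false, false, false, false, false, false, false, false, false, false, true],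
     [false, false, false, false, false, false, false, false, false, false, true, false],
     [false, true, false, false, false, false, false, false, false, false, false, false],
     [true, false, false, false, false, false, false, false, false, false, false, false],
     [false, false, false, true, false, false, false, false, false, false, false, true],
     [false, false, true, false, false, false, false, false, false, false, true, false],
     [false, false, false, false, false, true, false, false, false, true, false, false],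
     [false, false, false, false, true, false, false, false, true, false, false, false]]
  | 2 =>
    [[false, false, false, false, false, false, false, true, false, false, false, false],
     [false, false, false, false, false, false, true, false, false, false, false, false],
     [false, false, false, false, false, false, false, false, false, true, false, false],
     [false, false, false, false, false, false, false, false, true, false, false, false],
     [false, false, false, false, false, false, false, false, false, false, false, true],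
     [false, false, false, false, false, false, false, false, false, false, true, false],
     [false, true, false, false, false, false, false, false, false, false, false, false],
     [true, false, false, false, false, false, false, false, false, false, false, false],
     [false, false, false, true, false, false, false, false, false, false, true, false],
     [false, false, true, false, false, false, false, false, false, false, true, true],
     [false, false, false, false, false, true, false, false, true, true, false, false],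
     [false, false, false, false, true, false, false, false, false, true, false, false]]
  | 3 =>
    [[false, false, false, false, false, false, false, true, false, false, false, false],
     [false, false, false, false, false, false, true, false, false, false, false, false],
     [false, false, false, false, false, false, false, false, false, true, false, false],
     [false, false, false, false, false, false, false, false, true, false, false, false],
     [false, false, false, false, false, false, false, false, false, false, false, true],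
     [false, false, false, false, false, false, false, false, false, false, true, false],
     [false, true, false, false, false, false, false, false, false, false, false, false],
     [true, false, false, false, false, false, false, false, false, false, false, false],
     [false, false, false, true, false, false, false, false, false, false, true, true],
     [false, false, true, false, false, false, false, false, false, false, false, true],
     [false, false, false, false, false, true, false, false, true, false, false, false],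
     [false, false, false, false, true, false, false, false, true, true, false, false]]

/-- The form. -/
def beta (u : Fin 4) (n m : Nat) : Bool :=
  selB ((gram u).map fun r => selB r m) n

/-- The three nonzero codes of a line. -/
def triple (l : Nat × Nat) : List Nat := [l.1, l.2, l.1 ^^^ l.2]

/-- The action of a member on the codes, by its line. -/
def transv (u : Fin 4) (l : Nat × Nat) (x : Nat) : Nat :=
  x ^^^ (if beta u x l.2 then l.1 else 0) ^^^ (if beta u x l.1 then l.2 else 0)

/-- The eight generating lines. -/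
def gen : Fin 8 → Nat × Nat
  | 0 => (1, 2)
  | 1 => (4, 8)
  | 2 => (16, 32)
  | 3 => (21, 42)
  | 4 => (57, 30)
  | 5 => (64, 128)
  | 6 => (256, 512)
  | 7 => (1024, 2048)

/-- Lines reached from the first one, each with the index it comes from and the generator used. -/
def table : Fin 4 → List ((Nat × Nat) × Nat × Fin 8)
  | 0 =>
    [((1, 2), 0, 0), ((65, 130), 0, 5), ((64, 128), 1, 0), ((84, 168), 1, 3), ((120, 156), 1, 4), ((85, 170), 2, 3),
     ((121, 158), 2, 4), ((109, 182), 3, 4), ((340, 680), 3, 6), ((1108, 2216), 3, 7), ((632, 924), 4, 6), ((3192, 1180), 4, 7),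
     ((108, 180), 5, 4), ((21, 42), 5, 5), ((341, 682), 5, 6), ((1109, 2218), 5, 7), ((57, 30), 6, 5), ((633, 926), 6, 6),
     ((3193, 1182), 6, 7), ((45, 54), 7, 5), ((877, 438), 7, 6), ((2157, 3254), 7, 7), ((336, 672), 8, 1), ((330, 655), 8, 4),
     ((1364, 2728), 8, 7), ((1092, 2184), 9, 2), ((1139, 2193), 9, 4), ((624, 912), 10, 1), ((583, 905), 10, 3), ((3704, 1948), 10, 7),
     ((3144, 1164), 11, 2), ((3154, 1187), 11, 3), ((876, 436), 12, 6), ((2156, 3252), 12, 7), ((277, 554), 13, 6), ((1045, 2090), 13, 7),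
     ((337, 674), 14, 1), ((331, 653), 14, 4), ((1365, 2730), 14, 7), ((1093, 2186), 15, 2), ((1138, 2195), 15, 4), ((569, 798), 16, 6),
     ((3129, 1054), 16, 7), ((625, 914), 17, 1), ((582, 907), 17, 3), ((3705, 1950), 17, 7), ((3145, 1166), 18, 2), ((3155, 1185), 18, 3),
     ((813, 310), 19, 6), ((2093, 3126), 19, 7), ((865, 434), 20, 1), ((839, 393), 20, 3), ((842, 399), 20, 4), ((2925, 3510), 20, 7),
     ((2125, 3206), 21, 2), ((2130, 3235), 21, 3), ((2163, 3217), 21, 4), ((334, 647), 22, 4), ((1360, 2720), 22, 7), ((458, 591), 23, 5),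
     ((1348, 2696), 24, 2), ((1345, 2690), 24, 3), ((1123, 2225), 25, 4), ((1203, 2257), 26, 5), ((3696, 1936), 27, 7), ((3656, 1932), 29, 2),
     ((3649, 1922), 29, 4), ((864, 432), 32, 1), ((838, 395), 32, 3), ((843, 397), 32, 4), ((2924, 3508), 32, 7), ((2124, 3204), 33, 2),
     ((2131, 3233), 33, 3), ((2162, 3219), 33, 4), ((273, 546), 34, 1), ((256, 512), 34, 3), ((306, 531), 34, 4), ((1301, 2602), 34, 7),
     ((1029, 2058), 35, 2), ((1024, 2048), 35, 3), ((1035, 2061), 35, 4), ((335, 645), 36, 4), ((1361, 2722), 36, 7), ((1349, 2698), 38, 2),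
     ((1344, 2688), 38, 3), ((1122, 2227), 39, 4), ((561, 786), 41, 1), ((3641, 1822), 41, 7), ((3081, 1038), 42, 2), ((590, 903), 43, 3),
     ((3697, 1938), 43, 7), ((3657, 1934), 45, 2), ((3648, 1920), 45, 4), ((3171, 1201), 46, 3), ((2861, 3382), 48, 7), ((2913, 3506), 50, 7),
     ((2893, 3462), 53, 2), ((1281, 2562), 61, 5), ((3585, 1794), 66, 5), ((2912, 3504), 67, 7), ((2892, 3460), 70, 2), ((260, 520), 74, 3),
     ((1297, 2594), 74, 7), ((3378, 1555), 76, 7), ((1285, 2570), 77, 2), ((1324, 2612), 77, 4), ((1040, 2080), 78, 3), ((1547, 2829), 80, 6),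
     ((3633, 1810), 86, 7), ((3593, 1806), 87, 2), ((3628, 1844), 87, 3), ((2872, 3356), 94, 3), ((2836, 3368), 94, 4), ((2881, 3458), 95, 2),
     ((1336, 2588), 97, 4), ((3604, 1832), 98, 3), ((2880, 3456), 99, 2), ((4, 8), 101, 6), ((1320, 2620), 102, 4), ((3330, 1539), 103, 2),
     ((3352, 1580), 103, 3), ((3372, 1588), 103, 4), ((1340, 2580), 104, 4), ((16, 32), 106, 7), ((3620, 1848), 108, 3), ((3612, 1828), 109, 3)]
  | 1 =>
    [((1, 2), 0, 0), ((65, 130), 0, 5), ((64, 128), 1, 0), ((84, 168), 1, 3), ((120, 156), 1, 4), ((85, 170), 2, 3),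
     ((121, 158), 2, 4), ((109, 182), 3, 4), ((340, 680), 3, 6), ((1108, 2216), 3, 7), ((632, 924), 4, 6), ((3192, 1180), 4, 7),
     ((108, 180), 5, 4), ((21, 42), 5, 5), ((341, 682), 5, 6), ((1109, 2218), 5, 7), ((57, 30), 6, 5), ((633, 926), 6, 6),
     ((3193, 1182), 6, 7), ((45, 54), 7, 5), ((877, 438), 7, 6), ((2157, 3254), 7, 7), ((336, 672), 8, 1), ((330, 655), 8, 4),
     ((1092, 2184), 9, 2), ((1139, 2193), 9, 4), ((624, 912), 10, 1), ((583, 905), 10, 3), ((1656, 2972), 10, 7), ((3144, 1164), 11, 2),
     ((3154, 1187), 11, 3), ((3448, 1692), 11, 6), ((876, 436), 12, 6), ((2156, 3252), 12, 7), ((277, 554), 13, 6), ((1045, 2090), 13, 7),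
     ((337, 674), 14, 1), ((331, 653), 14, 4), ((1093, 2186), 15, 2), ((1138, 2195), 15, 4), ((569, 798), 16, 6), ((3129, 1054), 16, 7),
     ((625, 914), 17, 1), ((582, 907), 17, 3), ((1657, 2974), 17, 7), ((3145, 1166), 18, 2), ((3155, 1185), 18, 3), ((3449, 1694), 18, 6),
     ((813, 310), 19, 6), ((2093, 3126), 19, 7), ((865, 434), 20, 1), ((839, 393), 20, 3), ((842, 399), 20, 4), ((1901, 2486), 20, 7),
     ((2125, 3206), 21, 2), ((2130, 3235), 21, 3), ((2163, 3217), 21, 4), ((2413, 3766), 21, 6), ((334, 647), 22, 4), ((458, 591), 23, 5),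
     ((1354, 2703), 23, 7), ((1123, 2225), 24, 4), ((1203, 2257), 25, 5), ((1395, 2705), 25, 6), ((1648, 2960), 26, 7), ((2631, 3977), 27, 7),
     ((1640, 3004), 28, 2), ((1618, 2979), 28, 3), ((1638, 3003), 28, 4), ((1400, 2716), 28, 6), ((3400, 1676), 29, 6), ((3922, 1443), 30, 6),
     ((3452, 1684), 31, 1), ((3399, 1673), 31, 3), ((3423, 1701), 31, 4), ((864, 432), 32, 1), ((838, 395), 32, 3), ((843, 397), 32, 4),
     ((1900, 2484), 32, 7), ((2124, 3204), 33, 2), ((2131, 3233), 33, 3), ((2162, 3219), 33, 4), ((2412, 3764), 33, 6), ((273, 546), 34, 1),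
     ((256, 512), 34, 3), ((306, 531), 34, 4), ((1029, 2058), 35, 2), ((1024, 2048), 35, 3), ((1035, 2061), 35, 4), ((335, 645), 36, 4),
     ((1355, 2701), 37, 7), ((1122, 2227), 38, 4), ((1394, 2707), 39, 6), ((561, 786), 40, 1), ((1593, 2846), 40, 7), ((3081, 1038), 41, 2),
     ((3385, 1566), 41, 6), ((590, 903), 42, 3), ((1649, 2962), 42, 7), ((2630, 3979), 43, 7), ((1641, 3006), 44, 2), ((1619, 2977), 44, 3),
     ((1639, 3001), 44, 4), ((1401, 2718), 44, 6), ((3171, 1201), 45, 3), ((3401, 1678), 45, 6), ((3923, 1441), 46, 6), ((3453, 1686), 47, 1),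
     ((3398, 1675), 47, 3), ((3422, 1703), 47, 4), ((1837, 2358), 48, 7), ((2349, 3638), 49, 6), ((1889, 2482), 50, 7), ((3911, 1417), 51, 7),
     ((3914, 1423), 52, 7), ((1917, 2454), 53, 2), ((1874, 2467), 53, 3), ((1876, 2472), 53, 4), ((1389, 2742), 53, 6), ((2381, 3718), 54, 6),
     ((2642, 4003), 55, 6), ((2675, 3985), 56, 6), ((2409, 3774), 57, 1), ((2375, 3721), 57, 3), ((2388, 3752), 57, 4), ((1358, 2695), 58, 7),
     ((1482, 2639), 59, 7)]
  | 2 =>
    [((1, 2), 0, 0), ((65, 130), 0, 5), ((64, 128), 1, 0), ((84, 168), 1, 3), ((120, 156), 1, 4), ((85, 170), 2, 3),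
     ((121, 158), 2, 4), ((109, 182), 3, 4), ((340, 680), 3, 6), ((1108, 2216), 3, 7), ((632, 924), 4, 6), ((3192, 1180), 4, 7),
     ((108, 180), 5, 4), ((21, 42), 5, 5), ((341, 682), 5, 6), ((1109, 2218), 5, 7), ((57, 30), 6, 5), ((633, 926), 6, 6),
     ((3193, 1182), 6, 7), ((45, 54), 7, 5), ((877, 438), 7, 6), ((2157, 3254), 7, 7), ((336, 672), 8, 1), ((330, 655), 8, 4),
     ((3412, 1704), 8, 7), ((1092, 2184), 9, 2), ((1139, 2193), 9, 4), ((1620, 2984), 9, 6), ((624, 912), 10, 1), ((583, 905), 10, 3),
     ((3144, 1164), 11, 2), ((3154, 1187), 11, 3), ((876, 436), 12, 6), ((2156, 3252), 12, 7), ((277, 554), 13, 6), ((1045, 2090), 13, 7),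
     ((337, 674), 14, 1), ((331, 653), 14, 4), ((3413, 1706), 14, 7), ((1093, 2186), 15, 2), ((1138, 2195), 15, 4), ((1621, 2986), 15, 6),
     ((569, 798), 16, 6), ((3129, 1054), 16, 7), ((625, 914), 17, 1), ((582, 907), 17, 3), ((3145, 1166), 18, 2), ((3155, 1185), 18, 3),
     ((813, 310), 19, 6), ((2093, 3126), 19, 7), ((865, 434), 20, 1), ((839, 393), 20, 3), ((842, 399), 20, 4), ((3949, 1462), 20, 7),
     ((2125, 3206), 21, 2), ((2130, 3235), 21, 3), ((2163, 3217), 21, 4), ((2669, 4022), 21, 6), ((334, 647), 22, 4), ((3408, 1696), 22, 7),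
     ((458, 591), 23, 5), ((2378, 3727), 23, 7), ((3428, 1720), 24, 2), ((3435, 1725), 24, 3), ((3443, 1681), 24, 4), ((3668, 1960), 24, 6),
     ((1123, 2225), 25, 4), ((1604, 2952), 25, 6), ((1203, 2257), 26, 5), ((1907, 2449), 26, 6), ((1628, 2980), 27, 1), ((1662, 2967), 27, 3),
     ((1610, 2959), 27, 4), ((3655, 1929), 29, 7), ((3666, 1955), 31, 6), ((864, 432), 32, 1), ((838, 395), 32, 3), ((843, 397), 32, 4),
     ((3948, 1460), 32, 7), ((2124, 3204), 33, 2), ((2131, 3233), 33, 3), ((2162, 3219), 33, 4), ((2668, 4020), 33, 6), ((273, 546), 34, 1),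
     ((256, 512), 34, 3), ((306, 531), 34, 4), ((3349, 1578), 34, 7), ((1029, 2058), 35, 2), ((1024, 2048), 35, 3), ((1035, 2061), 35, 4),
     ((1557, 2858), 35, 6), ((335, 645), 36, 4), ((3409, 1698), 36, 7), ((2379, 3725), 37, 7), ((3429, 1722), 38, 2), ((3434, 1727), 38, 3),
     ((3442, 1683), 38, 4), ((3669, 1962), 38, 6), ((1122, 2227), 39, 4), ((1605, 2954), 39, 6), ((1906, 2451), 40, 6), ((1629, 2982), 41, 1),
     ((1663, 2965), 41, 3), ((1611, 2957), 41, 4), ((561, 786), 42, 1), ((3081, 1038), 43, 2), ((590, 903), 44, 3), ((3654, 1931), 45, 7),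
     ((3171, 1201), 46, 3), ((3667, 1953), 47, 6), ((3885, 1334), 48, 7), ((2605, 3894), 49, 6), ((3937, 1458), 50, 7), ((1863, 2441), 51, 7),
     ((1866, 2447), 52, 7), ((3933, 1446), 53, 2), ((3960, 1436), 53, 3), ((3955, 1425), 53, 4), ((3693, 1974), 53, 6), ((2637, 3974), 54, 6),
     ((2386, 3747), 55, 6), ((2419, 3729), 56, 6), ((2661, 4026), 57, 1), ((2680, 3996), 57, 3), ((2634, 3983), 57, 4), ((2382, 3719), 58, 7),
     ((3424, 1712), 59, 2)]
  | 3 =>
    [((1, 2), 0, 0), ((65, 130), 0, 5), ((64, 128), 1, 0), ((84, 168), 1, 3), ((120, 156), 1, 4), ((85, 170), 2, 3),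
     ((121, 158), 2, 4), ((109, 182), 3, 4), ((340, 680), 3, 6), ((1108, 2216), 3, 7), ((632, 924), 4, 6), ((3192, 1180), 4, 7),
     ((108, 180), 5, 4), ((21, 42), 5, 5), ((341, 682), 5, 6), ((1109, 2218), 5, 7), ((57, 30), 6, 5), ((633, 926), 6, 6),
     ((3193, 1182), 6, 7), ((45, 54), 7, 5), ((877, 438), 7, 6), ((2157, 3254), 7, 7), ((336, 672), 8, 1), ((330, 655), 8, 4),
     ((2388, 3752), 8, 7), ((1092, 2184), 9, 2), ((1139, 2193), 9, 4), ((1876, 2472), 9, 6), ((624, 912), 10, 1), ((583, 905), 10, 3),
     ((2680, 3996), 10, 7), ((3144, 1164), 11, 2), ((3154, 1187), 11, 3), ((3960, 1436), 11, 6), ((876, 436), 12, 6), ((2156, 3252), 12, 7),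
     ((277, 554), 13, 6), ((1045, 2090), 13, 7), ((337, 674), 14, 1), ((331, 653), 14, 4), ((2389, 3754), 14, 7), ((1093, 2186), 15, 2),
     ((1138, 2195), 15, 4), ((1877, 2474), 15, 6), ((569, 798), 16, 6), ((3129, 1054), 16, 7), ((625, 914), 17, 1), ((582, 907), 17, 3),
     ((2681, 3998), 17, 7), ((3145, 1166), 18, 2), ((3155, 1185), 18, 3), ((3961, 1438), 18, 6), ((813, 310), 19, 6), ((2093, 3126), 19, 7),
     ((865, 434), 20, 1), ((839, 393), 20, 3), ((842, 399), 20, 4), ((2125, 3206), 21, 2), ((2130, 3235), 21, 3), ((2163, 3217), 21, 4),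
     ((334, 647), 22, 4), ((2384, 3744), 22, 7), ((458, 591), 23, 5), ((3402, 1679), 23, 7), ((2420, 3736), 24, 2), ((2430, 3735), 24, 3),
     ((2413, 3766), 24, 4), ((2900, 3496), 24, 6), ((1123, 2225), 25, 4), ((1860, 2440), 25, 6), ((1203, 2257), 26, 5), ((1651, 2961), 26, 6),
     ((1880, 2476), 27, 1), ((1899, 2493), 27, 3), ((1901, 2486), 27, 4), ((2672, 3984), 28, 7), ((1607, 2953), 29, 7), ((2648, 4012), 30, 2),
     ((2669, 4022), 30, 3), ((2655, 4005), 30, 4), ((2936, 3484), 30, 6), ((3912, 1420), 31, 6), ((3410, 1699), 32, 6), ((3956, 1432), 33, 1),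
     ((3949, 1462), 33, 3), ((3942, 1467), 33, 4), ((864, 432), 34, 1), ((838, 395), 34, 3), ((843, 397), 34, 4), ((2124, 3204), 35, 2),
     ((2131, 3233), 35, 3), ((2162, 3219), 35, 4), ((273, 546), 36, 1), ((256, 512), 36, 3), ((306, 531), 36, 4), ((2325, 3626), 36, 7),
     ((1029, 2058), 37, 2), ((1024, 2048), 37, 3), ((1035, 2061), 37, 4), ((1813, 2346), 37, 6), ((335, 645), 38, 4), ((2385, 3746), 38, 7),
     ((3403, 1677), 39, 7), ((2421, 3738), 40, 2), ((2431, 3733), 40, 3), ((2412, 3764), 40, 4), ((2901, 3498), 40, 6), ((1122, 2227), 41, 4),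
     ((1861, 2442), 41, 6), ((1650, 2963), 42, 6), ((1881, 2478), 43, 1), ((1898, 2495), 43, 3), ((1900, 2484), 43, 4), ((561, 786), 44, 1),
     ((2617, 3870), 44, 7), ((3081, 1038), 45, 2), ((3897, 1310), 45, 6), ((590, 903), 46, 3), ((2673, 3986), 46, 7), ((1606, 2955), 47, 7),
     ((2649, 4014), 48, 2), ((2668, 4020), 48, 3), ((2654, 4007), 48, 4), ((2937, 3486), 48, 6), ((3171, 1201), 49, 3), ((3913, 1422), 49, 6),
     ((3411, 1697), 50, 6)]

/-- The line with a given index. -/
def line (u : Fin 4) (i : Nat) : Nat × Nat :=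
  ((table u).getD i ((0, 0), 0, 0)).1

/-- The action of the generators on the 126 lines, for the form that occurs. -/
def perm : Fin 8 → List Nat
  | 0 =>
    [0, 2, 1, 5, 6, 3, 4, 12, 14, 15, 17, 18, 7, 13, 8, 9, 16, 10, 11, 19,
     32, 33, 36, 37, 38, 39, 40, 43, 44, 45, 46, 47, 20, 21, 34, 35, 22, 23, 24, 25,
     26, 41, 42, 27, 28, 29, 30, 31, 48, 49, 67, 68, 69, 70, 71, 72, 73, 81, 82, 89,
     83, 84, 85, 93, 90, 91, 92, 50, 51, 52, 53, 54, 55, 56, 74, 75, 76, 77, 78, 79,
     80, 57, 58, 60, 61, 62, 86, 87, 88, 59, 64, 65, 66, 63, 94, 99, 100, 97, 98, 95,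
     96, 101, 102, 103, 104, 105, 106, 107, 108, 109, 110, 111, 112, 116, 114, 115, 113, 117, 118, 119,
     120, 121, 122, 123, 124, 125]
  | 1 =>
    [0, 1, 2, 3, 4, 5, 6, 7, 22, 9, 27, 11, 12, 13, 36, 15, 16, 43, 18, 19,
     50, 21, 8, 57, 58, 25, 26, 10, 59, 64, 30, 31, 67, 33, 74, 35, 14, 81, 82, 39,
     40, 86, 42, 17, 89, 90, 46, 47, 76, 49, 20, 69, 68, 95, 54, 55, 56, 23, 24, 28,
     84, 83, 62, 63, 29, 92, 91, 32, 52, 51, 99, 71, 72, 73, 34, 101, 48, 102, 78, 79,
     80, 37, 38, 61, 60, 85, 41, 108, 88, 44, 45, 66, 65, 93, 103, 53, 113, 104, 109, 70,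
     116, 75, 77, 94, 97, 118, 106, 119, 87, 98, 124, 120, 121, 96, 122, 125, 100, 117, 105, 107,
     111, 112, 114, 123, 110, 115]
  | 2 =>
    [0, 1, 2, 3, 4, 5, 6, 7, 8, 25, 10, 30, 12, 13, 14, 39, 16, 17, 46, 19,
     20, 54, 22, 23, 60, 9, 62, 27, 28, 65, 11, 63, 32, 71, 34, 78, 36, 37, 83, 15,
     85, 41, 88, 43, 44, 91, 18, 93, 48, 80, 50, 51, 52, 96, 21, 73, 72, 57, 84, 59,
     24, 82, 26, 31, 92, 29, 90, 67, 68, 69, 100, 33, 56, 55, 74, 75, 76, 104, 35, 106,
     49, 81, 61, 38, 58, 40, 86, 109, 42, 89, 66, 45, 64, 47, 107, 113, 53, 102, 108, 116,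
     70, 101, 97, 119, 77, 122, 79, 94, 98, 87, 125, 121, 120, 95, 118, 124, 99, 117, 114, 103,
     112, 111, 105, 123, 115, 110]
  | 3 =>
    [0, 3, 5, 1, 7, 2, 12, 4, 8, 9, 28, 31, 6, 13, 14, 15, 16, 44, 47, 19,
     51, 55, 22, 23, 61, 25, 26, 59, 10, 29, 63, 11, 68, 72, 75, 79, 36, 37, 84, 39,
     40, 76, 80, 89, 17, 45, 93, 18, 86, 88, 69, 20, 67, 53, 73, 21, 71, 57, 83, 27,
     82, 24, 62, 30, 64, 65, 66, 52, 32, 50, 70, 56, 33, 54, 101, 34, 41, 77, 106, 35,
     42, 81, 60, 58, 38, 85, 48, 110, 49, 43, 90, 91, 92, 46, 111, 95, 96, 97, 115, 99,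
     100, 74, 102, 120, 104, 105, 78, 121, 124, 125, 87, 94, 119, 113, 114, 98, 116, 117, 118, 112,
     103, 107, 122, 123, 108, 109]
  | 4 =>
    [0, 4, 6, 7, 1, 12, 2, 3, 23, 26, 10, 11, 5, 13, 37, 40, 16, 17, 18, 19,
     52, 56, 57, 8, 24, 62, 9, 27, 28, 66, 30, 31, 69, 73, 76, 80, 81, 14, 38, 85,
     15, 75, 79, 43, 44, 92, 46, 47, 74, 78, 68, 67, 20, 53, 72, 71, 21, 22, 58, 59,
     60, 61, 25, 63, 91, 90, 29, 51, 50, 32, 70, 55, 54, 33, 48, 41, 34, 105, 49, 42,
     35, 36, 82, 83, 84, 39, 101, 87, 106, 89, 65, 64, 45, 93, 112, 95, 96, 114, 98, 99,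
     100, 86, 118, 121, 122, 77, 88, 120, 108, 109, 110, 119, 94, 113, 97, 115, 116, 117, 102, 111,
     107, 103, 104, 123, 124, 125]
  | 5 =>
    [1, 0, 2, 3, 4, 13, 16, 19, 8, 9, 10, 11, 12, 5, 34, 35, 6, 41, 42, 7,
     48, 49, 22, 59, 24, 25, 63, 27, 57, 29, 30, 62, 32, 33, 14, 15, 74, 68, 77, 78,
     72, 17, 18, 86, 69, 87, 88, 73, 20, 21, 76, 89, 81, 94, 80, 93, 85, 28, 58, 23,
     60, 97, 31, 26, 64, 65, 98, 67, 37, 44, 70, 71, 40, 47, 36, 75, 50, 38, 39, 79,
     54, 52, 102, 104, 84, 56, 43, 45, 46, 51, 108, 109, 92, 55, 53, 103, 107, 61, 66, 99,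
     100, 101, 82, 95, 83, 105, 106, 96, 90, 91, 110, 111, 112, 119, 114, 115, 116, 117, 118, 113,
     120, 121, 122, 123, 124, 125]
  | 6 =>
    [0, 1, 2, 8, 10, 14, 17, 20, 3, 24, 4, 29, 32, 34, 5, 38, 41, 6, 45, 48,
     7, 53, 22, 52, 9, 60, 26, 27, 51, 11, 65, 31, 12, 70, 13, 77, 36, 69, 15, 83,
     40, 16, 87, 43, 68, 18, 91, 47, 19, 94, 50, 28, 23, 21, 96, 55, 56, 89, 58, 81,
     25, 61, 62, 63, 64, 30, 66, 67, 44, 37, 33, 100, 72, 73, 74, 75, 76, 35, 104, 79,
     107, 59, 82, 39, 84, 85, 86, 42, 109, 57, 90, 46, 92, 93, 49, 95, 54, 97, 98, 99,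
     71, 117, 102, 103, 78, 120, 106, 80, 108, 88, 121, 125, 122, 113, 124, 118, 116, 101, 115, 119,
     105, 110, 112, 123, 114, 111]
  | 7 =>
    [0, 1, 2, 9, 11, 15, 18, 21, 24, 3, 29, 4, 33, 35, 38, 5, 42, 45, 6, 49,
     53, 7, 58, 23, 8, 25, 56, 64, 28, 10, 30, 55, 70, 12, 77, 13, 82, 37, 14, 39,
     73, 87, 16, 90, 44, 17, 46, 72, 94, 19, 95, 51, 52, 20, 54, 31, 26, 57, 22, 59,
     60, 61, 93, 85, 27, 65, 66, 99, 68, 69, 32, 71, 47, 40, 102, 75, 103, 34, 78, 79,
     80, 81, 36, 83, 84, 63, 108, 41, 88, 89, 43, 91, 92, 62, 48, 50, 96, 97, 98, 67,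
     100, 101, 74, 76, 104, 121, 123, 107, 86, 109, 120, 124, 118, 113, 125, 122, 116, 117, 112, 119,
     110, 105, 115, 106, 111, 114]

/-- The index of each generator. -/
def genIdx : Fin 8 → Nat
  | 0 => 0
  | 1 => 117
  | 2 => 123
  | 3 => 13
  | 4 => 16
  | 5 => 2
  | 6 => 75
  | 7 => 79

/-- Pairs of lines whose products fix only the first line. -/
def stabPairs : List (Nat × Nat) := [(49, 117), (35, 86), (48, 110), (107, 109), (122, 103)]

/-- A word acting on the codes as a scalar of order three. -/
def scalWord : List (Fin 8) := [4, 7, 1, 6, 3, 5]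

/-- The action of a word. -/
def appWord (u : Fin 4) (w : List (Fin 8)) (x : Nat) : Nat :=
  w.foldl (fun y k => transv u (gen k) y) x

/-- The lines as vectors of norm one, up to sign, of the elliptic six-dimensional space over three
elements: codes in base three. -/
def point : List Nat :=
  [243, 495, 252, 244, 310, 487, 553, 529, 424, 322, 463, 271, 286, 10, 667, 565,
   76, 706, 514, 52, 682, 490, 343, 624, 475, 292, 246, 382, 480, 451, 250, 549,
   439, 247, 163, 61, 586, 381, 718, 535, 489, 229, 37, 625, 723, 694, 493, 306,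
   205, 13, 601, 390, 714, 670, 541, 507, 522, 705, 394, 399, 445, 607, 513, 498,
   370, 430, 592, 358, 633, 471, 427, 298, 264, 279, 82, 90, 124, 241, 31, 39,
   64, 462, 637, 688, 364, 270, 148, 190, 16, 642, 613, 673, 349, 255, 166, 589,
   721, 130, 88, 346, 478, 171, 160, 85, 211, 165, 48, 217, 109, 169, 144, 183,
   198, 640, 189, 174, 397, 81, 84, 136, 102, 117, 108, 30, 225, 93]

/-- The dual basis. -/
def dual : Fin 4 → List Nat
  | 0 => [128, 64, 512, 256, 2048, 1024, 2, 1, 8, 4, 32, 16]
  | 1 => [128, 64, 544, 272, 2056, 1028, 2, 1, 8, 4, 32, 16]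
  | 2 => [128, 64, 560, 288, 2052, 1036, 2, 1, 8, 4, 32, 16]
  | 3 => [128, 64, 528, 304, 2060, 1032, 2, 1, 8, 4, 32, 16]

set_option maxRecDepth 100000

theorem gram_length : ∀ u, (gram u).length = 12 ∧ ∀ r ∈ gram u, r.length = 12 := by decide +kernel

theorem table_zero : ∀ u, line u 0 = gen 0 := by decide +kernel

theorem table_step : ∀ u, ∀ i : Fin (table u).length, i.1 ≠ 0 →
    ((table u).getD i ((0, 0), 0, 0)).2.1 < i.1 ∧
    line u i = (transv u (gen ((table u).getD i ((0, 0), 0, 0)).2.2)
        (line u ((table u).getD i ((0, 0), 0, 0)).2.1).1,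
      transv u (gen ((table u).getD i ((0, 0), 0, 0)).2.2)
        (line u ((table u).getD i ((0, 0), 0, 0)).2.1).2) := by decide +kernel

theorem table_distinct : ∀ u, (table u).Pairwise (fun p q => p.1.1 ∉ triple q.1) := by decide +kernel

theorem table_bound : ∀ u, ∀ e ∈ table u, e.1.1 < 4096 ∧ e.1.2 < 4096 ∧ e.1.1 ≠ 0 ∧ e.1.2 ≠ 0 ∧
    e.1.1 ≠ e.1.2 := by decide +kernel

theorem table_length : (table 0).length = 126 ∧ ∀ u, u ≠ 0 → (table u).length = 127 := by decide +kernel

theorem perm_step : ∀ k, ∀ i : Fin 126, (perm k).getD i 0 < 126 ∧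
    transv 0 (gen k) (line 0 i).1 ∈ triple (line 0 ((perm k).getD i 0)) := by decide +kernel

theorem genIdx_spec : ∀ k, genIdx k < 126 ∧ (gen k).1 ∈ triple (line 0 (genIdx k)) := by decide +kernel

theorem stab_spec : (∀ p ∈ stabPairs, p.1 < 126 ∧ p.2 < 126 ∧ p.1 ≠ 0 ∧ p.2 ≠ 0 ∧
      beta 0 (line 0 p.1).1 (gen 0).1 = false ∧ beta 0 (line 0 p.1).1 (gen 0).2 = false ∧
      beta 0 (line 0 p.1).2 (gen 0).1 = false ∧ beta 0 (line 0 p.1).2 (gen 0).2 = false ∧
      beta 0 (line 0 p.2).1 (gen 0).1 = false ∧ beta 0 (line 0 p.2).1 (gen 0).2 = false ∧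
      beta 0 (line 0 p.2).2 (gen 0).1 = false ∧ beta 0 (line 0 p.2).2 (gen 0).2 = false) ∧
    ∀ i : Fin 126, i.1 ≠ 0 → ∃ p ∈ stabPairs,
      transv 0 (line 0 p.1) (transv 0 (line 0 p.2) (line 0 i).1) ∉ triple (line 0 i) := by decide +kernel

theorem scal_spec : scalWord.length % 2 = 0 ∧
    appWord 0 (List.replicate 8 scalWord).flatten 1 = 3 ∧
    appWord 0 (List.replicate 8 scalWord).flatten 2 = 1 := by decide +kernel

theorem scal_fixes : ∀ i : Fin 126,
    appWord 0 (List.replicate 8 scalWord).flatten (line 0 i).1 ∈ triple (line 0 i) := by decide +kernel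

theorem line_distinct : ∀ i j : Fin 126, i ≠ j → (line 0 i).1 ∉ triple (line 0 j) := by decide +kernel

theorem dual_spec : ∀ u, ∀ j : Fin 12, (gram u).map (fun r => selB r ((dual u).getD j 0)) =
    (List.range 12).map (fun i => i == j.1) := by decide +kernel

end CfsgLib.FischerTypes.M24QuadCent.Code
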