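import Cfsg.Agent.FischerTypes.M24QuadCent.Members
import Cfsg.Agent.FischerTypes.M24Centralizer
import Cfsg.Agent.FischerTypes.M23Centralizer

/-!
# What centralizes all members fixing a product of four commuting members

It is `1` or that product: descend through the centralizers of the four members to `PSU(6,2)`.
-/

set_option autoImplicit false
set_option linter.unusedSectionVars false
set_option linter.unusedDecidableInType false
set_option linter.unusedFintypeInType false

namespace CfsgLib.FischerTypes.M24QuadCent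

open Cfsg CfsgLib.FischerTypes

attribute [local instance] Classical.propDecidable

variable {G : Type*} [Group G] {D : Set G}

/-- The class of an element of `⟨D_d⟩`. -/
abbrev barS {d x : G} (hx : x ∈ Subgroup.closure (perp D d)) : PerpQuot D d :=
  QuotientGroup.mk (⟨x, hx⟩ : ↥(Subgroup.closure (perp D d)))

theorem commute_barS {d x y : G} (hx : x ∈ Subgroup.closure (perp D d)) (hy : y ∈ perp D d)
    (h : Commute x y) : Commute (barS hx) (bar hy) := by
  have : Commute (⟨x, hx⟩ : ↥(Subgroup.closure (perp D d))) ⟨y, mem_perp_closure hy⟩ := Subtype.ext h.eq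
  exact this.map (QuotientGroup.mk' _)

theorem commute_perp_of_barS_eq_one {d x : G} (hx : x ∈ Subgroup.closure (perp D d)) (h : barS hx = 1) :
    ∀ y ∈ perp D d, Commute x y :=
  mem_center_closure_iff.1 ((QuotientGroup.eq_one_iff _).1 h)

theorem barS_mul {d x y : G} (hx : x ∈ Subgroup.closure (perp D d)) (hy : y ∈ perp D d) :
    barS (mul_mem hx (mem_perp_closure hy)) = barS hx * bar hy := rfl

variable [Finite G]

/-- In type M(22): fixing the common neighbours of two commuting members. -/
theorem descent22 (h : IsThreeTranspositionGroup D) (hp : IsPrimitiveUnderConj D) (h22 : IsOfTypeM22 G D)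
    {c e g : G} (hc : c ∈ D) (he : e ∈ perp D c) (hgc : Commute g c)
    (hg : ∀ y ∈ perp D c, Commute e y → Commute g y) :
    g = 1 ∨ g = c ∨ g = e ∨ g = e * c := by
  obtain ⟨M⟩ := exists_perpModel h h22 hc
  have hmem : g ∈ Subgroup.closure (perp D c) := by
    rw [← centralizer_eq h hp h22 hc]
    exact Subgroup.mem_centralizer_singleton_iff.2 hgc
  have he2 := mul_self h.1 he.1
  have fin : ∀ w, Commute w c → (∀ y ∈ perp D c, Commute w y) → w = 1 ∨ w = c :=
    fun w => eq_one_or_eq_of_centralize h hp h22 hc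
  rcases M.one_or_bar he (barS hmem) (fun y hy hey => commute_barS hmem hy (hg y hy hey)) with h1 | h1
  · rcases fin g hgc (commute_perp_of_barS_eq_one hmem h1) with h2 | h2
    exacts [Or.inl h2, Or.inr (Or.inl h2)]
  · have h3 : barS (mul_mem hmem (mem_perp_closure he)) = 1 := by
      rw [barS_mul hmem he, h1, ← QuotientGroup.mk_mul, QuotientGroup.eq_one_iff]
      convert Subgroup.one_mem _
      exact Subtype.ext he2
    have hge : g = g * e * e := by rw [mul_assoc, he2, mul_one]
    rcases fin (g * e) (hgc.mul_left he.2.2.symm) (commute_perp_of_barS_eq_one _ h3) with h2 | h2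
    · exact Or.inr (Or.inr (Or.inl (by rw [hge, h2, one_mul])))
    · exact Or.inr (Or.inr (Or.inr (by rw [hge, h2, he.2.2.eq])))

/-- In type M(23): fixing the common neighbours of three commuting members. -/
theorem descent23 (H : M23.Hyp G D) {b c e g : G} (hb : b ∈ D) (hc : c ∈ perp D b) (he : e ∈ perp D b)
    (hce : e ∈ perp D c) (hgb : Commute g b) (hgc : Commute g c)
    (hg : ∀ y ∈ perp D b, Commute c y → Commute e y → Commute g y) :
    ∃ i j k : Fin 2, g = e ^ (i : ℕ) * c ^ (j : ℕ) * b ^ (k : ℕ) := by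
  have h := H.group
  have hmem : g ∈ Subgroup.closure (perp D b) := by
    rw [← M23.centralizer_eq h H hb]
    exact Subgroup.mem_centralizer_singleton_iff.2 hgb
  set Q := barS hmem with hQ
  have hq := M23.quotGroup h b
  have key := descent22 hq (M23.quotPrim H hb) (M23.quot22 H hb) (M23.bar_mem H hb hc)
    (e := bar he) (g := Q) ((M23.mem_perp_bar H hb hc he).2 hce) (commute_barS hmem hc hgc) (fun p hp hep => by
      obtain ⟨y, hy, rfl⟩ := M23.exists_lift hp.1
      exact commute_barS hmem hy (hg y hy ((M23.bar_commute H hc hy).1 hp.2.2) ((M23.bar_commute H he hy).1 hep)))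
  -- remove the part in `c`, `e`
  obtain ⟨i, j, hij⟩ : ∃ i j : Fin 2, Q = bar he ^ (i : ℕ) * bar hc ^ (j : ℕ) := by
    rcases key with h1 | h1 | h1 | h1
    exacts [⟨0, 0, by simp [h1]⟩, ⟨0, 1, by simp [h1]⟩, ⟨1, 0, by simp [h1]⟩, ⟨1, 1, by simp [h1]⟩]
  set t := e ^ (i : ℕ) * c ^ (j : ℕ) with ht
  have htm : t ∈ Subgroup.closure (perp D b) :=
    mul_mem (pow_mem (mem_perp_closure he) _) (pow_mem (mem_perp_closure hc) _)
  have h1 : barS (mul_mem (inv_mem htm) hmem) = 1 := by
    show QuotientGroup.mk' _ ((⟨t, htm⟩ : ↥(Subgroup.closure (perp D b)))⁻¹ * ⟨g, hmem⟩) = 1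
    rw [map_mul, map_inv, inv_mul_eq_one]
    exact hij.symm
  have htb : Commute (t⁻¹ * g) b := by
    refine (Commute.inv_left ?_).mul_left hgb
    exact (he.2.2.symm.pow_left _).mul_left (hc.2.2.symm.pow_left _)
  have hgt : g = t * (t⁻¹ * g) := (mul_inv_cancel_left t g).symm
  rcases M23.eq_one_or_eq_of_centralize H hb htb (commute_perp_of_barS_eq_one _ h1) with h2 | h2
  · exact ⟨i, j, 0, by rw [hgt, h2]; simp [ht]⟩
  · exact ⟨i, j, 1, by rw [hgt, h2]; simp [ht]⟩

/-- In type M(24): fixing the common neighbours of four commuting members. -/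
theorem descent24 (H : M24.Hyp G D) {a b c e g : G} (ha : a ∈ D) (hb : b ∈ perp D a) (hc : c ∈ perp D a)
    (he : e ∈ perp D a) (hbc : c ∈ perp D b) (hbe : e ∈ perp D b) (hce : e ∈ perp D c) (hga : Commute g a)
    (hgb : Commute g b) (hgc : Commute g c)
    (hg : ∀ y ∈ perp D a, Commute b y → Commute c y → Commute e y → Commute g y) :
    ∃ i j k m : Fin 2, g = e ^ (i : ℕ) * c ^ (j : ℕ) * b ^ (k : ℕ) * a ^ (m : ℕ) := by
  have h := H.group
  have hmem : g ∈ Subgroup.closure (perp D a) := by
    rw [← M24.centralizer_eq h H ha]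
    exact Subgroup.mem_centralizer_singleton_iff.2 hga
  obtain ⟨i, j, k, hijk⟩ := descent23 (M24.quot H ha) (M24.bar_mem H ha hb)
    ((M24.mem_perp_bar H ha hb hc).2 hbc) ((M24.mem_perp_bar H ha hb he).2 hbe)
    ((M24.mem_perp_bar H ha hc he).2 hce) (commute_barS hmem hb hgb) (commute_barS hmem hc hgc)
    (fun p hp hcp hep => by
      obtain ⟨y, hy, rfl⟩ := M23.exists_lift hp.1
      exact commute_barS hmem hy (hg y hy ((M24.bar_commute H hb hy).1 hp.2.2)
        ((M24.bar_commute H hc hy).1 hcp) ((M24.bar_commute H he hy).1 hep)))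
  set t := e ^ (i : ℕ) * c ^ (j : ℕ) * b ^ (k : ℕ) with ht
  have htm : t ∈ Subgroup.closure (perp D a) := mul_mem (mul_mem (pow_mem (mem_perp_closure he) _)
    (pow_mem (mem_perp_closure hc) _)) (pow_mem (mem_perp_closure hb) _)
  have h1 : barS (mul_mem (inv_mem htm) hmem) = 1 := by
    show QuotientGroup.mk' _ ((⟨t, htm⟩ : ↥(Subgroup.closure (perp D a)))⁻¹ * ⟨g, hmem⟩) = 1
    rw [map_mul, map_inv, inv_mul_eq_one]
    exact hijk.symm
  have hta : Commute (t⁻¹ * g) a := by
    refine (Commute.inv_left ?_).mul_left hga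
    exact ((he.2.2.symm.pow_left _).mul_left (hc.2.2.symm.pow_left _)).mul_left (hb.2.2.symm.pow_left _)
  have hgt : g = t * (t⁻¹ * g) := (mul_inv_cancel_left t g).symm
  rcases M24.eq_one_or_eq_of_centralize H ha hta (commute_perp_of_barS_eq_one _ h1) with h2 | h2
  · exact ⟨i, j, k, 0, by rw [hgt, h2]; simp [ht]⟩
  · exact ⟨i, j, k, 1, by rw [hgt, h2]; simp [ht]⟩

variable {z : G}

open CfsgLib.Transpositions.TypeM24 in
/-- What fixes every member fixing `z` is `1` or `z`. -/
theorem Setting.eq_of_centralize (S₀ : Setting G D z) {g : G} (hg : ∀ w ∈ Mz D z, Commute g w) :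
    g = 1 ∨ g = z := by
  have H := S₀.hyp
  obtain ⟨R, hR⟩ := S₀.exists_rep
  obtain ⟨a, b, c, e, hab, hac, hae, hbc, hbe, hce, hRe⟩ := Finset.card_eq_four.1 hR.card
  have pp : ∀ {x y}, x ∈ R → y ∈ R → x ≠ y → y ∈ perp D x := fun hx hy hne =>
    ⟨hR.mem _ hy, hne.symm, hR.comm _ hx _ hy⟩
  have ma : a ∈ R := by simp [hRe]
  have mb : b ∈ R := by simp [hRe]
  have mc : c ∈ R := by simp [hRe]
  have me : e ∈ R := by simp [hRe]
  obtain ⟨i, j, k, m, hgv⟩ := descent24 H (hR.mem a ma) (pp ma mb hab) (pp ma mc hac) (pp ma me hae)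
    (pp mb mc hbc) (pp mb me hbe) (pp mc me hce) (hg a (hR.subset_Mz H ma)) (hg b (hR.subset_Mz H mb))
    (hg c (hR.subset_Mz H mc)) (fun y hy hby hcy hey => hg y ⟨hy.1, hR.commute_z H fun x hx => by
      simp only [hRe, Finset.mem_insert, Finset.mem_singleton] at hx
      rcases hx with rfl | rfl | rfl | rfl
      exacts [hy.2.2.symm, hby.symm, hcy.symm, hey.symm]⟩)
  -- a member not commuting with the quadruple
  obtain ⟨s, hs, hsa⟩ : ∃ s ∈ Mz D z, ¬ Commute s a := by
    by_contra hall
    push Not at hall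
    have hsub : Mz D z ⊆ ↑(R ∪ commonF D R) := fun w hw => by
      rw [Finset.mem_coe, Finset.mem_union]
      by_cases hwR : w ∈ R
      · exact Or.inl hwR
      exact Or.inr (mem_commonF.2 ⟨hw.1, fun x hx => ⟨hw.1, fun h => hwR (h ▸ hx),
        (hR.commute_all H hw ma (hall w hw) x hx).symm⟩⟩)
    have h1 := Set.ncard_le_ncard hsub
    have h504 : (Mz D z).ncard = 504 := by
      obtain ⟨l, hl, h4, hp⟩ := S₀.exists_list
      have := ncard_fixed_quad H hl.nodup h4 hl.mem hl.comm
      rw [hp] at this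
      exact this
    have h2 := Finset.card_union_le R (commonF D R)
    rw [card_commonF, (Transpositions.TypeM24.ncard_common H hR.mem hR.comm).2.2.2.1 hR.card, hR.card] at h2
    rw [h504, Set.ncard_coe_finset] at h1
    omega
  have hsn : ∀ x ∈ R, ¬ Commute s x := fun x hx hc' => hsa (hR.commute_all H hs hx hc' a ma)
  -- a sub-product commuting with it
  have hsub : ∀ l : List G, l.Sublist [e, c, b, a] → Commute s l.prod → l = [] ∨ l = [e, c, b, a] := by
    intro l hl hcl
    by_cases h4 : l.length = 4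
    · exact Or.inr (hl.eq_of_length h4)
    have h3 : l.length ≤ 3 := by
      have := hl.length_le
      simp only [List.length_cons, List.length_nil] at this
      omega
    have hlR : ∀ x ∈ l, x ∈ R := fun x hx => by
      have := hl.subset hx
      simp only [List.mem_cons, List.not_mem_nil, or_false] at this
      simp [hRe]
      tauto
    have hcl' : IsCList D l := ⟨hl.nodup (by simp [hab.symm, hac.symm, hae.symm, hbc.symm, hbe.symm, hce.symm]),
      fun x hx => hR.mem x (hlR x hx), fun x hx y hy => hR.comm x (hlR x hx) y (hlR y hy)⟩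
    cases l with
    | nil => exact Or.inl rfl
    | cons x t =>
      exact absurd (hcl'.commute_each H.group.1 h3 hs.1 hcl x List.mem_cons_self)
        (hsn x (hlR x List.mem_cons_self))
  obtain ⟨l, hl, hlp⟩ : ∃ l : List G, l.Sublist [e, c, b, a] ∧ g = l.prod := by
    rw [hgv]
    fin_cases i <;> fin_cases j <;> fin_cases k <;> fin_cases m <;>
      simp only [pow_zero, pow_one, one_mul, mul_one]
    exacts [⟨[], by simp, by simp⟩, ⟨[a], by simp, by simp⟩, ⟨[b], by simp, by simp⟩, ⟨[b, a], by simp, by simp⟩,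
      ⟨[c], by simp, by simp⟩, ⟨[c, a], by simp, by simp⟩, ⟨[c, b], by simp, by simp⟩,
      ⟨[c, b, a], by simp, by simp [mul_assoc]⟩, ⟨[e], by simp, by simp⟩, ⟨[e, a], by simp, by simp⟩,
      ⟨[e, b], by simp, by simp⟩, ⟨[e, b, a], by simp, by simp [mul_assoc]⟩, ⟨[e, c], by simp, by simp⟩,
      ⟨[e, c, a], by simp, by simp [mul_assoc]⟩, ⟨[e, c, b], by simp, by simp [mul_assoc]⟩,
      ⟨[e, c, b, a], by simp, by simp [mul_assoc]⟩]
  rcases hsub l hl (hlp ▸ (hg s hs).symm) with rfl | rfl
  · exact Or.inl (by simpa using hlp)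
  · refine Or.inr (hlp.trans (hR.prod_eq H (by
      simp [hab.symm, hac.symm, hae.symm, hbc.symm, hbe.symm, hce.symm]) fun x => ?_))
    simp [hRe]
    tauto

end CfsgLib.FischerTypes.M24QuadCent
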