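import Cfsg.Agent.FischerTypes.M24QuadCent.Pairs

/-!
# Quadruples inside and next to a maximal commuting set

A pair of one tetrad is modulo `z` a product of pairs of any three others; three pairs in three tetrads
are independent; outside quadruples with two prescribed neighbours exist along given ones.
-/

set_option autoImplicit false
set_option linter.unusedSectionVars false
set_option linter.unusedDecidableInType false
set_option linter.unusedFintypeInType false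

open scoped symmDiff

namespace CfsgLib.FischerTypes.M24QuadCent

open Cfsg CfsgLib.FischerTypes
open CfsgLib.Transpositions.TypeM24
open CfsgLib.Transpositions.CliqueAlgebra (val val_symmDiff val_singleton val_mul_self)

attribute [local instance] Classical.propDecidable

variable {G : Type*} [Group G] [Finite G] {D : Set G} {z : G}

theorem IsRep.disjoint_of_ne (H : M24.Hyp G D) {R U : Finset G} (hR : IsRep D z R) (hU : IsRep D z U)
    (hne : R ≠ U) : Disjoint R U :=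
  Finset.disjoint_left.2 fun _ h1 h2 => hne (hR.eq_of_mem H hU h1 h2)

variable (S₀ : Setting G D z)

include S₀

theorem Setting.not_opp_of_clique {M R U : Finset G} (hM : IsMaxClique D (M : Set G)) (hRM : R ⊆ M)
    (hUM : U ⊆ M) : ¬ Opp R U := fun ⟨a, ha, y, hy, h⟩ => h (hM.comm a (hRM ha) y (hUM hy))

/-- Three pairs in three tetrads are independent modulo `z`. -/
theorem Setting.indep_pairs {M U V W : Finset G} (hM : IsMaxClique D (M : Set G)) (hU : IsRep D z U)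
    (hV : IsRep D z V) (hW : IsRep D z W) (hUM : U ⊆ M) (hVM : V ⊆ M) (hWM : W ⊆ M) (hUV : U ≠ V)
    (hUW : U ≠ W) (hVW : V ≠ W) {p q : Quo z} (hp : p ∈ pairs z U) (hq : q ∈ pairs z V) :
    p * q ≠ 1 ∧ p * q ∉ pairs z W := by
  have hH := S₀.hyp
  refine ⟨fun h => hUV (S₀.eq_of_pairs hU hV hp ?_), fun hr => ?_⟩
  · rw [eq_inv_of_mul_eq_one_left h, inv_eq_of_mul_eq_one_right (S₀.abar_sq (S₀.pairs_mem_Abar hV hq))]
    exact hq
  obtain ⟨a, ha, b, hb, hab, rfl⟩ := hp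
  obtain ⟨c, hc, e, he, hce, rfl⟩ := hq
  obtain ⟨f, hf, g, hg, hfg, hr⟩ := hr
  have key : ∀ {f g : G}, f ∈ W → g ∈ W → f ≠ g → a * b * (c * e) = f * g → False := by
    intro f g hf hg hfg h
    have d1 := Finset.disjoint_left.1 (hU.disjoint_of_ne hH hV hUV)
    have d2 := Finset.disjoint_left.1 (hU.disjoint_of_ne hH hW hUW)
    have d3 := Finset.disjoint_left.1 (hV.disjoint_of_ne hH hW hVW)
    have hm : ∀ x ∈ [a, b, c, e, g, f], x ∈ M := by
      intro x hx
      simp only [List.mem_cons, List.not_mem_nil, or_false] at hx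
      rcases hx with rfl | rfl | rfl | rfl | rfl | rfl
      exacts [hUM ha, hUM hb, hVM hc, hVM he, hWM hg, hWM hf]
    refine noRel_le hH (n := 6) (by norm_num) (by norm_num) [a, b, c, e, g, f] ?_ rfl
      (fun x hx => hM.sub (hm x hx)) (fun x hx y hy => hM.comm x (hm x hx) y (hm y hy)) ?_
    · have n1 := fun {x y : G} (hx : x ∈ U) (hy : y ∈ V) (e' : x = y) => d1 hx (e' ▸ hy)
      have n2 := fun {x y : G} (hx : x ∈ U) (hy : y ∈ W) (e' : x = y) => d2 hx (e' ▸ hy)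
      have n3 := fun {x y : G} (hx : x ∈ V) (hy : y ∈ W) (e' : x = y) => d3 hx (e' ▸ hy)
      simp only [List.nodup_cons, List.mem_cons, List.not_mem_nil, or_false, not_or, List.nodup_nil,
        and_true]
      exact ⟨⟨hab, n1 ha hc, n1 ha he, n2 ha hg, n2 ha hf⟩, ⟨n1 hb hc, n1 hb he, n2 hb hg, n2 hb hf⟩,
        ⟨hce, n3 hc hg, n3 hc hf⟩, ⟨n3 he hg, n3 he hf⟩, hfg.symm, not_false⟩
    · simp only [List.prod_cons, List.prod_nil, mul_one]
      rw [show a * (b * (c * (e * (g * f)))) = a * b * (c * e) * (g * f) by group, h, mul_assoc,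
        ← mul_assoc g, mul_self hH.group.1 (hW.mem g hg), one_mul, mul_self hH.group.1 (hW.mem f hf)]
  have mab : a * b * (c * e) ∈ CC z := mul_mem (mul_mem (hU.mem_CC hH ha) (hU.mem_CC hH hb))
    (mul_mem (hV.mem_CC hH hc) (hV.mem_CC hH he))
  rw [← cl_mul (mul_mem (hU.mem_CC hH ha) (hU.mem_CC hH hb)) (mul_mem (hV.mem_CC hH hc) (hV.mem_CC hH he)),
    eq_comm, S₀.cl_eq_iff (mul_mem (hW.mem_CC hH hf) (hW.mem_CC hH hg)) mab] at hr
  rcases hr with hr | hr
  · exact key hf hg hfg hr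
  obtain ⟨k, j, hkj, hfk, hfj, hgk, hgj, hWe⟩ := exists_four hW.card hf hg hfg
  refine key (f := k) (g := j) (by simp [hWe]) (by simp [hWe]) hkj ?_
  rw [hr, ← (S₀.four hW hWe hfg hfk hfj hgk hgj hkj).1, ← mul_assoc (f * g), mul_assoc f g (f * g),
    ← mul_assoc g f g, (hW.comm g hg f hf).eq, mul_assoc f g g, mul_self hH.group.1 (hW.mem g hg), mul_one,
    mul_self hH.group.1 (hW.mem f hf), one_mul]

/-- A pair of a tetrad is modulo `z` a product of pairs of three given others. -/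
theorem Setting.decompose {M R₁ R₂ R₃ R₄ : Finset G} (hM : IsMaxClique D (M : Set G)) (h₁ : IsRep D z R₁)
    (h₂ : IsRep D z R₂) (h₃ : IsRep D z R₃) (h₄ : IsRep D z R₄) (s₁ : R₁ ⊆ M) (s₂ : R₂ ⊆ M) (s₃ : R₃ ⊆ M)
    (s₄ : R₄ ⊆ M) (n12 : R₁ ≠ R₂) (n13 : R₁ ≠ R₃) (n23 : R₂ ≠ R₃) (n14 : R₁ ≠ R₄) (n24 : R₂ ≠ R₄)
    (n34 : R₃ ≠ R₄) {p : Quo z} (hp : p ∈ pairs z R₄) :
    ∃ p₁ ∈ pairs z R₁, ∃ p₂ ∈ pairs z R₂, ∃ p₃ ∈ pairs z R₃, p = p₁ * p₂ * p₃ := by
  have hH := S₀.hyp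
  have hcm := commM hH hM
  obtain ⟨x, hx, x', hx', hxx, rfl⟩ := hp
  obtain ⟨a₁, ha₁⟩ := Finset.card_pos.1 (show 0 < R₁.card by rw [h₁.card]; norm_num)
  obtain ⟨a₂, ha₂⟩ := Finset.card_pos.1 (show 0 < R₂.card by rw [h₂.card]; norm_num)
  set T := tetrads M R₄ with hT
  have hT6 : T.card = 6 := card_tetrads hH hM s₄ h₄.card
  have hrep : ∀ U ∈ T, IsRep D z U ∧ U ⊆ M := fun U hU =>
    ⟨h₄.of_mem_tetrads hH hM s₄ hU, (Transpositions.TypeM24.mem_tetrads.1 hU).1⟩
  have hmemT : ∀ {U : Finset G}, IsRep D z U → U ⊆ M → U ∈ T := fun hU hUM => h₄.mem_tetrads s₄ hU hUM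
  have hvalR : ∀ {U : Finset G}, IsRep D z U → U ⊆ M → val M U = z := fun {U} hU hUM =>
    (val_self M hUM).trans hU.prod
  have hcoverM : T.biUnion id = M := Finset.eq_of_subset_of_card_le
    (fun y hy => by obtain ⟨U, hU, hyU⟩ := Finset.mem_biUnion.1 hy; exact (hrep U hU).2 hyU)
    (by rw [Finset.card_biUnion (t := id) (fun U hU V hV hne => (hrep U hU).1.disjoint_of_ne hH (hrep V hV).1 hne),
      Finset.sum_congr rfl (g := fun _ => 4) (fun U hU => show (id U).card = 4 from (hrep U hU).1.card),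
      Finset.sum_const, hT6, (card_clique hH hM).1, smul_eq_mul])
  -- the blocks
  have hblock : ∀ b ∈ R₁, b ≠ a₁ → ∃ B ⊆ M, B.card = 8 ∧ val M B = 1 ∧ x ∈ B ∧ x' ∈ B ∧ a₁ ∈ B ∧ b ∈ B ∧
      a₂ ∈ B ∧ (∀ U ∈ ({R₄, R₁, R₂} : Finset (Finset G)), (B ∩ U).card = 2) ∧
      ∃ U ∈ T \ {R₄, R₁, R₂}, (B ∩ U).card = 2 ∧ ∀ V ∈ T \ {R₄, R₁, R₂}, V ≠ U → B ∩ V = ∅ := by
    intro b hb hba
    have d41 := Finset.disjoint_left.1 (h₄.disjoint_of_ne hH h₁ n14.symm)
    have d42 := Finset.disjoint_left.1 (h₄.disjoint_of_ne hH h₂ n24.symm)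
    have d12 := Finset.disjoint_left.1 (h₁.disjoint_of_ne hH h₂ n12)
    obtain ⟨B, hBM, hB8, hFB, hBv⟩ := Transpositions.TypeM24.exists_block hH hM (F := {x, x', a₁, b, a₂})
      (by simp [Finset.insert_subset_iff, s₄ hx, s₄ hx', s₁ ha₁, s₁ hb, s₂ ha₂]) (by
        have e1 : a₁ ≠ a₂ := fun e => d12 ha₁ (e ▸ ha₂)
        have e2 : b ≠ a₂ := fun e => d12 hb (e ▸ ha₂)
        have e3 : x ≠ a₁ := fun e => d41 hx (e ▸ ha₁)
        have e4 : x ≠ b := fun e => d41 hx (e ▸ hb)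
        have e5 : x ≠ a₂ := fun e => d42 hx (e ▸ ha₂)
        have e6 : x' ≠ a₁ := fun e => d41 hx' (e ▸ ha₁)
        have e7 : x' ≠ b := fun e => d41 hx' (e ▸ hb)
        have e8 : x' ≠ a₂ := fun e => d42 hx' (e ▸ ha₂)
        simp [hxx, hba.symm, e1, e2, e3, e4, e5, e6, e7, e8])
    simp only [Finset.insert_subset_iff, Finset.singleton_subset_iff] at hFB
    obtain ⟨bx, bx', ba₁, bb, ba₂⟩ := hFB
    have hunion : ∀ {U V : Finset G}, U ∈ T → V ∈ T → U ≠ V →
        ((B ∩ U).card + (B ∩ V).card = 0 ∨ (B ∩ U).card + (B ∩ V).card = 2 ∨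
          (B ∩ U).card + (B ∩ V).card = 4 ∨ B = U ∪ V) := by
      intro U V hU hV hne
      obtain ⟨hUr, hUM⟩ := hrep U hU
      obtain ⟨hVr, hVM⟩ := hrep V hV
      have hd := hUr.disjoint_of_ne hH hVr hne
      have h := block_inter hH hM hBM hB8 hBv (Finset.union_subset hUM hVM)
        (by rw [Finset.card_union_of_disjoint hd, hUr.card, hVr.card])
        (by rw [show U ∪ V = U ∆ V from hd.symmDiff_eq_sup.symm, val_symmDiff hcm hUM hVM, hvalR hUr hUM,
          hvalR hVr hVM, S₀.commute_z_z])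
      rw [Finset.inter_union_distrib_left, Finset.card_union_of_disjoint (hd.mono Finset.inter_subset_right
        Finset.inter_subset_right)] at h
      exact h
    have g4 : 2 ≤ (B ∩ R₄).card := (Finset.card_pair hxx).symm.le.trans (Finset.card_le_card (by
      simp [Finset.insert_subset_iff, bx, bx', hx, hx']))
    have g1 : 2 ≤ (B ∩ R₁).card := (Finset.card_pair hba.symm).symm.le.trans (Finset.card_le_card (by
      simp [Finset.insert_subset_iff, ba₁, bb, ha₁, hb]))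
    have g2 : 1 ≤ (B ∩ R₂).card := Finset.card_pos.2 ⟨a₂, Finset.mem_inter.2 ⟨ba₂, ha₂⟩⟩
    have u41 := (hunion (hmemT h₄ s₄) (hmemT h₁ s₁) n14.symm)
    have u42 := (hunion (hmemT h₄ s₄) (hmemT h₂ s₂) n24.symm)
    have hn41 : B ≠ R₄ ∪ R₁ := fun e => by
      rcases Finset.mem_union.1 (e ▸ ba₂) with h | h
      exacts [d42 h ha₂, d12 h ha₂]
    have hn42 : B ≠ R₄ ∪ R₂ := fun e => by
      rcases Finset.mem_union.1 (e ▸ ba₁) with h | h
      exacts [d41 h ha₁, d12 ha₁ h]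
    have c4 : (B ∩ R₄).card = 2 := by
      rcases u41 with h | h | h | h <;> first | omega | exact absurd h hn41
    have c1 : (B ∩ R₁).card = 2 := by
      rcases u41 with h | h | h | h <;> first | omega | exact absurd h hn41
    have c2 : (B ∩ R₂).card = 2 := by
      rcases u42 with h | h | h | h <;> first | omega | exact absurd h hn42
    have hall2 : ∀ U ∈ ({R₄, R₁, R₂} : Finset (Finset G)), (B ∩ U).card = 2 := fun U hU => by
      simp only [Finset.mem_insert, Finset.mem_singleton] at hU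
      rcases hU with rfl | rfl | rfl
      exacts [c4, c1, c2]
    set S := T \ {R₄, R₁, R₂} with hS
    have hsubT : ({R₄, R₁, R₂} : Finset (Finset G)) ⊆ T := by
      simp [Finset.insert_subset_iff, hmemT h₄ s₄, hmemT h₁ s₁, hmemT h₂ s₂]
    have h8 : ∑ U ∈ T, (B ∩ U).card = 8 := by
      rw [← Finset.card_biUnion fun U hU V hV hne => ((hrep U hU).1.disjoint_of_ne hH (hrep V hV).1 hne).mono
        Finset.inter_subset_right Finset.inter_subset_right]
      rw [← hB8]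
      congr 1
      rw [← Finset.inter_biUnion, show T.biUnion (fun U => U) = M from hcoverM,
        Finset.inter_eq_left.2 hBM]
    rw [← Finset.sum_sdiff hsubT, ← hS, Finset.sum_congr rfl hall2, Finset.sum_const,
      Finset.card_eq_three.2 ⟨R₄, R₁, R₂, n14.symm, n24.symm, n12, rfl⟩, smul_eq_mul] at h8
    have hev : ∀ V ∈ S, (B ∩ V).card = 0 ∨ (B ∩ V).card = 2 := by
      intro V hV
      obtain ⟨hVT, hV3⟩ := Finset.mem_sdiff.1 hV
      rcases hunion (hmemT h₄ s₄) hVT (fun e => hV3 (by simp [← e])) with h | h | h | h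
      · omega
      · omega
      · omega
      · exfalso
        rcases Finset.mem_union.1 (h ▸ ba₁) with h' | h'
        · exact d41 h' ha₁
        · exact hV3 (by simp [h₁.eq_of_mem hH (hrep V hVT).1 ha₁ h'])
    obtain ⟨U, hU, hU2⟩ : ∃ U ∈ S, (B ∩ U).card = 2 := by
      by_contra hno
      push Not at hno
      rw [Finset.sum_eq_zero fun V hV => (hev V hV).resolve_right (hno V hV)] at h8
      omega
    refine ⟨B, hBM, hB8, hBv, bx, bx', ba₁, bb, ba₂, hall2, U, hU, hU2, fun V hV hne => ?_⟩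
    rw [← Finset.card_eq_zero]
    have := Finset.add_le_sum (f := fun W => (B ∩ W).card) (fun W _ => Nat.zero_le _) hU hV hne.symm
    omega
  choose! B hBM hB8 hBv hBx hBx' hBa₁ hBb hBa₂ hB2 U hU hU2 hU0 using hblock
  -- the fourth tetrad determines `b`
  have hinj : ∀ b ∈ R₁.erase a₁, ∀ c ∈ R₁.erase a₁, U b = U c → b = c := by
    intro b hb c hc he
    obtain ⟨hba, hb⟩ := Finset.mem_erase.1 hb
    obtain ⟨hca, hc⟩ := Finset.mem_erase.1 hc
    by_contra hbc
    have d41 := Finset.disjoint_left.1 (h₄.disjoint_of_ne hH h₁ n14.symm)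
    have d42 := Finset.disjoint_left.1 (h₄.disjoint_of_ne hH h₂ n24.symm)
    have d12 := Finset.disjoint_left.1 (h₁.disjoint_of_ne hH h₂ n12)
    obtain ⟨hVT, hV3⟩ := Finset.mem_sdiff.1 (hU b hb hba)
    obtain ⟨hV, hVM⟩ := hrep _ hVT
    set V := U b with hVdef
    have pr : ∀ b ∈ R₁, b ≠ a₁ → B b ∩ R₁ = {a₁, b} ∧ ∃ q ∈ R₂, q ≠ a₂ ∧ B b ∩ R₂ = {a₂, q} := by
      intro b hb hba
      refine ⟨(Finset.eq_of_subset_of_card_le (by
        simp [Finset.insert_subset_iff, hBa₁ b hb hba, hBb b hb hba, ha₁, hb]) (by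
        rw [hB2 b hb hba R₁ (by simp), Finset.card_pair hba.symm])).symm, ?_⟩
      obtain ⟨q, hq⟩ := Finset.card_pos.1 (show 0 < ((B b ∩ R₂).erase a₂).card by
        rw [Finset.card_erase_of_mem (Finset.mem_inter.2 ⟨hBa₂ b hb hba, ha₂⟩), hB2 b hb hba R₂ (by simp)]
        norm_num)
      obtain ⟨hqa, hq⟩ := Finset.mem_erase.1 hq
      exact ⟨q, (Finset.mem_inter.1 hq).2, hqa, (Finset.eq_of_subset_of_card_le (by
        simp [Finset.insert_subset_iff, Finset.mem_inter.1 hq, hBa₂ b hb hba, ha₂]) (by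
        rw [hB2 b hb hba R₂ (by simp), Finset.card_pair (Ne.symm hqa)])).symm⟩
    obtain ⟨pb, q, hq, hqa, qb⟩ := pr b hb hba
    obtain ⟨pc, r, hr, hra, rc⟩ := pr c hc hca
    have hbB : b ∉ B c := fun h => by
      have := pc ▸ Finset.mem_inter.2 ⟨h, hb⟩
      simp [hba, hbc] at this
    have hcB : c ∉ B b := fun h => by
      have := pb ▸ Finset.mem_inter.2 ⟨h, hc⟩
      simp [hca, Ne.symm hbc] at this
    have hne : B b ≠ B c := fun e => hbB (e ▸ hBb b hb hba)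
    have h4 : ({x, x', a₁, a₂} : Finset G) ⊆ B b ∩ B c := by
      simp [Finset.insert_subset_iff, hBx b hb hba, hBx' b hb hba, hBa₁ b hb hba, hBa₂ b hb hba,
        hBx c hc hca, hBx' c hc hca, hBa₁ c hc hca, hBa₂ c hc hca]
    have h4c : ({x, x', a₁, a₂} : Finset G).card = 4 := Finset.card_eq_four.2
      ⟨x, x', a₁, a₂, hxx, fun e => d41 hx (e ▸ ha₁), fun e => d42 hx (e ▸ ha₂), fun e => d41 hx' (e ▸ ha₁),
        fun e => d42 hx' (e ▸ ha₂), fun e => d12 ha₁ (e ▸ ha₂), rfl⟩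
    have hi4 : (B b ∩ B c) = {x, x', a₁, a₂} := (Finset.eq_of_subset_of_card_le h4 (by
      rcases block_inter hH hM (hBM b hb hba) (hB8 b hb hba) (hBv b hb hba) (hBM c hc hca) (hB8 c hc hca)
        (hBv c hc hca) with h | h | h | h <;>
        first | omega | exact absurd h hne)).symm
    have hnot : ∀ {w : G}, w ∈ B b → w ∈ B c → w = x ∨ w = x' ∨ w = a₁ ∨ w = a₂ := fun {w} h h' => by
      have h2 := Finset.mem_inter.2 ⟨h, h'⟩
      rw [hi4] at h2
      simpa using h2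
    have hqr : q ≠ r := fun e => by
      rcases hnot (show q ∈ B b from (Finset.mem_inter.1 (qb ▸ (by simp : q ∈ ({a₂, q} : Finset G)))).1)
        (show q ∈ B c from (Finset.mem_inter.1 (rc ▸ (by simp [e] : q ∈ ({a₂, r} : Finset G)))).1) with h | h | h | h
      exacts [d42 hx (h ▸ hq), d42 hx' (h ▸ hq), d12 ha₁ (h ▸ hq), hqa h]
    have hVdisj : Disjoint (B b ∩ V) (B c ∩ V) := by
      rw [Finset.disjoint_left]
      intro w h h'
      obtain ⟨hw, hwV⟩ := Finset.mem_inter.1 h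
      rcases hnot hw (Finset.mem_inter.1 h').1 with h | h | h | h <;>
        refine hV3 ?_ <;> simp only [Finset.mem_insert, Finset.mem_singleton]
      · exact Or.inl (hV.eq_of_mem hH h₄ hwV (h ▸ hx))
      · exact Or.inl (hV.eq_of_mem hH h₄ hwV (h ▸ hx'))
      · exact Or.inr (Or.inl (hV.eq_of_mem hH h₁ hwV (h ▸ ha₁)))
      · exact Or.inr (Or.inr (hV.eq_of_mem hH h₂ hwV (h ▸ ha₂)))
    have hVfull : B b ∩ V ∪ B c ∩ V = V := Finset.eq_of_subset_of_card_le
      (Finset.union_subset Finset.inter_subset_right Finset.inter_subset_right) (by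
      rw [Finset.card_union_of_disjoint hVdisj, hU2 b hb hba, he, hU2 c hc hca, ← he, hV.card])
    have hdW : Disjoint V {b, c, q, r} := Finset.disjoint_left.2 fun w hwV hw => by
      simp only [Finset.mem_insert, Finset.mem_singleton] at hw hV3
      push Not at hV3
      rcases hw with rfl | rfl | rfl | rfl
      exacts [hV3.2.1 (hV.eq_of_mem hH h₁ hwV hb), hV3.2.1 (hV.eq_of_mem hH h₁ hwV hc),
        hV3.2.2 (hV.eq_of_mem hH h₂ hwV hq), hV3.2.2 (hV.eq_of_mem hH h₂ hwV hr)]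
    have hW4 : ({b, c, q, r} : Finset G).card = 4 := Finset.card_eq_four.2
      ⟨b, c, q, r, hbc, fun e => d12 hb (e ▸ hq), fun e => d12 hb (e ▸ hr), fun e => d12 hc (e ▸ hq),
        fun e => d12 hc (e ▸ hr), hqr, rfl⟩
    have hWsub : ({b, c, q, r} : Finset G) ⊆ M := by
      simp [Finset.insert_subset_iff, s₁ hb, s₁ hc, s₂ hq, s₂ hr]
    have hsymm : B b ∆ B c = V ∪ {b, c, q, r} := by
      refine (Finset.eq_of_subset_of_card_le (Finset.union_subset ?_ ?_) ?_).symm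
      · intro w hw
        rw [← hVfull, Finset.mem_union] at hw
        rw [Finset.mem_symmDiff]
        rcases hw with h | h
        · exact Or.inl ⟨(Finset.mem_inter.1 h).1, fun h' => Finset.disjoint_left.1 hVdisj h
            (Finset.mem_inter.2 ⟨h', (Finset.mem_inter.1 h).2⟩)⟩
        · exact Or.inr ⟨(Finset.mem_inter.1 h).1, fun h' => Finset.disjoint_left.1 hVdisj
            (Finset.mem_inter.2 ⟨h', (Finset.mem_inter.1 h).2⟩) h⟩
      · have hqB : q ∈ B b ∧ q ∉ B c := ⟨(Finset.mem_inter.1 (qb ▸ (by simp : q ∈ ({a₂, q} : Finset G)))).1,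
          fun h => by
            have := rc ▸ Finset.mem_inter.2 ⟨h, hq⟩
            simp [hqa, hqr] at this⟩
        have hrB : r ∈ B c ∧ r ∉ B b := ⟨(Finset.mem_inter.1 (rc ▸ (by simp : r ∈ ({a₂, r} : Finset G)))).1,
          fun h => by
            have := qb ▸ Finset.mem_inter.2 ⟨h, hr⟩
            simp [hra, Ne.symm hqr] at this⟩
        simp [Finset.insert_subset_iff, Finset.mem_symmDiff, hbB, hcB, hBb b hb hba, hBb c hc hca, hqB, hrB]
      · have h1 := Finset.card_sdiff_add_card_inter (B b) (B c)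
        have h2 := Finset.card_sdiff_add_card_inter (B c) (B b)
        have h3 : (B b ∆ B c).card = (B b \ B c).card + (B c \ B b).card :=
          Finset.card_union_of_disjoint disjoint_sdiff_sdiff
        rw [Finset.inter_comm (B c), hi4, h4c, hB8 c hc hca] at h2
        rw [hi4, h4c, hB8 b hb hba] at h1
        rw [Finset.card_union_of_disjoint hdW, hV.card, hW4]
        omega
    have hvW : val M {b, c, q, r} = val M R₁ := by
      have h := val_symmDiff hcm (hBM b hb hba) (hBM c hc hca)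
      rw [hsymm, hBv b hb hba, hBv c hc hca, one_mul, show V ∪ {b, c, q, r} = V ∆ {b, c, q, r} from
        hdW.symmDiff_eq_sup.symm, val_symmDiff hcm hVM hWsub, hvalR hV hVM] at h
      rw [hvalR h₁ s₁]
      exact ((eq_inv_of_mul_eq_one_right h).trans (inv_eq_of_mul_eq_one_right S₀.commute_z_z))
    have hW1 := eq_of_val hH hM hWsub s₁ hvW (by
      rw [hW4, h₁.card]
      have : 1 ≤ (({b, c, q, r} : Finset G) ∩ R₁).card :=
        Finset.card_pos.2 ⟨b, Finset.mem_inter.2 ⟨by simp, hb⟩⟩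
      omega)
    exact d12 (hW1 ▸ (by simp : q ∈ ({b, c, q, r} : Finset G))) hq
  have hR₃ : R₃ ∈ T \ {R₄, R₁, R₂} := by
    simp [hmemT h₃ s₃, n34, n13.symm, n23.symm]
  obtain ⟨b, hb, hbU⟩ := Finset.surj_on_of_inj_on_of_card_le (fun b (_ : b ∈ R₁.erase a₁) => U b)
    (fun b hb => hU b (Finset.mem_of_mem_erase hb) (Finset.ne_of_mem_erase hb))
    (fun b c hb hc he => hinj b hb c hc he) (by
      rw [Finset.card_sdiff_of_subset (by simp [Finset.insert_subset_iff, hmemT h₄ s₄, hmemT h₁ s₁, hmemT h₂ s₂]),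
        hT6, Finset.card_eq_three.2 ⟨R₄, R₁, R₂, n14.symm, n24.symm, n12, rfl⟩, Finset.card_erase_of_mem ha₁,
        h₁.card]) R₃ hR₃
  obtain ⟨hba, hb⟩ := Finset.mem_erase.1 hb
  have two : ∀ {U : Finset G}, IsRep D z U → U ⊆ M → (B b ∩ U).card = 2 →
      ∃ v w, v ∈ U ∧ w ∈ U ∧ v ≠ w ∧ B b ∩ U = {v, w} ∧ val M (B b ∩ U) = v * w ∧ v * w ∈ CC z := by
    intro U hU hUM h
    obtain ⟨v, w, hvw, he⟩ := Finset.card_eq_two.1 h
    have hv : v ∈ U := (Finset.mem_inter.1 (he ▸ (by simp : v ∈ ({v, w} : Finset G)))).2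
    have hw : w ∈ U := (Finset.mem_inter.1 (he ▸ (by simp : w ∈ ({v, w} : Finset G)))).2
    refine ⟨v, w, hv, hw, hvw, he, ?_, mul_mem (hU.mem_CC hH hv) (hU.mem_CC hH hw)⟩
    rw [he, Transpositions.CliqueAlgebra.val_insert hcm (by simp [hUM hw]) (hUM hv) (by simp [hvw]),
      val_singleton hcm (hUM hw)]
  obtain ⟨v₄, w₄, hv₄, hw₄, n₄, e₄, p₄, m₄⟩ := two h₄ s₄ (hB2 b hb hba R₄ (by simp))
  obtain ⟨v₁, w₁, hv₁, hw₁, n₁, e₁, p₁, m₁⟩ := two h₁ s₁ (hB2 b hb hba R₁ (by simp))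
  obtain ⟨v₂, w₂, hv₂, hw₂, n₂, e₂, p₂, m₂⟩ := two h₂ s₂ (hB2 b hb hba R₂ (by simp))
  obtain ⟨v₃, w₃, hv₃, hw₃, n₃, e₃, p₃, m₃⟩ := two h₃ s₃ (hbU ▸ hU2 b hb hba)
  refine ⟨_, ⟨v₁, hv₁, w₁, hw₁, n₁, rfl⟩, _, ⟨v₂, hv₂, w₂, hw₂, n₂, rfl⟩, _, ⟨v₃, hv₃, w₃, hw₃, n₃, rfl⟩, ?_⟩
  have h44 : B b ∩ R₄ = {x, x'} := (Finset.eq_of_subset_of_card_le (by
    simp [Finset.insert_subset_iff, hBx b hb hba, hBx' b hb hba, hx, hx']) (by
    rw [hB2 b hb hba R₄ (by simp), Finset.card_pair hxx])).symm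
  have hxv : cl z (x * x') = cl z (v₄ * w₄) := by
    congr 1
    rw [← p₄, h44, Transpositions.CliqueAlgebra.val_insert hcm (by simp [s₄ hx']) (s₄ hx) (by simp [hxx]),
      val_singleton hcm (s₄ hx')]
  have hBsplit : B b = (B b ∩ R₄) ∪ ((B b ∩ R₁) ∪ ((B b ∩ R₂) ∪ (B b ∩ R₃))) := by
    ext w
    simp only [Finset.mem_union, Finset.mem_inter]
    refine ⟨fun hw => ?_, fun h => by rcases h with h | h | h | h <;> exact h.1⟩
    obtain ⟨V, hV, hwV⟩ := Finset.mem_biUnion.1 (hcoverM.symm ▸ hBM b hb hba hw)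
    have hwV' : w ∈ V := hwV
    by_cases hV3 : V ∈ ({R₄, R₁, R₂} : Finset (Finset G))
    · simp only [Finset.mem_insert, Finset.mem_singleton] at hV3
      rcases hV3 with h | h | h
      exacts [Or.inl ⟨hw, h ▸ hwV'⟩, Or.inr (Or.inl ⟨hw, h ▸ hwV'⟩),
        Or.inr (Or.inr (Or.inl ⟨hw, h ▸ hwV'⟩))]
    by_cases hV' : V = R₃
    · exact Or.inr (Or.inr (Or.inr ⟨hw, hV' ▸ hwV'⟩))
    have h0 := hU0 b hb hba V (Finset.mem_sdiff.2 ⟨hV, hV3⟩) (hbU ▸ hV')
    exact absurd (h0 ▸ Finset.mem_inter.2 ⟨hw, hwV⟩) (Finset.notMem_empty w)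
  have vu : ∀ {X Y : Finset G}, X ⊆ M → Y ⊆ M → Disjoint X Y → val M (X ∪ Y) = val M X * val M Y :=
    fun {X Y} hX hY hd => by
      rw [show X ∪ Y = X ∆ Y from hd.symmDiff_eq_sup.symm, val_symmDiff hcm hX hY]
  have sub : ∀ {U : Finset G}, U ⊆ M → B b ∩ U ⊆ M := fun hU => Finset.inter_subset_right.trans hU
  have dd : ∀ {U V : Finset G}, IsRep D z U → IsRep D z V → U ≠ V → Disjoint (B b ∩ U) (B b ∩ V) :=
    fun hU hV hne => (hU.disjoint_of_ne hH hV hne).mono Finset.inter_subset_right Finset.inter_subset_right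
  have hv := hBv b hb hba
  rw [hBsplit, vu (sub s₄) (Finset.union_subset (sub s₁) (Finset.union_subset (sub s₂) (sub s₃)))
      (by simp [Finset.disjoint_union_right, dd h₄ h₁ n14.symm, dd h₄ h₂ n24.symm, dd h₄ h₃ n34.symm]),
    vu (sub s₁) (Finset.union_subset (sub s₂) (sub s₃))
      (by simp [Finset.disjoint_union_right, dd h₁ h₂ n12, dd h₁ h₃ n13]),
    vu (sub s₂) (sub s₃) (dd h₂ h₃ n23), p₄, p₁, p₂, p₃] at hv
  have hc := congrArg (cl z) hv
  rw [cl_mul m₄ (mul_mem m₁ (mul_mem m₂ m₃)), cl_mul m₁ (mul_mem m₂ m₃), cl_mul m₂ m₃, cl_one,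
    mul_eq_one_iff_eq_inv, ← mul_assoc] at hc
  rw [hxv, hc]
  exact inv_eq_of_mul_eq_one_right (S₀.abar_sq (mul_mem (mul_mem
    (S₀.pairs_mem_Abar h₁ ⟨v₁, hv₁, w₁, hw₁, n₁, rfl⟩) (S₀.pairs_mem_Abar h₂ ⟨v₂, hv₂, w₂, hw₂, n₂, rfl⟩))
    (S₀.pairs_mem_Abar h₃ ⟨v₃, hv₃, w₃, hw₃, n₃, rfl⟩)))

/-- An outside quadruple over two tetrads exists. -/
theorem Setting.exists_outside {M R U : Finset G} (hM : IsMaxClique D (M : Set G)) (hR : IsRep D z R)
    (hU : IsRep D z U) (hRM : R ⊆ M) (hUM : U ⊆ M) (hne : R ≠ U) :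
    ∃ s ∈ Mz D z, s ∉ M ∧ adj D M s = R ∪ U := by
  have hd := hR.disjoint_of_ne S₀.hyp hU hne
  have h32 := card_with_block S₀.hyp hM (Finset.union_subset hRM hUM)
    (by rw [Finset.card_union_of_disjoint hd, hR.card, hU.card])
    (by rw [show R ∪ U = R ∆ U from hd.symmDiff_eq_sup.symm, val_symmDiff (commM S₀.hyp hM) hRM hUM,
      val_self M hRM, hR.prod, val_self M hUM, hU.prod, S₀.commute_z_z])
  obtain ⟨s, hs⟩ := Finset.card_pos.1 (h32.symm ▸ (by norm_num : (0 : ℕ) < 32))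
  simp only [Finset.mem_filter, Finset.mem_sdiff, mem_commonF] at hs
  exact ⟨s, ⟨hs.1.1.1, hR.commute_z S₀.hyp fun a ha =>
    (mem_adj.1 (hs.2.symm ▸ Finset.mem_union_left U ha)).2.2.2⟩, hs.1.2, hs.2⟩

/-- Changing one of the two tetrads of an outside member, keeping commutation with it. -/
theorem Setting.exists_step {M Ri Rj Rk : Finset G} (hM : IsMaxClique D (M : Set G)) (hi : IsRep D z Ri)
    (hj : IsRep D z Rj) (hk : IsRep D z Rk) (si : Ri ⊆ M) (sj : Rj ⊆ M) (sk : Rk ⊆ M) (nij : Ri ≠ Rj)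
    (nik : Ri ≠ Rk) (njk : Rj ≠ Rk) {s : G} (hs : s ∈ Mz D z) (hsM : s ∉ M) (hadj : adj D M s = Rj ∪ Rk) :
    ∃ s' ∈ Mz D z, s' ∉ M ∧ adj D M s' = Ri ∪ Rk ∧ Commute s' s := by
  have hH := S₀.hyp
  obtain ⟨S, hS, hsS⟩ := S₀.exists_rep_mem hs
  have hsk : ∀ a ∈ Rk, Commute s a := fun a ha =>
    (mem_adj.1 (hadj.symm ▸ Finset.mem_union_right Rj ha)).2.2.2
  have hskn : s ∉ Rk := fun h => hsM (sk h)
  have hF : insert s Rk ∈ tuples D 5 := (mem_tuples hH).2 ⟨⟨fun a ha => by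
    rcases Finset.mem_insert.1 ha with rfl | ha
    exacts [hs.1, hk.mem a ha], by rw [Finset.card_insert_of_notMem hskn, hk.card]⟩, fun a ha b hb => by
    rcases Finset.mem_insert.1 ha with ea | ha <;> rcases Finset.mem_insert.1 hb with eb | hb
    exacts [ea ▸ eb ▸ Commute.refl s, ea ▸ hsk b hb, eb ▸ (hsk a ha).symm, hk.comm a ha b hb]⟩
  have hMz : ∀ {F : Finset G}, IsMaxClique D (F : Set G) → Rk ⊆ F → ∀ m ∈ F, m ∈ Mz D z :=
    fun hF' hkF m hm => ⟨hF'.sub hm, hk.commute_z hH fun a ha => hF'.comm m hm a (hkF ha)⟩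
  have hSF : ∀ {F : Finset G}, IsMaxClique D (F : Set G) → Rk ⊆ F → s ∈ F → S ⊆ F :=
    fun hF' hkF hsF a ha => hF'.max a (hS.mem a ha) fun m hm =>
      (hS.commute_all hH (hMz hF' hkF m hm) hsS (hF'.comm m hm s hsF) a ha).symm
  obtain ⟨F, hFc, hFj⟩ : ∃ F ∈ (cliques D).filter (fun F => insert s Rk ⊆ F), ¬ Rj ⊆ F := by
    by_contra hall
    push Not at hall
    obtain ⟨F, hF1, F', hF2, hne⟩ := Finset.one_lt_card.1 (show 1 <
      ((cliques D).filter fun F => insert s Rk ⊆ F).card by rw [card_cliques_five hH hF]; norm_num)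
    have j1 := hall F hF1
    have j2 := hall F' hF2
    simp only [Finset.mem_filter, mem_cliques hH, Finset.insert_subset_iff] at hF1 hF2
    obtain ⟨hF', hsF, hkF⟩ := hF1
    obtain ⟨hF'', hsF', hkF'⟩ := hF2
    refine hne (Finset.eq_of_subset_of_card_le (fun m hm => ?_) (by
      rw [(card_clique hH hF').1, (card_clique hH hF'').1]))
    by_contra hmn
    have hsub : S ∪ (Rj ∪ Rk) ⊆ adj D F' m := fun a ha => by
      have ha' : a ∈ F ∧ a ∈ F' := by
        rcases Finset.mem_union.1 ha with ha | ha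
        · exact ⟨hSF hF' hkF hsF ha, hSF hF'' hkF' hsF' ha⟩
        rcases Finset.mem_union.1 ha with ha | ha
        exacts [⟨j1 ha, j2 ha⟩, ⟨hkF ha, hkF' ha⟩]
      exact mem_adj.2 ⟨ha'.2, hF''.sub ha'.2, fun e => hmn (e ▸ ha'.2), hF'.comm m hm a ha'.1⟩
    have hSj : S ≠ Rj := fun e => hsM (sj (e ▸ hsS))
    have hSk : S ≠ Rk := fun e => hskn (e ▸ hsS)
    have h12 : (S ∪ (Rj ∪ Rk)).card = 12 := by
      rw [Finset.card_union_of_disjoint, Finset.card_union_of_disjoint (hj.disjoint_of_ne hH hk njk),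
        hS.card, hj.card, hk.card]
      exact Finset.disjoint_union_right.2 ⟨hS.disjoint_of_ne hH hj hSj, hS.disjoint_of_ne hH hk hSk⟩
    have h1 := Finset.card_le_card hsub
    have h8 := (outside_types hH hF'').1 m (hF'.sub hm) hmn
    omega
  simp only [Finset.mem_filter, mem_cliques hH, Finset.insert_subset_iff] at hFc
  obtain ⟨hF', hsF, hkF⟩ := hFc
  obtain ⟨a, ha⟩ := Finset.card_pos.1 (show 0 < Ri.card by rw [hi.card]; norm_num)
  have hisk : ¬ Commute s a := fun h => by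
    have : a ∈ adj D M s := mem_adj.2 ⟨si ha, hM.sub (si ha), fun e => hsM (e ▸ si ha), h⟩
    rw [hadj, Finset.mem_union] at this
    rcases this with h' | h'
    exacts [nij (hi.eq_of_mem hH hj ha h'), nik (hi.eq_of_mem hH hk ha h')]
  have haF : a ∉ F := fun h => hisk (hF'.comm s hsF a h)
  obtain ⟨U, V, hU, hV, hUF, hVF, hd, he⟩ := S₀.adj_eq hF' hk hkF (hi.subset_Mz hH ha) haF
  have hkad : Rk ⊆ adj D F a := fun k hk' =>
    mem_adj.2 ⟨hkF hk', hk.mem k hk', fun e => haF (e ▸ hkF hk'), hM.comm a (si ha) k (sk hk')⟩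
  obtain ⟨k, hk'⟩ := Finset.card_pos.1 (show 0 < Rk.card by rw [hk.card]; norm_num)
  obtain ⟨W, hW, hWF, hWk, hWad⟩ : ∃ W, IsRep D z W ∧ W ⊆ F ∧ W ≠ Rk ∧ W ⊆ adj D F a := by
    rcases Finset.mem_union.1 (he ▸ hkad hk') with h | h
    · exact ⟨V, hV, hVF, fun e => Finset.disjoint_left.1 hd h (e ▸ hk'), he ▸ Finset.subset_union_right⟩
    · exact ⟨U, hU, hUF, fun e => Finset.disjoint_left.1 hd (e ▸ hk') h, he ▸ Finset.subset_union_left⟩
  obtain ⟨s', hs'⟩ := Finset.card_pos.1 (show 0 < W.card by rw [hW.card]; norm_num)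
  have hs'a : Commute s' a := (mem_adj.1 (hWad hs')).2.2.2.symm
  have hs's : Commute s' s := hF'.comm s' (hWF hs') s hsF
  have hs'k : ∀ c ∈ Rk, Commute s' c := fun c hc => hF'.comm s' (hWF hs') c (hkF hc)
  have hs'M : s' ∉ M := fun h => by
    have : s' ∈ adj D M s := mem_adj.2 ⟨h, hW.mem s' hs', fun e => hsM (e ▸ h), hs's.symm⟩
    rw [hadj, Finset.mem_union] at this
    rcases this with h' | h'
    · exact hFj (hW.eq_of_mem hH hj hs' h' ▸ hWF)
    · exact hWk (hW.eq_of_mem hH hk hs' h')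
  have hs'z := hW.subset_Mz hH hs'
  refine ⟨s', hs'z, hs'M, (Finset.eq_of_subset_of_card_le (fun c hc => mem_adj.2 ?_) ?_).symm, hs's⟩
  · have hcM : c ∈ M := (Finset.mem_union.1 hc).elim (fun h => si h) (fun h => sk h)
    refine ⟨hcM, hM.sub hcM, fun e => hs'M (e ▸ hcM), ?_⟩
    rcases Finset.mem_union.1 hc with h | h
    exacts [hi.commute_all hH hs'z ha hs'a c h, hs'k c h]
  · rw [Finset.card_union_of_disjoint (hi.disjoint_of_ne hH hk nik), hi.card, hk.card]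
    have := (outside_types hH hM).1 s' hs'z.1 hs'M
    omega

end CfsgLib.FischerTypes.M24QuadCent
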