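import Cfsg.Agent.FischerTypes.M24QuadCent.Basis

/-!
# The 126 quadruples as lines of the twelve-dimensional section

Counting the quadruples singles out one Gram matrix; the section then has order `4096`, the quadruples
correspond to the 126 lines of the table and the centralizer permutes them.
-/

set_option autoImplicit false
set_option linter.unusedSectionVars false
set_option linter.unusedDecidableInType false
set_option linter.unusedFintypeInType false

namespace CfsgLib.FischerTypes.M24QuadCent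

open Cfsg CfsgLib.FischerTypes
open CfsgLib.Transpositions.TypeM24

attribute [local instance] Classical.propDecidable

variable {G : Type*} [Group G]

/-- A basis of the section with a standard Gram matrix and the eight generating lines. -/
structure Coord (D : Set G) (z : G) where
  u : Fin 4
  bas : List (Quo z)
  length : bas.length = 12
  mem : ∀ x ∈ bas, x ∈ Abar D z
  gram : bas.map (fun x => bas.map (nc x)) = Code.gram u
  gens : ∀ k, ∃ R, IsRep D z R ∧ sel bas (Code.gen k).1 ∈ pairs z R ∧ sel bas (Code.gen k).2 ∈ pairs z R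

theorem gen_bound (k : Fin 8) :
    (Code.gen k).1 < 4096 ∧ (Code.gen k).2 < 4096 ∧ (Code.gen k).1 ≠ (Code.gen k).2 := by
  fin_cases k <;> decide

variable [Finite G] {D : Set G} {z : G}

/-- The quadruple moved by an element of the centralizer. -/
noncomputable def conjRep (g : G) (R : Finset G) : Finset G := R.image fun x => g * x * g⁻¹

theorem IsRep.conj (H : M24.Hyp G D) {R : Finset G} (hR : IsRep D z R) {g : G} (hg : g ∈ CC z) :
    IsRep D z (conjRep g R) := by
  set φ : G →* G := (MulAut.conj g).toMonoidHom with hφ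
  have hinj : Function.Injective φ := (MulAut.conj g).injective
  have himg : conjRep g R = R.image φ := rfl
  rw [himg]
  refine ⟨by rw [Finset.card_image_of_injective _ hinj, hR.card], fun a ha => ?_, fun a ha b hb => ?_, ?_⟩
  · obtain ⟨x, hx, rfl⟩ := Finset.mem_image.1 ha
    exact H.group.2.1 g x (hR.mem x hx)
  · obtain ⟨x, hx, rfl⟩ := Finset.mem_image.1 ha
    obtain ⟨y, hy, rfl⟩ := Finset.mem_image.1 hb
    exact (hR.comm x hx y hy).map φ
  · rw [Transpositions.CliqueAlgebra.val_eq_prod (l := R.toList.map φ) ⟨fun a ha => ?_, fun a ha b hb => ?_⟩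
      (Finset.Subset.refl _) (R.nodup_toList.map hinj) (fun x => by simp [Finset.mem_image]),
      ← map_list_prod, hR.prod_eq H R.nodup_toList fun x => Finset.mem_toList]
    · exact mul_inv_eq_iff_eq_mul.2 (M24QuadCent.mem_CC.1 hg).eq
    · obtain ⟨x, hx, rfl⟩ := Finset.mem_image.1 ha
      rw [← map_mul, mul_self H.group.1 (hR.mem x hx), map_one]
    · obtain ⟨x, hx, rfl⟩ := Finset.mem_image.1 ha
      obtain ⟨y, hy, rfl⟩ := Finset.mem_image.1 hb
      exact (hR.comm x hx y hy).map φ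

theorem conjRep_pairs (H : M24.Hyp G D) {R : Finset G} (hR : IsRep D z R) {g : G} (hg : g ∈ CC z)
    {p : Quo z} (hp : p ∈ pairs z R) : cl z g * p * (cl z g)⁻¹ ∈ pairs z (conjRep g R) := by
  obtain ⟨a, ha, b, hb, hab, rfl⟩ := hp
  refine ⟨_, Finset.mem_image_of_mem _ ha, _, Finset.mem_image_of_mem _ hb,
    fun h => hab (mul_left_cancel (mul_right_cancel h)), ?_⟩
  have hC := mul_mem (hR.mem_CC H ha) (hR.mem_CC H hb)
  rw [← cl_inv hg, ← cl_mul hg hC, ← cl_mul (mul_mem hg hC) (inv_mem hg)]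
  congr 1
  group

theorem conj_mem_Abar (H : M24.Hyp G D) {g : G} (hg : g ∈ CC z) {p : Quo z} (hp : p ∈ Abar D z) :
    cl z g * p * (cl z g)⁻¹ ∈ Abar D z := by
  induction hp using Subgroup.closure_induction with
  | mem x hx =>
    obtain ⟨R, hR, hx⟩ := hx
    exact Subgroup.subset_closure ⟨_, hR.conj H hg, conjRep_pairs H hR hg hx⟩
  | one => simp
  | mul x y _ _ h1 h2 =>
    have := mul_mem h1 h2
    rwa [show cl z g * x * (cl z g)⁻¹ * (cl z g * y * (cl z g)⁻¹) = cl z g * (x * y) * (cl z g)⁻¹ by group]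
      at this
  | inv x _ h1 =>
    have := inv_mem h1
    rwa [show (cl z g * x * (cl z g)⁻¹)⁻¹ = cl z g * x⁻¹ * (cl z g)⁻¹ by group] at this

variable (S₀ : Setting G D z)

/-- All quadruples. -/
noncomputable def repsF (D : Set G) (z : G) : Finset (Finset G) :=
  ((Set.toFinite D).toFinset.powerset).filter fun R => IsRep D z R

theorem mem_repsF {R : Finset G} : R ∈ repsF D z ↔ IsRep D z R := by
  simp only [repsF, Finset.mem_filter, Finset.mem_powerset, and_iff_right_iff_imp]
  exact fun h a ha => (Set.Finite.mem_toFinset _).2 (h.mem a ha)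

include S₀

theorem Setting.ncard_Mz : (Mz D z).ncard = 504 := by
  obtain ⟨l, hl, h4, hp⟩ := S₀.exists_list
  have := ncard_fixed_quad S₀.hyp hl.nodup h4 hl.mem hl.comm
  rw [hp] at this
  exact this

theorem Setting.card_repsF : (repsF D z).card = 126 := by
  have h : (Mz D z) = (((repsF D z).biUnion id : Finset G) : Set G) := by
    ext w
    simp only [Finset.coe_biUnion, Set.mem_iUnion, Finset.mem_coe, mem_repsF, id, exists_prop]
    exact ⟨fun hw => S₀.exists_rep_mem hw, fun ⟨R, hR, hwR⟩ => hR.subset_Mz S₀.hyp hwR⟩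
  have h504 := S₀.ncard_Mz
  rw [h, Set.ncard_coe_finset, Finset.card_biUnion (t := id) (fun R hR U hU hne =>
    (mem_repsF.1 hR).disjoint_of_ne S₀.hyp (mem_repsF.1 hU) hne),
    Finset.sum_congr rfl (g := fun _ => 4) (fun R hR => show (id R).card = 4 from (mem_repsF.1 hR).card),
    Finset.sum_const, smul_eq_mul] at h504
  omega

variable (C : Coord D z)

/-- The element with a code. -/
noncomputable abbrev Coord.P (n : ℕ) : Quo z := sel C.bas n

theorem Coord.P_mem (n : ℕ) : C.P n ∈ Abar D z :=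
  (sel_mem (S := (Abar D z).toSubmonoid) C.mem n : _)

theorem Coord.P_xor (n m : ℕ) : C.P (n ^^^ m) = C.P n * C.P m :=
  sel_xor (S := (Abar D z).toSubmonoid) (fun _ hx _ hy => S₀.abar_comm hx hy) (fun _ hx => S₀.abar_sq hx)
    C.mem n m

theorem Coord.nc_P (n m : ℕ) : nc (C.P n) (C.P m) = Code.beta C.u n m := by
  have h1 : ∀ x ∈ C.bas, nc x (C.P m) = Code.selB (C.bas.map (nc x)) m := fun x hx =>
    apply_sel (S := (Abar D z).toSubmonoid) (fun y => nc x y)
      (by rw [S₀.nc_comm]; exact S₀.nc_one x)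
      (fun y hy w hw => S₀.nc_mul_right hy hw (C.mem x hx)) C.mem m
  rw [Coord.P, apply_sel (S := (Abar D z).toSubmonoid) (fun y => nc y (C.P m)) (S₀.nc_one _)
    (fun y hy w hw => S₀.nc_mul hy hw (C.P_mem S₀ m)) C.mem n, Code.beta, ← C.gram, List.map_map]
  congr 1
  exact List.map_congr_left h1

theorem Coord.eq_zero_of_P {n : ℕ} (hn : n < 4096) (h : C.P n = 1) : n = 0 := by
  refine Nat.eq_of_testBit_eq fun j => ?_
  rw [Nat.zero_testBit]
  by_cases hj : j < 12
  · have h1 := C.nc_P S₀ n ((Code.dual C.u).getD j 0)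
    rw [h, S₀.nc_one, Code.beta, Code.dual_spec C.u ⟨j, hj⟩, selB_single] at h1
    simpa [hj] using h1.symm
  · exact Nat.testBit_lt_two_pow (hn.trans_le (le_trans (by norm_num) (Nat.pow_le_pow_right two_pos (not_lt.1 hj))))

theorem Coord.P_inj {n m : ℕ} (hn : n < 4096) (hm : m < 4096) (h : C.P n = C.P m) : n = m := by
  refine Nat.xor_eq_zero_iff.1 (C.eq_zero_of_P S₀ (Nat.xor_lt_two_pow (n := 12) hn hm) ?_)
  rw [C.P_xor S₀, h]
  exact S₀.abar_sq (C.P_mem S₀ m)

/-- A line of a quadruple gives the action of its members. -/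
theorem Coord.conj_P {R : Finset G} (hR : IsRep D z R) {w : G} (hw : w ∈ R) {l : ℕ × ℕ} (h1 : l.1 < 4096)
    (h2 : l.2 < 4096) (hne : l.1 ≠ l.2) (m1 : C.P l.1 ∈ pairs z R) (m2 : C.P l.2 ∈ pairs z R) (x : ℕ) :
    cl z w * C.P x * (cl z w)⁻¹ = C.P (Code.transv C.u l x) := by
  rw [S₀.conj_eq hR hw m1 m2 (fun h => hne (C.P_inj S₀ h1 h2 h)) (C.P_mem S₀ x), C.nc_P S₀, C.nc_P S₀,
    Code.transv, C.P_xor S₀, C.P_xor S₀]
  have h0 : C.P 0 = 1 := sel_zero _
  cases Code.beta C.u x l.2 <;> cases Code.beta C.u x l.1 <;> simp [h0]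

/-- The codes of a line are distinct, nonzero and small. -/
theorem Coord.line_bound {i : ℕ} (hi : i < (Code.table C.u).length) :
    (Code.line C.u i).1 < 4096 ∧ (Code.line C.u i).2 < 4096 ∧ (Code.line C.u i).1 ≠ (Code.line C.u i).2 := by
  have hm : (Code.table C.u).getD i ((0, 0), 0, 0) ∈ Code.table C.u := by
    rw [← List.getElem_eq_getD (h := hi)]
    exact List.getElem_mem hi
  obtain ⟨a, b, -, -, e⟩ := Code.table_bound C.u _ hm
  exact ⟨a, b, e⟩

theorem Coord.exists_rep_line : ∀ i < (Code.table C.u).length,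
    ∃ R, IsRep D z R ∧ C.P (Code.line C.u i).1 ∈ pairs z R ∧ C.P (Code.line C.u i).2 ∈ pairs z R := by
  intro i
  induction i using Nat.strong_induction_on with
  | _ i ih =>
    intro hi
    by_cases h0 : i = 0
    · subst h0
      rw [Code.table_zero]
      exact C.gens 0
    obtain ⟨hp, he⟩ := Code.table_step C.u ⟨i, hi⟩ h0
    simp only at hp he
    set p := ((Code.table C.u).getD i ((0, 0), 0, 0)).2.1
    set k := ((Code.table C.u).getD i ((0, 0), 0, 0)).2.2
    obtain ⟨R, hR, m1, m2⟩ := ih p hp (hp.trans hi)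
    obtain ⟨K, hK, k1, k2⟩ := C.gens k
    obtain ⟨w, hw⟩ := Finset.card_pos.1 (show 0 < K.card by rw [hK.card]; norm_num)
    obtain ⟨g1, g2, g3⟩ := gen_bound k
    have hwC := hK.mem_CC S₀.hyp hw
    refine ⟨_, hR.conj S₀.hyp hwC, ?_, ?_⟩ <;> rw [he] <;>
      rw [← C.conj_P S₀ hK hw g1 g2 g3 k1 k2]
    exacts [conjRep_pairs S₀.hyp hR hwC m1, conjRep_pairs S₀.hyp hR hwC m2]

/-- The quadruple with a given line. -/
noncomputable def Coord.repAt (i : ℕ) (hi : i < (Code.table C.u).length) : Finset G :=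
  (C.exists_rep_line S₀ i hi).choose

theorem Coord.repAt_spec {i : ℕ} (hi : i < (Code.table C.u).length) :
    IsRep D z (C.repAt S₀ i hi) ∧ C.P (Code.line C.u i).1 ∈ pairs z (C.repAt S₀ i hi) ∧
      C.P (Code.line C.u i).2 ∈ pairs z (C.repAt S₀ i hi) :=
  (C.exists_rep_line S₀ i hi).choose_spec

/-- A code of a pair of a quadruple lies in the triple of its line. -/
theorem Coord.mem_triple {i n : ℕ} (hi : i < (Code.table C.u).length) (hn : n < 4096)
    (h : C.P n ∈ pairs z (C.repAt S₀ i hi)) : n ∈ Code.triple (Code.line C.u i) := by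
  obtain ⟨hR, m1, m2⟩ := C.repAt_spec S₀ hi
  obtain ⟨h1, h2, h3⟩ := C.line_bound S₀ hi
  simp only [Code.triple, List.mem_cons, List.not_mem_nil, or_false]
  rcases (S₀.pairs_three hR m1 m2 fun e => h3 (C.P_inj S₀ h1 h2 e)).2 _ h with e | e | e
  · exact Or.inl (C.P_inj S₀ hn h1 e)
  · exact Or.inr (Or.inl (C.P_inj S₀ hn h2 e))
  · rw [← C.P_xor S₀] at e
    exact Or.inr (Or.inr (C.P_inj S₀ hn (Nat.xor_lt_two_pow (n := 12) h1 h2) e))

theorem Coord.repAt_inj {i j : ℕ} (hi : i < (Code.table C.u).length) (hj : j < (Code.table C.u).length)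
    (he : C.repAt S₀ i hi = C.repAt S₀ j hj) : i = j := by
  by_contra hne
  wlog hlt : i < j generalizing i j with key
  · exact key hj hi he.symm (Ne.symm hne) (by omega)
  have h := List.pairwise_iff_getElem.1 (Code.table_distinct C.u) i j hi hj hlt
  have e : ∀ {m : ℕ} (hm : m < (Code.table C.u).length), ((Code.table C.u)[m]).1 = Code.line C.u m :=
    fun hm => by rw [Code.line, ← List.getElem_eq_getD (h := hm)]
  rw [e hi, e hj] at h
  exact h (C.mem_triple S₀ hj (C.line_bound S₀ hi).1 (he ▸ (C.repAt_spec S₀ hi).2.1))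

/-- The only possible form. -/
theorem Coord.u_eq : C.u = 0 := by
  by_contra hu
  have h127 := Code.table_length.2 C.u hu
  have h := Finset.card_le_card_of_injOn (s := Finset.univ) (t := repsF D z)
    (fun i : Fin (Code.table C.u).length => C.repAt S₀ i.1 i.2)
    (fun i _ => mem_repsF.2 (C.repAt_spec S₀ i.2).1)
    (fun i _ j _ he => Fin.ext (C.repAt_inj S₀ i.2 j.2 he))
  rw [Finset.card_univ, Fintype.card_fin, S₀.card_repsF] at h
  omega

theorem Coord.length_table : (Code.table C.u).length = 126 := by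
  rw [C.u_eq S₀]; exact Code.table_length.1

/-- The quadruples, indexed by the table. -/
noncomputable def Coord.equiv : Fin 126 ≃ {R : Finset G // IsRep D z R} :=
  Equiv.ofBijective (fun i => ⟨C.repAt S₀ i.1 (i.2.trans_eq (C.length_table S₀).symm),
      (C.repAt_spec S₀ _).1⟩) (by
    have hinj : Function.Injective (fun i : Fin 126 => (⟨C.repAt S₀ i.1 (i.2.trans_eq (C.length_table S₀).symm),
        (C.repAt_spec S₀ _).1⟩ : {R : Finset G // IsRep D z R})) := fun i j he =>
      Fin.ext (C.repAt_inj S₀ (i.2.trans_eq (C.length_table S₀).symm) (j.2.trans_eq (C.length_table S₀).symm)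
        (congrArg Subtype.val he))
    refine hinj.bijective_of_nat_card_le ?_
    rw [Nat.card_eq_fintype_card (α := Fin 126), Fintype.card_fin, ← S₀.card_repsF, ← Nat.card_eq_finsetCard]
    exact le_of_eq (Nat.card_congr (Equiv.subtypeEquivRight fun R => mem_repsF.symm)))

theorem Coord.equiv_spec (i : Fin 126) :
    C.P (Code.line 0 i).1 ∈ pairs z (C.equiv S₀ i).1 ∧ C.P (Code.line 0 i).2 ∈ pairs z (C.equiv S₀ i).1 := by
  have := (C.repAt_spec S₀ (i.2.trans_eq (C.length_table S₀).symm)).2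
  rw [← C.u_eq S₀]
  exact this

theorem Coord.equiv_mem_triple {i : Fin 126} {n : ℕ} (hn : n < 4096)
    (h : C.P n ∈ pairs z (C.equiv S₀ i).1) : n ∈ Code.triple (Code.line 0 i) := by
  have := C.mem_triple S₀ (i.2.trans_eq (C.length_table S₀).symm) hn h
  rwa [C.u_eq S₀] at this

theorem Coord.eq_equiv {R : Finset G} (hR : IsRep D z R) {i : Fin 126} {n : ℕ}
    (hn : n ∈ Code.triple (Code.line 0 i)) (h : C.P n ∈ pairs z R) : R = (C.equiv S₀ i).1 := by
  refine S₀.eq_of_pairs hR (C.equiv S₀ i).2 h ?_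
  obtain ⟨m1, m2⟩ := C.equiv_spec S₀ i
  simp only [Code.triple, List.mem_cons, List.not_mem_nil, or_false] at hn
  obtain ⟨b1, b2, b3⟩ := C.line_bound S₀ (i.2.trans_eq (C.length_table S₀).symm)
  rw [C.u_eq S₀] at b1 b2 b3
  rcases hn with rfl | rfl | rfl
  · exact m1
  · exact m2
  · rw [C.P_xor S₀]
    exact (S₀.pairs_three (C.equiv S₀ i).2 m1 m2 fun e => b3 (C.P_inj S₀ b1 b2 e)).1

/-- Every element of the section has a code. -/
theorem Coord.exists_code {p : Quo z} (hp : p ∈ Abar D z) : ∃ n, n < 4096 ∧ C.P n = p := by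
  induction hp using Subgroup.closure_induction with
  | one => exact ⟨0, by norm_num, sel_zero _⟩
  | inv x hx ih =>
    obtain ⟨n, hn, rfl⟩ := ih
    exact ⟨n, hn, (inv_eq_of_mul_eq_one_right (S₀.abar_sq hx)).symm⟩
  | mul x y _ _ ihx ihy =>
    obtain ⟨n, hn, rfl⟩ := ihx
    obtain ⟨m, hm, rfl⟩ := ihy
    exact ⟨n ^^^ m, Nat.xor_lt_two_pow (n := 12) hn hm, C.P_xor S₀ n m⟩
  | mem p hp =>
    obtain ⟨R, hR, hp⟩ := hp
    obtain ⟨i, hi⟩ := (C.equiv S₀).surjective ⟨R, hR⟩
    have hRe : (C.equiv S₀ i).1 = R := congrArg Subtype.val hi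
    obtain ⟨m1, m2⟩ := C.equiv_spec S₀ i
    obtain ⟨b1, b2, b3⟩ := C.line_bound S₀ (i.2.trans_eq (C.length_table S₀).symm)
    rw [C.u_eq S₀] at b1 b2 b3
    rw [hRe] at m1 m2
    rcases (S₀.pairs_three hR m1 m2 fun e => b3 (C.P_inj S₀ b1 b2 e)).2 p hp with rfl | rfl | rfl
    exacts [⟨_, b1, rfl⟩, ⟨_, b2, rfl⟩, ⟨_, Nat.xor_lt_two_pow (n := 12) b1 b2, C.P_xor S₀ _ _⟩]

include C in
theorem Coord.card_Abar : Nat.card (Abar D z) = 4096 := by
  rw [← Nat.card_fin 4096]
  refine (Nat.card_congr (Equiv.ofBijective (fun n : Fin 4096 => (⟨C.P n, C.P_mem S₀ n⟩ : Abar D z))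
    ⟨fun n m h => Fin.ext (C.P_inj S₀ n.2 m.2 (congrArg Subtype.val h)), fun p => ?_⟩)).symm
  obtain ⟨n, hn, he⟩ := C.exists_code S₀ p.2
  exact ⟨⟨n, hn⟩, Subtype.ext he⟩

omit C in
theorem Setting.exists_coord : Nonempty (Coord D z) := by
  obtain ⟨u, bas, h1, h2, h3, h4⟩ := S₀.exists_basis
  exact ⟨⟨u, bas, h1, h2, h3, h4⟩⟩

end CfsgLib.FischerTypes.M24QuadCent
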