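import Cfsg.Agent.FischerTypes.InvolutionClasses
import Cfsg.Agent.FischerTypes.M24Triple
import Cfsg.Agent.FischerTypes.M24Quad

/-!
# The members fixing a product of four commuting members in type M(24)

They fall into the quadruples with that product; two quadruples commute member by member or not at all,
and a pair of one conjugates a member of a non-commuting quadruple to another member of that quadruple.
-/

set_option autoImplicit false
set_option linter.unusedSectionVars false
set_option linter.unusedDecidableInType false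
set_option linter.unusedFintypeInType false

namespace CfsgLib.FischerTypes.M24QuadCent

open Cfsg CfsgLib.FischerTypes
open CfsgLib.Transpositions.TypeM24
open CfsgLib.Transpositions.CliqueAlgebra (val)

attribute [local instance] Classical.propDecidable

variable {G : Type*} [Group G]

/-- The members commuting with `z`. -/
def Mz (D : Set G) (z : G) : Set G := {w | w ∈ D ∧ Commute w z}

/-- A set of four pairwise commuting members with product `z`. -/
structure IsRep (D : Set G) (z : G) (R : Finset G) : Prop where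
  card : R.card = 4
  mem : ∀ a ∈ R, a ∈ D
  comm : ∀ a ∈ R, ∀ b ∈ R, Commute a b
  prod : val R R = z

/-- The standing hypotheses. -/
structure Setting (G : Type*) [Group G] (D : Set G) (z : G) : Prop where
  hyp : M24.Hyp G D
  exists_rep : ∃ R, IsRep D z R

theorem val_self (M : Finset G) {U : Finset G} (h : U ⊆ M) : val M U = val U U := by
  simp only [val, Finset.inter_eq_left.2 h, Finset.inter_self]

variable [Finite G] {D : Set G} {z : G}

theorem IsRep.commAlg (H : M24.Hyp G D) {R : Finset G} (hR : IsRep D z R) :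
    Transpositions.CliqueAlgebra.Comm R :=
  ⟨fun a ha => mul_self H.group.1 (hR.mem a ha), hR.comm⟩

theorem IsRep.prod_eq (H : M24.Hyp G D) {R : Finset G} (hR : IsRep D z R) {l : List G} (hl : l.Nodup)
    (hmem : ∀ x, x ∈ l ↔ x ∈ R) : l.prod = z := by
  rw [← Transpositions.CliqueAlgebra.val_eq_prod (hR.commAlg H) (Finset.Subset.refl R) hl hmem]
  exact hR.prod

theorem isRep_of_clist (H : M24.Hyp G D) {l : List G} (hl : IsCList D l) (h4 : l.length = 4)
    (hp : l.prod = z) : IsRep D z l.toFinset := by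
  refine ⟨by rw [List.toFinset_card_of_nodup hl.nodup, h4], fun a ha => hl.mem a (List.mem_toFinset.1 ha),
    fun a ha b hb => hl.comm a (List.mem_toFinset.1 ha) b (List.mem_toFinset.1 hb), ?_⟩
  rw [Transpositions.CliqueAlgebra.val_eq_prod
    ⟨fun a ha => mul_self H.group.1 (hl.mem a (List.mem_toFinset.1 ha)),
      fun a ha b hb => hl.comm a (List.mem_toFinset.1 ha) b (List.mem_toFinset.1 hb)⟩
    (Finset.Subset.refl _) hl.nodup fun x => List.mem_toFinset.symm]
  exact hp

theorem IsRep.commute_z (H : M24.Hyp G D) {R : Finset G} (hR : IsRep D z R) {x : G}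
    (hx : ∀ a ∈ R, Commute x a) : Commute x z :=
  hR.prod ▸ Transpositions.CliqueAlgebra.commute_val (hR.commAlg H) (Finset.Subset.refl R) hx

theorem IsRep.subset_Mz (H : M24.Hyp G D) {R : Finset G} (hR : IsRep D z R) {a : G} (ha : a ∈ R) :
    a ∈ Mz D z := ⟨hR.mem a ha, hR.commute_z H fun b hb => hR.comm a ha b hb⟩

/-- A member fixing `z` and one member of a quadruple commutes with all four. -/
theorem IsRep.commute_all (H : M24.Hyp G D) {R : Finset G} (hR : IsRep D z R) {x a : G}
    (hx : x ∈ Mz D z) (ha : a ∈ R) (hxa : Commute x a) : ∀ b ∈ R, Commute x b := by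
  have hsub : R.erase a ⊆ R := Finset.erase_subset a R
  have hl : IsCList D (R.erase a).toList := ⟨Finset.nodup_toList _,
    fun b hb => hR.mem b (hsub (Finset.mem_toList.1 hb)),
    fun b hb c hc => hR.comm b (hsub (Finset.mem_toList.1 hb)) c (hsub (Finset.mem_toList.1 hc))⟩
  have hz : a * (R.erase a).toList.prod = z := by
    rw [← List.prod_cons]
    refine hR.prod_eq H (List.nodup_cons.2 ⟨by simp, Finset.nodup_toList _⟩) fun y => ?_
    simp only [List.mem_cons, Finset.mem_toList, Finset.mem_erase]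
    exact ⟨fun h => h.elim (fun h => h ▸ ha) And.right, fun h => (em (y = a)).imp id fun hn => ⟨hn, h⟩⟩
  have hc : Commute x (R.erase a).toList.prod := by
    have := hxa.mul_right (hz ▸ hx.2)
    rwa [mul_self_cancel H.group.1 (hR.mem a ha)] at this
  intro b hb
  by_cases hba : b = a
  · rwa [hba]
  exact hl.commute_each H.group.1 (by rw [Finset.length_toList, Finset.card_erase_of_mem ha, hR.card]) hx.1
    hc b (Finset.mem_toList.2 (Finset.mem_erase.2 ⟨hba, hb⟩))

/-- In a maximal commuting set containing a quadruple, the quadruples are the tetrads. -/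
theorem IsRep.mem_tetrads {M T U : Finset G} (hT : IsRep D z T) (hTM : T ⊆ M) (hU : IsRep D z U)
    (hUM : U ⊆ M) : U ∈ tetrads M T :=
  Transpositions.TypeM24.mem_tetrads.2 ⟨hUM, hU.card, by rw [val_self M hUM, val_self M hTM, hU.prod, hT.prod]⟩

theorem IsRep.of_mem_tetrads (H : M24.Hyp G D) {M T U : Finset G} (hM : IsMaxClique D (M : Set G))
    (hT : IsRep D z T) (hTM : T ⊆ M) (hU : U ∈ tetrads M T) : IsRep D z U := by
  obtain ⟨hUM, hU4, hUv⟩ := Transpositions.TypeM24.mem_tetrads.1 hU
  exact ⟨hU4, fun a ha => hM.sub (hUM ha), fun a ha b hb => hM.comm a (hUM ha) b (hUM hb),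
    by rw [← val_self M hUM, hUv, val_self M hTM, hT.prod]⟩

theorem exists_clique_union (H : M24.Hyp G D) {R S : Finset G} (hR : IsRep D z R) (hS : IsRep D z S)
    (hc : ∀ a ∈ R, ∀ b ∈ S, Commute a b) : ∃ M : Finset G, IsMaxClique D (M : Set G) ∧ R ⊆ M ∧ S ⊆ M := by
  obtain ⟨M, hM, hsub⟩ := exists_clique H (E := R ∪ S)
    (fun a ha => (Finset.mem_union.1 ha).elim (hR.mem a) (hS.mem a))
    (fun a ha b hb => by
      rcases Finset.mem_union.1 ha with ha | ha <;> rcases Finset.mem_union.1 hb with hb | hb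
      exacts [hR.comm a ha b hb, hc a ha b hb, (hc b hb a ha).symm, hS.comm a ha b hb])
  exact ⟨M, (mem_cliques H).1 hM, Finset.union_subset_left hsub, Finset.union_subset_right hsub⟩

/-- Two quadruples with a common member are equal. -/
theorem IsRep.eq_of_mem (H : M24.Hyp G D) {R S : Finset G} (hR : IsRep D z R) (hS : IsRep D z S) {a : G}
    (haR : a ∈ R) (haS : a ∈ S) : R = S := by
  obtain ⟨M, hM, hRM, hSM⟩ := exists_clique_union H hR hS fun x hx =>
    hS.commute_all H (hR.subset_Mz H hx) haS (hR.comm x hx a haR)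
  by_contra hne
  exact Finset.disjoint_left.1
    (tetrads_disjoint H hM hSM hS.card (hS.mem_tetrads hSM hR hRM) (hS.mem_tetrads hSM hS hSM) hne) haR haS

variable (S₀ : Setting G D z)

include S₀

theorem Setting.commute_z_z : z * z = 1 := by
  obtain ⟨R, hR⟩ := S₀.exists_rep
  rw [← hR.prod]
  exact Transpositions.CliqueAlgebra.val_mul_self (hR.commAlg S₀.hyp) (Finset.Subset.refl R)

theorem Setting.exists_list : ∃ l : List G, IsCList D l ∧ l.length = 4 ∧ l.prod = z := by
  obtain ⟨R, hR⟩ := S₀.exists_rep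
  exact ⟨R.toList, ⟨R.nodup_toList, fun a ha => hR.mem a (Finset.mem_toList.1 ha),
    fun a ha b hb => hR.comm a (Finset.mem_toList.1 ha) b (Finset.mem_toList.1 hb)⟩,
    by rw [Finset.length_toList, hR.card], hR.prod_eq S₀.hyp R.nodup_toList fun x => Finset.mem_toList⟩

theorem Setting.z_ne_one : z ≠ 1 := by
  obtain ⟨l, hl, h4, hp⟩ := S₀.exists_list
  exact hp ▸ noRel_le S₀.hyp (by norm_num) (by norm_num) l hl.nodup h4 hl.mem hl.comm

theorem Setting.not_short {l : List G} (hl : IsCList D l) (h3 : l.length ≤ 3) : l.prod ≠ z := by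
  intro hp
  by_cases h0 : l.length = 0
  · exact S₀.z_ne_one (by rw [← hp, List.length_eq_zero_iff.1 h0, List.prod_nil])
  obtain ⟨q, hq, h4, hqp⟩ := S₀.exists_list
  have := (involution_classes24 S₀.hyp).2.2 4 l.length z (by norm_num) le_rfl (by omega) (by omega)
    ⟨q, hq.nodup, h4, hq.mem, hq.comm, hqp⟩ ⟨l, hl.nodup, rfl, hl.mem, hl.comm, hp⟩
  omega

/-- Every member fixing `z` lies in a quadruple. -/
theorem Setting.exists_rep_mem {w : G} (hw : w ∈ Mz D z) : ∃ R, IsRep D z R ∧ w ∈ R := by
  obtain ⟨χ, -, hχ⟩ := M24.exists_sign_commutator S₀.hyp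
  have h := S₀.hyp.group
  have hzl : ∀ {l : List G}, (∀ a ∈ l, a ∈ D) → χ l.prod = (-1) ^ l.length := by
    intro l hl
    induction l with
    | nil => simp
    | cons a t ih =>
      rw [List.prod_cons, map_mul, hχ a (hl a List.mem_cons_self),
        ih fun x hx => hl x (List.mem_cons_of_mem _ hx), List.length_cons, pow_succ']
  obtain ⟨q, hq, hq4, hqp⟩ := S₀.exists_list
  have hχz : χ z = 1 := by rw [← hqp, hzl hq.mem, hq4]; decide
  have hx2 : w * z * (w * z) = 1 := by
    rw [mul_assoc, ← mul_assoc z, ← hw.2.eq, mul_assoc, S₀.commute_z_z, mul_one, mul_self h.1 hw.1]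
  have hx1 : w * z ≠ 1 := fun he => by
    have := congrArg χ he
    rw [map_mul, hχ w hw.1, hχz, map_one, mul_one] at this
    exact absurd this (by decide)
  obtain ⟨m, m1, m4, l, hnd, hlen, hD, hc, hp⟩ :=
    (involution_classes24 S₀.hyp).1 (w * z) (orderOf_eq_prime (by rw [pow_two]; exact hx2) hx1)
  have hodd : (-1 : ℤˣ) ^ m = -1 := by rw [← hlen, ← hzl hD, hp, map_mul, hχ w hw.1, hχz, mul_one]
  have hl : IsCList D l := ⟨hnd, hD, hc⟩
  have hcw : Commute w l.prod := hp ▸ (Commute.refl w).mul_right hw.2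
  have hzp : z = w * l.prod := by rw [hp, mul_self_cancel h.1 hw.1]
  have hm : m = 1 ∨ m = 3 := by
    interval_cases m
    exacts [Or.inl rfl, absurd hodd (by decide), Or.inr rfl, absurd hodd (by decide)]
  have h3 : l.length ≤ 3 := by omega
  have heach := hl.commute_each h.1 h3 hw.1 hcw
  by_cases hwl : w ∈ l
  · obtain ⟨e1, e2, e3⟩ := hl.prod_erase hwl
    refine absurd ?_ (S₀.not_short e3 (by omega))
    rw [hzp, e1, mul_self_cancel h.1 hw.1]
  have hcl : IsCList D (w :: l) := ⟨List.nodup_cons.2 ⟨hwl, hnd⟩,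
    fun a ha => (List.mem_cons.1 ha).elim (fun e => e ▸ hw.1) (hD a),
    fun a ha b hb => by
      rcases List.mem_cons.1 ha with ea | ha <;> rcases List.mem_cons.1 hb with eb | hb
      exacts [ea ▸ eb ▸ Commute.refl w, ea ▸ heach b hb, eb ▸ (heach a ha).symm, hc a ha b hb]⟩
  rcases hm with h1 | h1
  · exact absurd (by rw [List.prod_cons, hzp]) (S₀.not_short hcl (by rw [List.length_cons]; omega))
  · exact ⟨_, isRep_of_clist S₀.hyp hcl (by rw [List.length_cons]; omega) (by rw [List.prod_cons, hzp]),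
      List.mem_toFinset.2 List.mem_cons_self⟩

/-- A member fixing `z` outside a maximal commuting set containing a quadruple commutes with the members
of exactly two quadruples inside. -/
theorem Setting.adj_eq {M T : Finset G} (hM : IsMaxClique D (M : Set G)) (hT : IsRep D z T) (hTM : T ⊆ M)
    {x : G} (hx : x ∈ Mz D z) (hxM : x ∉ M) :
    ∃ U V, IsRep D z U ∧ IsRep D z V ∧ U ⊆ M ∧ V ⊆ M ∧ Disjoint U V ∧ adj D M x = U ∪ V := by
  have hv : Commute x (val M T) := by rw [val_self M hTM, hT.prod]; exact hx.2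
  obtain ⟨p, hp, he⟩ := (outside_fixed S₀.hyp hM hTM hT.card hx.1 hxM).1 hv
  obtain ⟨hps, hp2⟩ := Finset.mem_powersetCard.1 hp
  obtain ⟨U, V, hne, rfl⟩ := Finset.card_eq_two.1 hp2
  have hU : U ∈ tetrads M T := hps (by simp)
  have hV : V ∈ tetrads M T := hps (by simp)
  refine ⟨U, V, hT.of_mem_tetrads S₀.hyp hM hTM hU, hT.of_mem_tetrads S₀.hyp hM hTM hV,
    (Transpositions.TypeM24.mem_tetrads.1 hU).1, (Transpositions.TypeM24.mem_tetrads.1 hV).1,
    tetrads_disjoint S₀.hyp hM hTM hT.card hU hV hne, ?_⟩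
  rw [he, Finset.biUnion_insert, Finset.singleton_biUnion]
  rfl

/-- There are 72 members fixing `z`, outside a quadruple, commuting with it and with a member not
commuting with it; at least 49 are enough here. -/
theorem Setting.card_between {R : Finset G} (hR : IsRep D z R) {x : G} (hx : x ∈ Mz D z)
    (hxR : ∀ a ∈ R, ¬ Commute x a) :
    48 < ((commonF D R).filter fun t => Commute t x).card := by
  have hH := S₀.hyp
  set A := (commonF D R).filter fun t => Commute t x with hA
  set K := (cliques D).filter fun M => R ⊆ M with hK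
  set N := commonF D R with hN
  have hN180 : N.card = 180 := by
    rw [hN, card_commonF, (Transpositions.TypeM24.ncard_common hH hR.mem hR.comm).2.2.2.1 hR.card]
  have hthree : ∀ t ∈ N, (K.filter fun M => t ∈ M).card = 3 := by
    intro t ht
    obtain ⟨htD, htp⟩ := mem_commonF.1 ht
    have htR : t ∉ R := fun h => (htp t h).2.1 rfl
    have hF : insert t R ∈ tuples D 5 := (mem_tuples hH).2 ⟨⟨fun a ha => by
      rcases Finset.mem_insert.1 ha with rfl | ha
      exacts [htD, hR.mem a ha], by rw [Finset.card_insert_of_notMem htR, hR.card]⟩, fun a ha b hb => by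
      rcases Finset.mem_insert.1 ha with ea | ha <;> rcases Finset.mem_insert.1 hb with eb | hb
      exacts [ea ▸ eb ▸ Commute.refl t, ea ▸ (htp b hb).2.2.symm, eb ▸ (htp a ha).2.2, hR.comm a ha b hb]⟩
    rw [← card_cliques_five hH hF, hK, Finset.filter_filter]
    congr 1
    ext M
    simp only [Finset.mem_filter, Finset.insert_subset_iff, and_comm]
  have hinN : ∀ M ∈ K, ∀ t, (t ∈ M ∧ t ∉ R ↔ t ∈ N ∧ t ∈ M) := by
    intro M hM t
    obtain ⟨hMc, hRM⟩ := Finset.mem_filter.1 hM
    have hM' := (mem_cliques hH).1 hMc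
    exact ⟨fun ⟨h1, h2⟩ => ⟨mem_commonF.2 ⟨hM'.sub h1, fun a ha =>
      ⟨hM'.sub h1, fun he => h2 (he ▸ ha), hM'.comm a (hRM ha) t h1⟩⟩, h1⟩,
      fun ⟨h1, h2⟩ => ⟨h2, fun h => ((mem_commonF.1 h1).2 t h).2.1 rfl⟩⟩
  have h20 : ∀ M ∈ K, (N.filter fun t => t ∈ M).card = 20 := by
    intro M hM
    obtain ⟨hMc, hRM⟩ := Finset.mem_filter.1 hM
    rw [show (N.filter fun t => t ∈ M) = M \ R from Finset.ext fun t => by
      rw [Finset.mem_filter, Finset.mem_sdiff, hinN M hM t], Finset.card_sdiff_of_subset hRM,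
      (card_clique hH ((mem_cliques hH).1 hMc)).1, hR.card]
  have h8 : ∀ M ∈ K, (A.filter fun t => t ∈ M).card = 8 := by
    intro M hM
    obtain ⟨hMc, hRM⟩ := Finset.mem_filter.1 hM
    have hM' := (mem_cliques hH).1 hMc
    have hxM : x ∉ M := fun h => by
      obtain ⟨a, ha⟩ := Finset.card_pos.1 (show 0 < R.card by rw [hR.card]; norm_num)
      exact hxR a ha (hM'.comm x h a (hRM ha))
    obtain ⟨U, V, hU, hV, hUM, hVM, hd, he⟩ := S₀.adj_eq hM' hR hRM hx hxM
    rw [show (A.filter fun t => t ∈ M) = adj D M x from Finset.ext fun t => by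
      simp only [hA, Finset.mem_filter, mem_adj]
      constructor
      · exact fun ⟨⟨h1, h2⟩, h3⟩ => ⟨h3, hM'.sub h3, fun h => hxM (h ▸ h3), h2.symm⟩
      · exact fun ⟨h3, h4⟩ => ⟨⟨((hinN M hM t).1 ⟨h3, fun h => hxR t h h4.2.2⟩).1, h4.2.2.symm⟩, h3⟩,
      he, Finset.card_union_of_disjoint hd, hU.card, hV.card]
  have d1 := Finset.sum_card_bipartiteAbove_eq_sum_card_bipartiteBelow (fun M t => t ∈ M) (s := K) (t := N)
  have d2 := Finset.sum_card_bipartiteAbove_eq_sum_card_bipartiteBelow (fun M t => t ∈ M) (s := K) (t := A)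
  simp only [Finset.bipartiteAbove, Finset.bipartiteBelow] at d1 d2
  rw [Finset.sum_congr rfl h20, Finset.sum_congr rfl hthree, Finset.sum_const, Finset.sum_const, hN180,
    smul_eq_mul, smul_eq_mul] at d1
  rw [Finset.sum_congr rfl h8, Finset.sum_congr rfl fun t ht => hthree t (Finset.mem_filter.1 ht).1,
    Finset.sum_const, Finset.sum_const, smul_eq_mul, smul_eq_mul] at d2
  rw [hA]
  omega

/-- A pair of a quadruple conjugates a member to another one of the same quadruple, unless they
commute. -/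
theorem Setting.conj_pair {R U : Finset G} (hR : IsRep D z R) (hU : IsRep D z U) {a b y : G} (ha : a ∈ R)
    (hb : b ∈ R) (hne : a ≠ b) (hy : y ∈ U) (hay : ¬ Commute a y) :
    a * b * y * b * a ∈ U ∧ a * b * y * b * a ≠ y := by
  have hH := S₀.hyp
  have h := hH.group
  have haD := hR.mem a ha
  have hbD := hR.mem b hb
  have hyD := hU.mem y hy
  have hyz := hU.subset_Mz hH hy
  have hby : ¬ Commute b y := fun h' => hay (hR.commute_all hH hyz hb h'.symm a ha).symm
  set g := a * b with hg
  set u := a * b * y * b * a with hu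
  have hu' : u = g * y * g⁻¹ := by
    rw [hu, hg, mul_inv_rev, inv_eq h.1 haD, inv_eq h.1 hbD, ← mul_assoc]
  have hgz : g * z * g⁻¹ = z := mul_inv_eq_iff_eq_mul.2
    ((hR.subset_Mz hH ha).2.mul_left (hR.subset_Mz hH hb).2).eq
  have huz : u ∈ Mz D z := ⟨hu' ▸ h.2.1 g y hyD, by
    rw [hu', show Commute (g * y * g⁻¹) z ↔ Commute (g * y * g⁻¹) (g * z * g⁻¹) by rw [hgz],
      commute_conj_iff']
    exact hyz.2⟩
  have huy : Commute u y := commute_conj_pair h.1 haD hbD hyD (hR.comm a ha b hb) hay hby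
  have hne' : u ≠ y := fun he => by
    rw [hu', mul_inv_eq_iff_eq_mul] at he
    exact hay (commute_of_commute_mul h.1 haD hbD hyD (hR.comm a ha b hb) hne he.symm).1.symm
  refine ⟨?_, hne'⟩
  by_contra huU
  obtain ⟨V, hV, huV⟩ := S₀.exists_rep_mem huz
  have huc : ∀ c ∈ U, Commute u c := hU.commute_all hH huz hy huy
  have hcU : ∀ c ∈ insert u U, c ∈ D := fun c hc => by
    rcases Finset.mem_insert.1 hc with rfl | hc
    exacts [huz.1, hU.mem c hc]
  have hc5 : ∀ c ∈ insert u U, ∀ e ∈ insert u U, Commute c e := fun c hc e he => by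
    rcases Finset.mem_insert.1 hc with rfl | hc <;> rcases Finset.mem_insert.1 he with rfl | he
    exacts [Commute.refl _, huc e he, (huc c hc).symm, hU.comm c hc e he]
  have h51 := (Transpositions.TypeM24.ncard_common hH hcU hc5).2.2.2.2 (by rw [Finset.card_insert_of_notMem huU, hU.card])
  rw [← card_commonF] at h51
  -- the members between `U` and `a` fix `u`
  have hsub : (commonF D U).filter (fun t => Commute t a) ⊆ commonF D (insert u U) \ V.erase u := by
    intro t ht
    obtain ⟨ht1, hta⟩ := Finset.mem_filter.1 ht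
    obtain ⟨htD, htU⟩ := mem_commonF.1 ht1
    have htz : t ∈ Mz D z := ⟨htD, hU.commute_z hH fun c hc => (htU c hc).2.2.symm⟩
    have htb := hR.commute_all hH htz ha hta b hb
    have hgt : g * t * g⁻¹ = t := mul_inv_eq_iff_eq_mul.2 (hta.mul_right htb).eq.symm
    have htu : Commute u t := by
      rw [hu', ← hgt, commute_conj_iff']
      exact (htU y hy).2.2
    have hua : ¬ Commute u a := by
      rw [hu', show a = g * a * g⁻¹ from (mul_inv_eq_iff_eq_mul.2
        (((Commute.refl a).mul_right (hR.comm a ha b hb)).eq).symm).symm, commute_conj_iff']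
      exact fun h' => hay h'.symm
    refine Finset.mem_sdiff.2 ⟨mem_commonF.2 ⟨htD, fun c hc => ?_⟩, fun htV => ?_⟩
    · rcases Finset.mem_insert.1 hc with rfl | hc
      · exact ⟨htD, fun he => hua (he ▸ hta), htu⟩
      · exact htU c hc
    · exact hua ((hV.commute_all hH (hR.subset_Mz hH ha) (Finset.mem_of_mem_erase htV) hta.symm u huV)).symm
  have hV3 : V.erase u ⊆ commonF D (insert u U) := by
    intro v hv
    obtain ⟨hvu, hvV⟩ := Finset.mem_erase.1 hv
    refine mem_commonF.2 ⟨hV.mem v hvV, fun c hc => ?_⟩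
    rcases Finset.mem_insert.1 hc with rfl | hc
    · exact ⟨hV.mem v hvV, hvu, hV.comm u huV v hvV⟩
    · refine ⟨hV.mem v hvV, fun he => ?_, (hV.commute_all hH (hU.subset_Mz hH hc) huV (huc c hc).symm v hvV)⟩
      exact huU (hV.eq_of_mem hH hU (he ▸ hvV) hc ▸ huV)
  have h1 := Finset.card_le_card hsub
  rw [Finset.card_sdiff_of_subset hV3, Finset.card_erase_of_mem huV, hV.card, h51] at h1
  have h2 := S₀.card_between hU (hR.subset_Mz hH ha) fun c hc hac =>
    hay (hU.commute_all hH (hR.subset_Mz hH ha) hc hac y hy)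
  omega

end CfsgLib.FischerTypes.M24QuadCent
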