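import Cfsg.Agent.FischerTypes.M24QuadCent.Code
import Cfsg.Agent.Forms4.OmegaSixMinus
import Cfsg.Agent.Forms4.POmegaOrders
import Cfsg.Agent.Spinor.Omega
import Cfsg.Agent.UFourThree.Seven

/-!
# The even part of the permutation group on the 126 lines is `PSU₄(9)`

The lines correspond to the norm-one points of the elliptic six-dimensional space over three elements,
the generators to reflections; the products of two of them then generate the image of `Ω`.
-/

set_option autoImplicit false
set_option linter.unusedSectionVars false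
set_option linter.unusedDecidableInType false
set_option linter.unusedFintypeInType false

namespace CfsgLib.FischerTypes.M24QuadCent.Model

open Matrix CfsgLib.Spinor CfsgLib.StdForms CfsgLib.Forms4

/-- The coordinates. -/
abbrev Ix := (Fin 2 ⊕ Fin 2) ⊕ Fin 2

/-- The position of a coordinate in a code. -/
def pos : Ix → ℕ
  | .inl (.inl i) => i.1
  | .inl (.inr i) => 2 + i.1
  | .inr i => 4 + i.1

/-- The vector of a code. -/
def vec (n : ℕ) (c : Ix) : ZMod 3 := ((n / 3 ^ pos c % 3 : ℕ) : ZMod 3)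

/-- The point of a line. -/
def pt (i : Fin 126) : Ix → ZMod 3 := vec (Code.point.getD i.1 0)

/-- The polar form, written out. -/
def pol (u w : Ix → ZMod 3) : ZMod 3 :=
  u (.inl (.inl 0)) * w (.inl (.inr 0)) + w (.inl (.inl 0)) * u (.inl (.inr 0)) +
    (u (.inl (.inl 1)) * w (.inl (.inr 1)) + w (.inl (.inl 1)) * u (.inl (.inr 1))) +
    2 * (u (.inr 0) * w (.inr 0)) + 2 * (u (.inr 1) * w (.inr 1))

/-- The form, written out. -/
def nrm (u : Ix → ZMod 3) : ZMod 3 :=
  u (.inl (.inl 0)) * u (.inl (.inr 0)) + u (.inl (.inl 1)) * u (.inl (.inr 1)) +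
    u (.inr 0) * u (.inr 0) + u (.inr 1) * u (.inr 1)

/-- The index of a generator. -/
def gpt (k : Fin 8) : Ix → ZMod 3 := vec (Code.point.getD (Code.genIdx k) 0)

section checks

set_option maxRecDepth 100000

theorem nrm_pt : ∀ i, nrm (pt i) = 1 := by decide +kernel

theorem pt_distinct : ∀ i j : Fin 126, i < j →
    ¬ (∀ c, pt i c = pt j c) ∧ ¬ (∀ c, pt i c = - pt j c) := by decide +kernel

theorem pt_surj : ∀ n : Fin 729, nrm (vec n.1) = 1 →
    ∃ i : Fin 126, (∀ c, vec n.1 c = pt i c) ∨ (∀ c, vec n.1 c = - pt i c) := by decide +kernel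

theorem pt_perm : ∀ k : Fin 8, ∀ i : Fin 126,
    (∀ c, pt i c - pol (gpt k) (pt i) * gpt k c = vec (Code.point.getD ((Code.perm k).getD i.1 0) 0) c) ∨
      (∀ c, pt i c - pol (gpt k) (pt i) * gpt k c =
        - vec (Code.point.getD ((Code.perm k).getD i.1 0) 0) c) := by decide +kernel

theorem perm_ne : (Code.perm 0).getD 3 0 ≠ (Code.perm 1).getD 3 0 ∨
    (Code.perm 0).getD 1 0 ≠ (Code.perm 1).getD 1 0 := by decide +kernel

theorem aniso : ∀ z₁ z₂ : ZMod 3, z₁ ^ 2 + 0 * z₁ * z₂ + 1 * z₂ ^ 2 = 0 → z₁ = 0 ∧ z₂ = 0 := by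
  decide +kernel

end checks

attribute [local instance] Classical.propDecidable

theorem exists_vec (x : Ix → ZMod 3) : ∃ n : Fin 729, x = vec n.1 := by
  have h1 := ZMod.val_lt (x (.inl (.inl 0)))
  have h2 := ZMod.val_lt (x (.inl (.inl 1)))
  have h3 := ZMod.val_lt (x (.inl (.inr 0)))
  have h4 := ZMod.val_lt (x (.inl (.inr 1)))
  have h5 := ZMod.val_lt (x (.inr 0))
  have h6 := ZMod.val_lt (x (.inr 1))
  refine ⟨⟨(x (.inl (.inl 0))).val + 3 * (x (.inl (.inl 1))).val + 9 * (x (.inl (.inr 0))).val +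
    27 * (x (.inl (.inr 1))).val + 81 * (x (.inr 0)).val + 243 * (x (.inr 1)).val, by omega⟩, funext fun c => ?_⟩
  refine (ZMod.natCast_zmod_val (x c)).symm.trans (congrArg _ ?_)
  rcases c with (c | c) | c <;> fin_cases c <;> simp [pos] <;> omega

theorem line_disjoint {i j : ℕ} (hi : i < 126) (hj : j < 126) (hne : i ≠ j) :
    (Code.line 0 i).1 ∉ Code.triple (Code.line 0 j) :=
  Code.line_distinct ⟨i, hi⟩ ⟨j, hj⟩ fun h => hne (congrArg Fin.val h)

/-- The form. -/
noncomputable abbrev Q : QuadraticForm (ZMod 3) (Ix → ZMod 3) := minusQ 2 (ZMod 3) 0 1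

/-- Its isometry group. -/
noncomputable abbrev Iso : Type := ↥(Cfsg.isometryGroup (ZMod 3) ⇑Q)

theorem Q_eq (u : Ix → ZMod 3) : Q u = nrm u := by
  simp [minusQ_apply, Cfsg.quadFormMinus, nrm, Fin.sum_univ_two]
  ring

theorem polar_eq (u w : Ix → ZMod 3) : QuadraticMap.polar (⇑Q) u w = pol u w := by
  rw [polar_minus, pol, Fin.sum_univ_two]
  ring

theorem two_ne : (2 : ZMod 3) ≠ 0 := by decide

theorem nondeg : (QuadraticMap.polarBilin Q).Nondegenerate :=
  minusQ_nondegenerate 2 (disc_ne_zero aniso)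

theorem card_ix : 5 ≤ Fintype.card Ix := by simp

theorem pt_ne_zero (i : Fin 126) : Q (pt i) ≠ 0 := by
  rw [Q_eq, nrm_pt]
  exact one_ne_zero

/-- A vector is a point up to sign. -/
def IsPt (x : Ix → ZMod 3) (i : Fin 126) : Prop := x = pt i ∨ x = - pt i

theorem isPt_unique {x : Ix → ZMod 3} {i j : Fin 126} (hi : IsPt x i) (hj : IsPt x j) : i = j := by
  by_contra hne
  wlog hlt : i < j generalizing i j with key
  · exact key hj hi (Ne.symm hne) (lt_of_le_of_ne (not_lt.1 hlt) (Ne.symm hne))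
  obtain ⟨h1, h2⟩ := pt_distinct i j hlt
  rcases hi with hi | hi <;> rcases hj with hj | hj
  · exact h1 fun c => congrFun (hi.symm.trans hj) c
  · exact h2 fun c => congrFun (hi.symm.trans hj) c
  · exact h2 fun c => by
      have := congrFun (hi.symm.trans hj) c
      simp only [Pi.neg_apply] at this
      rw [← this, neg_neg]
  · exact h1 fun c => neg_injective (congrFun (hi.symm.trans hj) c)

theorem exists_pt (g : Iso) (i : Fin 126) : ∃ j, IsPt (mat Q g *ᵥ pt i) j := by
  obtain ⟨n, hn⟩ := exists_vec (mat Q g *ᵥ pt i)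
  have h1 : nrm (vec n.1) = 1 := by rw [← Q_eq, ← hn, quad_mulVec, Q_eq, nrm_pt]
  obtain ⟨j, hj⟩ := pt_surj n h1
  exact ⟨j, hj.imp (fun h => hn.trans (funext h)) (fun h => hn.trans (funext h))⟩

/-- The image of an index. -/
noncomputable def act (g : Iso) (i : Fin 126) : Fin 126 := (exists_pt g i).choose

theorem act_spec (g : Iso) (i : Fin 126) : IsPt (mat Q g *ᵥ pt i) (act g i) := (exists_pt g i).choose_spec

theorem isPt_mulVec {g : Iso} {x : Ix → ZMod 3} {i : Fin 126} (h : IsPt x i) :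
    IsPt (mat Q g *ᵥ x) (act g i) := by
  rcases h with rfl | rfl
  · exact act_spec g i
  · rcases act_spec g i with h | h
    · exact Or.inr (by rw [Matrix.mulVec_neg, h])
    · exact Or.inl (by rw [Matrix.mulVec_neg, h, neg_neg])

theorem act_mul (g h : Iso) (i : Fin 126) : act (g * h) i = act g (act h i) := by
  refine isPt_unique (act_spec (g * h) i) ?_
  rw [mat_mul, ← Matrix.mulVec_mulVec]
  exact isPt_mulVec (act_spec h i)

theorem act_one (i : Fin 126) : act 1 i = i :=
  isPt_unique (act_spec 1 i) (Or.inl (by rw [mat_one, Matrix.one_mulVec]))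

/-- The action on the points. -/
noncomputable def psi : Iso →* Equiv.Perm (Fin 126) where
  toFun g :=
    { toFun := act g
      invFun := act g⁻¹
      left_inv := fun i => by rw [← act_mul, inv_mul_cancel, act_one]
      right_inv := fun i => by rw [← act_mul, mul_inv_cancel, act_one] }
  map_one' := Equiv.ext act_one
  map_mul' g h := Equiv.ext (act_mul g h)

/-- The reflection in a point. -/
noncomputable def refl' (i : Fin 126) : Iso := reflIso Q (pt i) (pt_ne_zero i)

/-- The reflection of a generator. -/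
noncomputable def gref (k : Fin 8) : Iso := refl' ⟨Code.genIdx k, (Code.genIdx_spec k).1⟩

/-- The permutation of a generator. -/
noncomputable def tau (k : Fin 8) : Equiv.Perm (Fin 126) := psi (gref k)

theorem tau_apply (k : Fin 8) (i : Fin 126) : (tau k i : ℕ) = (Code.perm k).getD i 0 := by
  have hj := (Code.perm_step k i).1
  suffices h : tau k i = ⟨(Code.perm k).getD i 0, hj⟩ by rw [h]
  refine isPt_unique (act_spec (gref k) i) ?_
  have e : mat Q (gref k) *ᵥ pt i = fun c => pt i c - pol (gpt k) (pt i) * gpt k c := by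
    show Cfsg.reflectionMatrix (⇑Q) _ *ᵥ pt i = _
    rw [reflectionMatrix_mulVec, refl_apply, polar_eq, Q_eq, nrm_pt, inv_one, one_mul]
    rfl
  rw [e]
  exact (pt_perm k i).imp funext funext

theorem gref_mul_self (k : Fin 8) : gref k * gref k = 1 :=
  mat_ext Q (reflectionMatrix_mul_self Q (pt_ne_zero _))

theorem tau_mul_self (k : Fin 8) : tau k * tau k = 1 := by rw [tau, ← map_mul, gref_mul_self, map_one]

/-- The products of two generators. -/
noncomputable def Wplus : Subgroup (Equiv.Perm (Fin 126)) :=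
  Subgroup.closure {σ | ∃ a b, σ = tau a * tau b}

theorem tau_tau_mem (a b : Fin 8) : tau a * tau b ∈ Wplus := Subgroup.subset_closure ⟨a, b, rfl⟩

theorem tau_conj_mem (k : Fin 8) {σ : Equiv.Perm (Fin 126)} (hσ : σ ∈ Wplus) : tau k * σ * tau k ∈ Wplus := by
  have hk := tau_mul_self k
  induction hσ using Subgroup.closure_induction with
  | mem x hx =>
    obtain ⟨a, b, rfl⟩ := hx
    rw [show tau k * (tau a * tau b) * tau k = tau k * tau a * (tau b * tau k) by group]
    exact mul_mem (tau_tau_mem k a) (tau_tau_mem b k)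
  | one => rw [mul_one, hk]; exact one_mem _
  | mul x y _ _ hx hy =>
    rw [show tau k * (x * y) * tau k = tau k * x * (tau k * tau k) * y * tau k by rw [hk]; group]
    rw [show tau k * x * (tau k * tau k) * y * tau k = tau k * x * tau k * (tau k * y * tau k) by group]
    exact mul_mem hx hy
  | inv x _ hx =>
    have := inv_mem hx
    rwa [_root_.mul_inv_rev, _root_.mul_inv_rev, inv_eq_of_mul_eq_one_right hk, ← mul_assoc] at this

/-- Conjugating an odd element by a generator gives an odd element. -/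
theorem odd_conj (k : Fin 8) {σ : Equiv.Perm (Fin 126)} (hσ : σ * tau 0 ∈ Wplus) :
    tau k * σ * tau k * tau 0 ∈ Wplus := by
  have := mul_mem (tau_conj_mem k hσ) (mul_mem (tau_tau_mem k 0) (tau_tau_mem k 0))
  rwa [show tau k * (σ * tau 0) * tau k * (tau k * tau 0 * (tau k * tau 0)) =
    tau k * σ * tau 0 * (tau k * tau k) * tau 0 * tau k * tau 0 by group, tau_mul_self, mul_one,
    show tau k * σ * tau 0 * tau 0 * tau k * tau 0 = tau k * σ * (tau 0 * tau 0) * tau k * tau 0 by group,
    tau_mul_self, mul_one] at this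

theorem refl'_odd (i : Fin 126) : psi (refl' i) * tau 0 ∈ Wplus := by
  have hg : ∀ k, psi (gref k) * tau 0 ∈ Wplus := fun k => tau_tau_mem k 0
  have h0 : Code.genIdx 0 = 0 := by decide
  obtain ⟨i, hi⟩ := i
  induction i using Nat.strong_induction_on with
  | _ i ih =>
    by_cases hz : i = 0
    · subst hz
      have := hg 0
      rwa [gref, show (⟨Code.genIdx 0, (Code.genIdx_spec 0).1⟩ : Fin 126) = ⟨0, hi⟩ from Fin.ext h0] at this
    have hl : i < (Code.table 0).length := by rw [Code.table_length.1]; exact hi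
    obtain ⟨hp, he⟩ := Code.table_step 0 ⟨i, hl⟩ hz
    simp only at hp he
    set p := ((Code.table 0).getD i ((0, 0), 0, 0)).2.1
    set k := ((Code.table 0).getD i ((0, 0), 0, 0)).2.2
    have hpi : tau k ⟨p, hp.trans hi⟩ = ⟨i, hi⟩ := by
      obtain ⟨hj, hm⟩ := Code.perm_step k ⟨p, hp.trans hi⟩
      refine Fin.ext ?_
      rw [tau_apply]
      simp only at hj hm ⊢
      by_contra hne
      have h1 : (Code.line 0 i).1 ∈ Code.triple (Code.line 0 ((Code.perm k).getD p 0)) := by
        rw [he]; exact hm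
      exact line_disjoint hi hj (Ne.symm hne) h1
    have e : refl' ⟨i, hi⟩ = gref k * refl' ⟨p, hp.trans hi⟩ * (gref k)⁻¹ := by
      rw [refl', refl', conj_reflIso]
      refine mat_ext Q ?_
      rcases act_spec (gref k) ⟨p, hp.trans hi⟩ with h | h <;>
        rw [show act (gref k) ⟨p, hp.trans hi⟩ = ⟨i, hi⟩ from hpi] at h <;>
        refine Matrix.toLin'.injective ?_ <;>
        simp only [mat, reflIso_coe, toLin'_reflectionMatrix] at h ⊢ <;> rw [h]
      rw [show -pt ⟨i, hi⟩ = (-1 : ZMod 3) • pt ⟨i, hi⟩ by rw [neg_one_smul], refl_smul Q (by decide)]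
    rw [e, map_mul, map_mul, map_inv, ← tau, inv_eq_of_mul_eq_one_right (tau_mul_self k)]
    exact odd_conj k (ih p hp (hp.trans hi))

theorem refl'_pair_mem (i j : Fin 126) : psi (refl' i) * psi (refl' j) ∈ Wplus := by
  have hj : psi (refl' j) * psi (refl' j) = 1 := by
    rw [← map_mul, show refl' j * refl' j = 1 from mat_ext Q (reflectionMatrix_mul_self Q (pt_ne_zero _)),
      map_one]
  have := mul_mem (refl'_odd i) (inv_mem (refl'_odd j))
  rwa [_root_.mul_inv_rev, inv_eq_of_mul_eq_one_right hj, inv_eq_of_mul_eq_one_right (tau_mul_self 0), ← mul_assoc,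
    mul_assoc (psi (refl' i)), tau_mul_self, mul_one] at this

theorem conj_refl' (g : Iso) (i : Fin 126) : g * refl' i * g⁻¹ = refl' (act g i) := by
  rw [refl', refl', conj_reflIso]
  refine mat_ext Q (Matrix.toLin'.injective ?_)
  simp only [mat, reflIso_coe, toLin'_reflectionMatrix]
  rcases act_spec g i with h | h <;> simp only [mat] at h <;> rw [h]
  rw [show -pt (act g i) = (-1 : ZMod 3) • pt (act g i) by rw [neg_one_smul], refl_smul Q (by decide)]

theorem psi_normalizes (g : Iso) {σ : Equiv.Perm (Fin 126)} (hσ : σ ∈ Wplus) :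
    psi g * σ * (psi g)⁻¹ ∈ Wplus := by
  induction hσ using Subgroup.closure_induction with
  | mem x hx =>
    obtain ⟨a, b, rfl⟩ := hx
    rw [tau, tau, show psi g * (psi (gref a) * psi (gref b)) * (psi g)⁻¹ =
      psi (g * gref a * g⁻¹) * psi (g * gref b * g⁻¹) by simp only [map_mul, map_inv]; group, gref, gref,
      conj_refl', conj_refl']
    exact refl'_pair_mem _ _
  | one => rw [mul_one, mul_inv_cancel]; exact one_mem _
  | mul x y _ _ hx hy =>
    have := mul_mem hx hy
    rwa [show psi g * x * (psi g)⁻¹ * (psi g * y * (psi g)⁻¹) = psi g * (x * y) * (psi g)⁻¹ by group] at this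
  | inv x _ hx =>
    have := inv_mem hx
    rwa [show (psi g * x * (psi g)⁻¹)⁻¹ = psi g * x⁻¹ * (psi g)⁻¹ by group] at this

theorem psi_scalar {g : Iso} {r : ZMod 3} (hr : r * r = 1) (hg : mat Q g = r • 1) : psi g = 1 := by
  refine Equiv.ext fun i => isPt_unique (act_spec g i) ?_
  rw [hg, Matrix.smul_mulVec, Matrix.one_mulVec]
  rcases mul_self_eq_one_iff.1 hr with rfl | rfl
  · exact Or.inl (one_smul _ _)
  · exact Or.inr (neg_one_smul _ _)

theorem gref_pair_omega (a b : Fin 8) : gref a * gref b ∈ Cfsg.Omega (ZMod 3) ⇑Q :=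
  mem_omega_of_isReflProd two_ne ((IsReflProd.reflIso _ (pt_ne_zero _)).mul (IsReflProd.reflIso _ (pt_ne_zero _)))
    ⟨1, by simp⟩ ⟨1, by simp [Q_eq, nrm_pt]⟩

/-- `PΩ⁻₆(3)` is the even permutation group. -/
theorem exists_equiv_pOmega : Nonempty (Cfsg.POmega (ZMod 3) ⇑Q ≃* ↥Wplus) := by
  have hQ := nondeg
  have hn := card_ix
  set P := minusPairs 2 le_rfl (0 : ZMod 3) 1
  set Ω := Cfsg.Omega (ZMod 3) ⇑Q with hΩ
  have hne : psi (gref 0 * gref 1) ≠ 1 := by
    rw [map_mul]
    intro h
    have h' : tau 0 = tau 1 := by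
      rw [tau, tau, eq_inv_of_mul_eq_one_left h, ← map_inv,
        inv_eq_of_mul_eq_one_right (gref_mul_self 1)]
    rcases perm_ne with h0 | h0 <;> refine h0 ?_
    · have := tau_apply 0 3; have := tau_apply 1 3; simp_all
    · have := tau_apply 0 1; have := tau_apply 1 1; simp_all
  have hle : ∀ g ∈ Ω, psi g ∈ Wplus := by
    rcases TwoPairs.scalar_or_omega_le hQ hn P ((Wplus.comap psi) ⊓ Ω) (fun n hn' g hg => by
      refine ⟨?_, Ω.mul_mem (Ω.mul_mem hg hn'.2) (Ω.inv_mem hg)⟩
      show psi (g * n * g⁻¹) ∈ Wplus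
      rw [map_mul, map_mul, map_inv]
      exact psi_normalizes g hn'.1) with h | h
    · obtain ⟨r, hr, hgr⟩ := h (gref 0 * gref 1)
        ⟨by show psi _ ∈ Wplus; rw [map_mul]; exact tau_tau_mem 0 1, gref_pair_omega 0 1⟩
      exact absurd (psi_scalar hr hgr) hne
    · exact fun g hg => (h hg).1
  set f : ↥Ω →* ↥Wplus := (psi.comp Ω.subtype).codRestrict Wplus (fun g => hle g.1 g.2) with hf
  have hsurj : Function.Surjective f := by
    rintro ⟨σ, hσ⟩
    suffices h : σ ∈ Ω.map psi by
      obtain ⟨g, hg, rfl⟩ := h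
      exact ⟨⟨g, hg⟩, rfl⟩
    refine (Subgroup.closure_le _).2 ?_ hσ
    rintro _ ⟨a, b, rfl⟩
    exact ⟨_, gref_pair_omega a b, map_mul psi _ _⟩
  have hker : f.ker = Subgroup.center ↥Ω := by
    refine le_antisymm ?_ fun g hg => ?_
    · rcases TwoPairs.normal_le_center_or_eq_top hQ hn P f.ker with h | h
      · exact h
      · refine absurd ?_ hne
        have : (⟨gref 0 * gref 1, gref_pair_omega 0 1⟩ : ↥Ω) ∈ f.ker := h ▸ Subgroup.mem_top _
        exact congrArg Subtype.val (MonoidHom.mem_ker.1 this)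
    · obtain ⟨r, hr, hgr⟩ := (TwoPairs.mem_center_omega_iff hQ hn P g).1 hg
      exact MonoidHom.mem_ker.2 (Subtype.ext (psi_scalar hr hgr))
  exact ⟨(QuotientGroup.quotientMulEquivOfEq hker.symm).trans
    (QuotientGroup.quotientKerEquivOfSurjective f hsurj)⟩

noncomputable local instance : Fintype (GaloisField 3 2) := Fintype.ofFinite _

theorem card_galois : Fintype.card (GaloisField 3 2) = 9 := by
  rw [← Nat.card_eq_fintype_card, GaloisField.card 3 2 (by norm_num)]
  norm_num

/-- The even permutation group is `PSU₄(9)`. -/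
theorem exists_equiv_psu : ∃ (K : Type) (_ : Field K) (_ : Fintype K),
    Fintype.card K = 9 ∧ Nonempty (↥Wplus ≃* Cfsg.PSU 4 K 3) := by
  obtain ⟨e⟩ := exists_equiv_pOmega
  have h := nonempty_pOmega_six_minus_equiv (F := ZMod 3) (K := GaloisField 3 2) (q := 3) (ZMod.card 3)
    (by rw [card_galois]; norm_num) 0 1 aniso
  rw [← coe_minusQ] at h
  obtain ⟨e'⟩ := h
  exact ⟨GaloisField 3 2, inferInstance, inferInstance, card_galois, ⟨e.symm.trans e'⟩⟩

theorem card_Wplus : Nat.card Wplus = 3265920 := by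
  obtain ⟨K, iK, iF, hK, ⟨e⟩⟩ := exists_equiv_psu
  have : CharP K 3 := by
    obtain ⟨p, hp⟩ := CharP.exists K
    obtain ⟨n, hp', hpn⟩ := FiniteField.card K p
    rw [hK] at hpn
    have h3 : p ∣ 3 ^ 2 := by rw [show (3 : ℕ) ^ 2 = 9 from rfl, hpn]; exact dvd_pow_self p n.pos.ne'
    rwa [(Nat.prime_dvd_prime_iff_eq hp' Nat.prime_three).1 (hp'.dvd_of_dvd_pow h3)] at hp
  obtain ⟨ι, hι⟩ : IsSquare (-1 : K) := FiniteField.isSquare_neg_one_iff.2 (by rw [hK]; norm_num)
  rw [Nat.card_congr e.toEquiv]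
  exact UFourThree.card_eq (ι := ι) (by rw [pow_two, hι]) hK

theorem isSimple_Wplus : IsSimpleGroup ↥Wplus := by
  obtain ⟨e⟩ := exists_equiv_pOmega
  have := TwoPairs.isSimpleGroup_pOmega nondeg card_ix (minusPairs 2 le_rfl (0 : ZMod 3) 1)
  have : Nontrivial ↥Wplus := e.symm.toEquiv.nontrivial
  exact IsSimpleGroup.isSimpleGroup_of_surjective e.toMonoidHom e.surjective

end CfsgLib.FischerTypes.M24QuadCent.Model
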