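import Cfsg.Agent.FischerTypes.M24QuadCent.Action
import Cfsg.Agent.Transpositions.TypeM24Parameters

/-!
# The order of the centralizer of a product of four commuting members in type M(24)

Orbits and stabilizers on the ordered quadruples with that product.
-/

set_option autoImplicit false
set_option linter.unusedSectionVars false
set_option linter.unusedDecidableInType false
set_option linter.unusedFintypeInType false

namespace CfsgLib.FischerTypes.M24QuadCent

open Cfsg CfsgLib.FischerTypes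
open CfsgLib.Transpositions.TypeM24

attribute [local instance] Classical.propDecidable

variable {G : Type*} [Group G] [Finite G]

/-- Orbit and stabilizer for conjugation by a subgroup. -/
theorem card_eq_orbit_mul (S : Subgroup G) (x : G) (O : Set G) (hmem : ∀ g ∈ S, g * x * g⁻¹ ∈ O)
    (htrans : ∀ y ∈ O, ∃ g ∈ S, g * x * g⁻¹ = y) :
    Nat.card S = O.ncard * Nat.card (S ⊓ Subgroup.centralizer ({x} : Set G) : Subgroup G) := by
  classical
  let : MulAction ↥S G := MulAction.compHom G ((ConjAct.toConjAct (G := G)).toMonoidHom.comp S.subtype)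
  have hsmul : ∀ (g : ↥S) (y : G), g • y = (g : G) * y * (g : G)⁻¹ := fun g y => rfl
  have horb : MulAction.orbit ↥S x = O := by
    ext y
    constructor
    · rintro ⟨g, rfl⟩
      exact hmem g g.2
    · intro hy
      obtain ⟨g, hg, rfl⟩ := htrans y hy
      exact ⟨⟨g, hg⟩, rfl⟩
  have hstab : MulAction.stabilizer ↥S x = (Subgroup.centralizer ({x} : Set G)).subgroupOf S := by
    ext g
    rw [MulAction.mem_stabilizer_iff, hsmul, Subgroup.mem_subgroupOf, Subgroup.mem_centralizer_singleton_iff,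
      mul_inv_eq_iff_eq_mul]
  have h := Nat.card_congr (MulAction.orbitEquivQuotientStabilizer ↥S x)
  rw [horb, Nat.card_coe_set_eq] at h
  rw [Subgroup.card_eq_card_quotient_mul_card_subgroup (MulAction.stabilizer ↥S x), ← h, hstab]
  congr 1
  refine Nat.card_congr
    { toFun := fun g => ⟨g.1.1, g.1.2, g.2⟩
      invFun := fun g => ⟨⟨g.1, g.2.1⟩, g.2.2⟩
      left_inv := fun g => rfl
      right_inv := fun g => rfl }

variable {D : Set G} {z : G}

/-- Four members pairwise commuting and different. -/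
structure Four (D : Set G) (a b c e : G) : Prop where
  ha : a ∈ D
  ab : b ∈ perp D a
  ac : c ∈ perp D a
  ae : e ∈ perp D a
  bc : c ∈ perp D b
  be : e ∈ perp D b
  ce : e ∈ perp D c

theorem Four.exists_conj (H : M24.Hyp G D) {a b c e a' b' c' e' : G} (h : Four D a b c e)
    (h' : Four D a' b' c' e') :
    ∃ g : G, g * a * g⁻¹ = a' ∧ g * b * g⁻¹ = b' ∧ g * c * g⁻¹ = c' ∧ g * e * g⁻¹ = e' :=
  M24.exists_conj_quad H h.ha h.ab h.ac h.ae h.bc h.be h.ce h'.ha h'.ab h'.ac h'.ae h'.bc h'.be h'.ce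

theorem exists_four_of (H : M24.Hyp G D) {a b c : G} (ha : a ∈ D) (hb : b ∈ perp D a) (hc : c ∈ perp D a)
    (hbc : c ∈ perp D b) : ∃ e, Four D a b c e := by
  obtain ⟨e, h1, h2, h3⟩ : (perp D a ∩ (perp D b ∩ perp D c)).Nonempty := Set.nonempty_of_ncard_ne_zero
    (by rw [M24.ncard_perp_commute H ha hb hc hbc.2.1.symm hbc.2.2]; norm_num)
  exact ⟨e, ha, hb, hc, h1, hbc, h2, h3⟩

theorem exists_four_of_two (H : M24.Hyp G D) {a b : G} (ha : a ∈ D) (hb : b ∈ perp D a) :
    ∃ c e, Four D a b c e := by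
  obtain ⟨c, h1, h2⟩ : (perp D a ∩ perp D b).Nonempty := Set.nonempty_of_ncard_ne_zero
    (by rw [M24.ncard_perp_perp H ha hb]; norm_num)
  exact ⟨c, exists_four_of H ha hb h1 h2⟩

theorem conj_mem_perp' (H : M24.Hyp G D) {g x y : G} (hy : y ∈ perp D x) (hgx : g * x * g⁻¹ = x) :
    g * y * g⁻¹ ∈ perp D x := by
  refine ⟨H.group.2.1 g y hy.1, fun h => hy.2.1 (mul_left_cancel (mul_right_cancel (h.trans hgx.symm))), ?_⟩
  rw [← hgx, commute_conj_iff']
  exact hy.2.2

/-- The centralizer of four commuting members. -/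
theorem card_centralizer_four (H : M24.Hyp G D) {a b c e : G} (h : Four D a b c e) :
    Nat.card (Subgroup.centralizer ({a} : Set G) ⊓ Subgroup.centralizer ({b} : Set G) ⊓
      Subgroup.centralizer ({c} : Set G) ⊓ Subgroup.centralizer ({e} : Set G) : Subgroup G) *
        (31671 * 3510 * 693) = 8178940946586009600 := by
  have hc : ∀ {g x : G}, g ∈ Subgroup.centralizer ({x} : Set G) → g * x * g⁻¹ = x := fun hg =>
    mul_inv_eq_iff_eq_mul.2 (Subgroup.mem_centralizer_singleton_iff.1 hg)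
  have hc' : ∀ {g x : G}, g * x * g⁻¹ = x → g ∈ Subgroup.centralizer ({x} : Set G) := fun hg =>
    Subgroup.mem_centralizer_singleton_iff.2 (mul_inv_eq_iff_eq_mul.1 hg)
  have e1 := card_eq_orbit_mul (Subgroup.centralizer ({a} : Set G)) b (perp D a)
    (fun g hg => conj_mem_perp' H h.ab (hc hg)) (fun y hy => by
      obtain ⟨c', e', h'⟩ := exists_four_of_two H h.ha hy
      obtain ⟨g, g1, g2, -, -⟩ := h.exists_conj H h'
      exact ⟨g, hc' g1, g2⟩)
  have e2 := card_eq_orbit_mul (Subgroup.centralizer ({a} : Set G) ⊓ Subgroup.centralizer ({b} : Set G)) c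
    (perp D a ∩ perp D b) (fun g hg => ⟨conj_mem_perp' H h.ac (hc hg.1), conj_mem_perp' H h.bc (hc hg.2)⟩)
    (fun y hy => by
      obtain ⟨e', h'⟩ := exists_four_of H h.ha h.ab hy.1 hy.2
      obtain ⟨g, g1, g2, g3, -⟩ := h.exists_conj H h'
      exact ⟨g, ⟨hc' g1, hc' g2⟩, g3⟩)
  have e3 := card_eq_orbit_mul (Subgroup.centralizer ({a} : Set G) ⊓ Subgroup.centralizer ({b} : Set G) ⊓
      Subgroup.centralizer ({c} : Set G)) e (perp D a ∩ (perp D b ∩ perp D c))
    (fun g hg => ⟨conj_mem_perp' H h.ae (hc hg.1.1), conj_mem_perp' H h.be (hc hg.1.2),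
      conj_mem_perp' H h.ce (hc hg.2)⟩)
    (fun y hy => by
      obtain ⟨g, g1, g2, g3, g4⟩ := h.exists_conj H (⟨h.ha, h.ab, h.ac, hy.1, h.bc, hy.2.1, hy.2.2⟩ : Four D a b c y)
      exact ⟨g, ⟨⟨hc' g1, hc' g2⟩, hc' g3⟩, g4⟩)
  rw [Transpositions.TypeM24.card_centralizer H h.ha, Transpositions.TypeM24.ncard_perp H h.ha] at e1
  rw [M24.ncard_perp_perp H h.ha h.ab] at e2
  rw [M24.ncard_perp_commute H h.ha h.ab h.ac h.bc.2.1.symm h.bc.2.2] at e3
  rw [e2, e3] at e1
  rw [e1]
  ring

variable (S₀ : Setting G D z)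

include S₀

/-- The order of the centralizer of `z`. -/
theorem Setting.card_CC : Nat.card (Subgroup.centralizer ({z} : Set G)) = 321052999680 := by
  have H := S₀.hyp
  obtain ⟨R, hR⟩ := S₀.exists_rep
  obtain ⟨a, b, c, e, hab, hac, hae, hbc, hbe, hce, hRe⟩ := Finset.card_eq_four.1 hR.card
  have hfour : ∀ {U : Finset G}, IsRep D z U → ∀ {a b c e : G}, U = {a, b, c, e} → a ≠ b → a ≠ c → a ≠ e →
      b ≠ c → b ≠ e → c ≠ e → Four D a b c e ∧ a * b * c * e = z := by
    intro U hU a b c e he nab nac nae nbc nbe nce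
    have pp : ∀ {x y}, x ∈ U → y ∈ U → x ≠ y → y ∈ perp D x := fun hx hy hne =>
      ⟨hU.mem _ hy, hne.symm, hU.comm _ hx _ hy⟩
    refine ⟨⟨hU.mem a (by simp [he]), pp (by simp [he]) (by simp [he]) nab, pp (by simp [he]) (by simp [he]) nac,
      pp (by simp [he]) (by simp [he]) nae, pp (by simp [he]) (by simp [he]) nbc,
      pp (by simp [he]) (by simp [he]) nbe, pp (by simp [he]) (by simp [he]) nce⟩, ?_⟩
    have := hU.prod_eq H (l := [a, b, c, e]) (by simp [nab, nac, nae, nbc, nbe, nce]) (by simp [he])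
    simpa [mul_assoc] using this
  obtain ⟨h0, hp0⟩ := hfour hR hRe hab hac hae hbc hbe hce
  have hc : ∀ {g x : G}, g ∈ Subgroup.centralizer ({x} : Set G) → g * x * g⁻¹ = x := fun hg =>
    mul_inv_eq_iff_eq_mul.2 (Subgroup.mem_centralizer_singleton_iff.1 hg)
  have hc' : ∀ {g x : G}, g * x * g⁻¹ = x → g ∈ Subgroup.centralizer ({x} : Set G) := fun hg =>
    Subgroup.mem_centralizer_singleton_iff.2 (mul_inv_eq_iff_eq_mul.1 hg)
  have hconjR : ∀ {g : G}, g ∈ Subgroup.centralizer ({z} : Set G) → g * a * g⁻¹ = a →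
      ∀ x ∈ R, g * x * g⁻¹ ∈ R := by
    intro g hgz hga x hx
    have hz : g * x * g⁻¹ ∈ Mz D z := ⟨H.group.2.1 g x (hR.mem x hx), by
      rw [← hc hgz, commute_conj_iff']; exact (hR.subset_Mz H hx).2⟩
    have hca : Commute (g * x * g⁻¹) a := by
      rw [← hga, commute_conj_iff']; exact hR.comm x hx a (by simp [hRe])
    by_cases hxa : g * x * g⁻¹ = a
    · rw [hxa]; simp [hRe]
    obtain ⟨U, hU, hxU⟩ := S₀.exists_rep_mem hz
    by_contra hnR
    -- the image of `R` is a quadruple through `a`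
    have himg : ∀ y ∈ R, g * y * g⁻¹ ∈ U := by
      have key : IsRep D z (R.image fun y => g * y * g⁻¹) := by
        have hl : IsCList D ([a, b, c, e].map fun y => g * y * g⁻¹) :=
          ⟨List.Nodup.map (fun p q he => mul_left_cancel (mul_right_cancel he))
              (by simp [hab, hac, hae, hbc, hbe, hce]),
            fun y hy => by
              obtain ⟨w, hw, rfl⟩ := List.mem_map.1 hy
              exact H.group.2.1 g w (hR.mem w (by simpa [hRe] using hw)),
            fun y hy v hv => by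
              obtain ⟨w, hw, rfl⟩ := List.mem_map.1 hy
              obtain ⟨u, hu, rfl⟩ := List.mem_map.1 hv
              rw [commute_conj_iff']
              exact hR.comm w (by simpa [hRe] using hw) u (by simpa [hRe] using hu)⟩
        have := isRep_of_clist (z := z) H hl (by simp) (by
          rw [← hc hgz, ← hp0]
          simp only [List.map_cons, List.map_nil, List.prod_cons, List.prod_nil, mul_one]
          group)
        convert this using 1
        ext y
        simp [hRe]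
      intro y hy
      rw [← key.eq_of_mem H hU (Finset.mem_image_of_mem _ hx) hxU]
      exact Finset.mem_image_of_mem _ hy
    exact hnR (hR.eq_of_mem H hU (a := a) (by simp [hRe]) (hga ▸ himg a (by simp [hRe])) ▸ hxU)
  set CZ := Subgroup.centralizer ({z} : Set G) with hCZ
  have hza : ∀ {g : G}, g * z * g⁻¹ = z → g ∈ CZ := fun h => hc' h
  have hz' : ∀ {g a b c e : G}, g * a * g⁻¹ * (g * b * g⁻¹) * (g * c * g⁻¹) * (g * e * g⁻¹) =
      g * (a * b * c * e) * g⁻¹ := fun {g a b c e} => by group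
  have e1 := card_eq_orbit_mul CZ a (Mz D z) (fun g hg => ⟨H.group.2.1 g a h0.ha, by
      rw [← hc hg, commute_conj_iff']; exact (hR.subset_Mz H (by simp [hRe])).2⟩) (fun y hy => by
      obtain ⟨U, hU, hyU⟩ := S₀.exists_rep_mem hy
      obtain ⟨p, q, r, hpq, hyp, hyr, hqp, hqr, hUe⟩ : ∃ p q r, q ≠ r ∧ y ≠ p ∧ y ≠ r ∧ y ≠ q ∧
          (p ≠ q ∧ p ≠ r) ∧ U = {y, p, q, r} := by
        obtain ⟨p, hp⟩ := Finset.card_pos.1 (show 0 < (U.erase y).card by
          rw [Finset.card_erase_of_mem hyU, hU.card]; norm_num)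
        obtain ⟨hpy, hp⟩ := Finset.mem_erase.1 hp
        obtain ⟨q, r, hqr, hyq, hyr, hpq, hpr, hUe⟩ := exists_four hU.card hyU hp hpy.symm
        exact ⟨p, q, r, hqr, hpy.symm, hyr, hyq, ⟨hpq, hpr⟩, hUe⟩
      obtain ⟨h', hp'⟩ := hfour hU hUe hyp hqp hyr hqr.1 hqr.2 hpq
      obtain ⟨g, g1, g2, g3, g4⟩ := h0.exists_conj H h'
      exact ⟨g, hza (by rw [← hp0, ← hz', g1, g2, g3, g4, hp', hp0]), g1⟩)
  have e2 := card_eq_orbit_mul (CZ ⊓ Subgroup.centralizer ({a} : Set G)) b (↑({b, c, e} : Finset G))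
    (fun g hg => by
      have hm := hconjR hg.1 (hc hg.2) b (by simp [hRe])
      have hne : g * b * g⁻¹ ≠ a := fun h => hab (mul_left_cancel (mul_right_cancel (h.trans (hc hg.2).symm))).symm
      simpa [hRe, hne] using hm) (fun y hy => by
      simp only [Finset.coe_insert, Finset.coe_singleton, Set.mem_insert_iff, Set.mem_singleton_iff] at hy
      rcases hy with h | h | h <;> subst h
      · exact ⟨1, one_mem _, by simp⟩
      · obtain ⟨h', hp'⟩ := hfour hR (a := a) (b := y) (c := b) (e := e)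
          (by rw [hRe, Finset.insert_comm b y]) hac hab hae hbc.symm hce hbe
        obtain ⟨g, g1, g2, g3, g4⟩ := h0.exists_conj H h'
        exact ⟨g, ⟨hza (by rw [← hp0, ← hz', g1, g2, g3, g4, hp', hp0]), hc' g1⟩, g2⟩
      · obtain ⟨h', hp'⟩ := hfour hR (a := a) (b := y) (c := c) (e := b)
          (by rw [hRe]; ext w; simp; tauto) hae hac hab hce.symm hbe.symm hbc.symm
        obtain ⟨g, g1, g2, g3, g4⟩ := h0.exists_conj H h'
        exact ⟨g, ⟨hza (by rw [← hp0, ← hz', g1, g2, g3, g4, hp', hp0]), hc' g1⟩, g2⟩)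
  have e3 := card_eq_orbit_mul (CZ ⊓ Subgroup.centralizer ({a} : Set G) ⊓ Subgroup.centralizer ({b} : Set G)) c
    (↑({c, e} : Finset G))
    (fun g hg => by
      have hm := hconjR hg.1.1 (hc hg.1.2) c (by simp [hRe])
      have n1 : g * c * g⁻¹ ≠ a := fun h => hac (mul_left_cancel (mul_right_cancel (h.trans (hc hg.1.2).symm))).symm
      have n2 : g * c * g⁻¹ ≠ b := fun h => hbc (mul_left_cancel (mul_right_cancel (h.trans (hc hg.2).symm))).symm
      simpa [hRe, n1, n2] using hm) (fun y hy => by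
      simp only [Finset.coe_insert, Finset.coe_singleton, Set.mem_insert_iff, Set.mem_singleton_iff] at hy
      rcases hy with h | h <;> subst h
      · exact ⟨1, one_mem _, by simp⟩
      · obtain ⟨h', hp'⟩ := hfour hR (a := a) (b := b) (c := y) (e := c)
          (by rw [hRe, Finset.pair_comm]) hab hae hac hbe hbc hce.symm
        obtain ⟨g, g1, g2, g3, g4⟩ := h0.exists_conj H h'
        exact ⟨g, ⟨⟨hza (by rw [← hp0, ← hz', g1, g2, g3, g4, hp', hp0]), hc' g1⟩, hc' g2⟩, g3⟩)
  have hlast : CZ ⊓ Subgroup.centralizer ({a} : Set G) ⊓ Subgroup.centralizer ({b} : Set G) ⊓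
      Subgroup.centralizer ({c} : Set G) = Subgroup.centralizer ({a} : Set G) ⊓
        Subgroup.centralizer ({b} : Set G) ⊓ Subgroup.centralizer ({c} : Set G) ⊓
          Subgroup.centralizer ({e} : Set G) := by
    ext g
    simp only [Subgroup.mem_inf]
    constructor
    · rintro ⟨⟨⟨gz, ga⟩, gb⟩, gc⟩
      refine ⟨⟨⟨ga, gb⟩, gc⟩, hc' ?_⟩
      have := hconjR gz (hc ga) e (by simp [hRe])
      have n1 : g * e * g⁻¹ ≠ a := fun h => hae (mul_left_cancel (mul_right_cancel (h.trans (hc ga).symm))).symm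
      have n2 : g * e * g⁻¹ ≠ b := fun h => hbe (mul_left_cancel (mul_right_cancel (h.trans (hc gb).symm))).symm
      have n3 : g * e * g⁻¹ ≠ c := fun h => hce (mul_left_cancel (mul_right_cancel (h.trans (hc gc).symm))).symm
      simpa [hRe, n1, n2, n3] using this
    · rintro ⟨⟨⟨ga, gb⟩, gc⟩, ge⟩
      refine ⟨⟨⟨hza ?_, ga⟩, gb⟩, gc⟩
      rw [← hp0, ← hz', hc ga, hc gb, hc gc, hc ge]
  have h4 := card_centralizer_four H h0
  rw [hlast] at e3
  rw [show (Mz D z).ncard = 504 from by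
    obtain ⟨l, hl, hl4, hp⟩ := S₀.exists_list
    have := ncard_fixed_quad H hl.nodup hl4 hl.mem hl.comm
    rw [hp] at this
    exact this] at e1
  rw [Set.ncard_coe_finset, Finset.card_eq_three.2 ⟨b, c, e, hbc, hbe, hce, rfl⟩] at e2
  rw [Set.ncard_coe_finset, Finset.card_pair hce] at e3
  rw [e2, e3] at e1
  omega

end CfsgLib.FischerTypes.M24QuadCent
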