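import Cfsg.Agent.FischerTypes.M24QuadCent.Action

/-!
# The pairs of two quadruples
-/

set_option autoImplicit false
set_option linter.unusedSectionVars false
set_option linter.unusedDecidableInType false
set_option linter.unusedFintypeInType false

namespace CfsgLib.FischerTypes.M24QuadCent

open Cfsg CfsgLib.FischerTypes

attribute [local instance] Classical.propDecidable

variable {G : Type*} [Group G]

/-- Some member of the first does not commute with some member of the second. -/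
def Opp (R U : Finset G) : Prop := ∃ a ∈ R, ∃ y ∈ U, ¬ Commute a y

theorem Opp.symm {R U : Finset G} (h : Opp R U) : Opp U R :=
  let ⟨a, ha, y, hy, hc⟩ := h
  ⟨y, hy, a, ha, fun h' => hc h'.symm⟩

variable [Finite G] {D : Set G} {z : G}

theorem Opp.all (H : M24.Hyp G D) {R U : Finset G} (h : Opp R U) (hR : IsRep D z R) (hU : IsRep D z U)
    {a y : G} (ha : a ∈ R) (hy : y ∈ U) : ¬ Commute a y := by
  obtain ⟨b, hb, v, hv, hc⟩ := h
  intro hay
  exact hc (hR.commute_all H (hU.subset_Mz H hv) ha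
    (hU.commute_all H (hR.subset_Mz H ha) hy hay v hv).symm b hb).symm

variable (S₀ : Setting G D z)

include S₀

theorem Setting.exists_two {R : Finset G} (hR : IsRep D z R) :
    ∃ α β, α ∈ pairs z R ∧ β ∈ pairs z R ∧ α ≠ β := by
  obtain ⟨a, ha⟩ := Finset.card_pos.1 (show 0 < R.card by rw [hR.card]; norm_num)
  obtain ⟨b, hb⟩ := Finset.card_pos.1 (show 0 < (R.erase a).card by
    rw [Finset.card_erase_of_mem ha, hR.card]; norm_num)
  obtain ⟨hba, hb⟩ := Finset.mem_erase.1 hb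
  obtain ⟨c, e, hce, hac, hae, hbc, hbe, hRe⟩ := exists_four hR.card ha hb hba.symm
  refine ⟨cl z (a * b), cl z (a * c), ⟨a, ha, b, hb, hba.symm, rfl⟩, ⟨a, ha, c, by simp [hRe], hac, rfl⟩,
    fun h => ?_⟩
  have h5 := (S₀.four hR hRe hba.symm hac hae hbc hbe hce).2.2.2.2
  rw [← h, S₀.abar_sq (S₀.pairs_mem_Abar hR ⟨a, ha, b, hb, hba.symm, rfl⟩)] at h5
  exact S₀.cl_pair_ne_one hR ha (by simp [hRe]) hae h5.symm

theorem Setting.pairs_ne_one {R : Finset G} (hR : IsRep D z R) {α : Quo z} (h : α ∈ pairs z R) : α ≠ 1 := by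
  obtain ⟨a, ha, b, hb, hab, rfl⟩ := h
  exact S₀.cl_pair_ne_one hR ha hb hab

/-- A quadruple has three pairs up to `z`, each the product of the other two. -/
theorem Setting.pairs_three {R : Finset G} (hR : IsRep D z R) {α β : Quo z} (hα : α ∈ pairs z R)
    (hβ : β ∈ pairs z R) (hne : α ≠ β) :
    α * β ∈ pairs z R ∧ ∀ γ ∈ pairs z R, γ = α ∨ γ = β ∨ γ = α * β := by
  obtain ⟨a, ha⟩ := Finset.card_pos.1 (show 0 < R.card by rw [hR.card]; norm_num)
  obtain ⟨b, hb, hba, rfl⟩ := S₀.exists_at hR hα ha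
  obtain ⟨c, hc, hca, rfl⟩ := S₀.exists_at hR hβ ha
  have hcb : c ≠ b := fun h => hne (by rw [h])
  obtain ⟨f, hf⟩ := Finset.card_pos.1 (show 0 < (((R.erase a).erase b).erase c).card by
    rw [Finset.card_erase_of_mem (by simp [hca, hcb, hc]), Finset.card_erase_of_mem (by simp [hba, hb]),
      Finset.card_erase_of_mem ha, hR.card]
    norm_num)
  simp only [Finset.mem_erase] at hf
  have hmul := S₀.pair_mul hR ha hb hc hf.2.2.2 hba.symm hca hcb hf.2.2.1 hf.2.1 hf.1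
  refine ⟨⟨a, ha, f, hf.2.2.2, hf.2.2.1.symm, hmul⟩, fun γ hγ => ?_⟩
  obtain ⟨e, he, hea, rfl⟩ := S₀.exists_at hR hγ ha
  by_cases heb : e = b
  · exact Or.inl (by rw [heb])
  by_cases hec : e = c
  · exact Or.inr (Or.inl (by rw [hec]))
  exact Or.inr (Or.inr (S₀.pair_mul hR ha hb hc he hba.symm hca hcb hea heb hec).symm)

/-- Pairs of commuting quadruples commute. -/
theorem Setting.nc_of_perp {R U : Finset G} (hR : IsRep D z R) (hU : IsRep D z U) (h : ¬ Opp R U)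
    {p q : Quo z} (hp : p ∈ pairs z R) (hq : q ∈ pairs z U) : nc p q = false := by
  simp only [Opp, not_exists, not_and, not_not] at h
  obtain ⟨a, ha, b, hb, -, rfl⟩ := hp
  obtain ⟨y, hy, y', hy', -, rfl⟩ := hq
  rw [S₀.nc_false_iff (mul_mem (hR.mem_CC S₀.hyp ha) (hR.mem_CC S₀.hyp hb))
    (mul_mem (hU.mem_CC S₀.hyp hy) (hU.mem_CC S₀.hyp hy'))]
  exact ((h a ha y hy).mul_right (h a ha y' hy')).mul_left ((h b hb y hy).mul_right (h b hb y' hy'))

/-- A pair of a quadruple commutes with exactly one pair of a non-commuting one. -/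
theorem Setting.orth_unique {R U : Finset G} (hR : IsRep D z R) (hU : IsRep D z U) (h : Opp R U)
    {q : Quo z} (hq : q ∈ pairs z U) :
    ∃ α ∈ pairs z R, nc α q = false ∧ ∀ γ ∈ pairs z R, nc γ q = false → γ = α := by
  obtain ⟨a, ha⟩ := Finset.card_pos.1 (show 0 < R.card by rw [hR.card]; norm_num)
  obtain ⟨y, hy, y', hy', hne, rfl⟩ := hq
  obtain ⟨b, hb, hba, -, huniq⟩ := S₀.exists_orth hR hU ha hy hy' hne (h.all S₀.hyp hR hU ha hy)
  refine ⟨cl z (a * b), ⟨a, ha, b, hb, hba.symm, rfl⟩, (huniq b hb hba).2 rfl, fun γ hγ h0 => ?_⟩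
  obtain ⟨c, hc, hca, rfl⟩ := S₀.exists_at hR hγ ha
  rw [(huniq c hc hca).1 h0]

/-- The pairing of two non-commuting quadruples in bases is invertible. -/
theorem Setting.pairing_det {R U : Finset G} (hR : IsRep D z R) (hU : IsRep D z U) (h : Opp R U)
    {a₁ a₂ b₁ b₂ : Quo z} (ha₁ : a₁ ∈ pairs z R) (ha₂ : a₂ ∈ pairs z R) (ha : a₁ ≠ a₂)
    (hb₁ : b₁ ∈ pairs z U) (hb₂ : b₂ ∈ pairs z U) (hb : b₁ ≠ b₂) :
    xor (nc a₁ b₁ && nc a₂ b₂) (nc a₁ b₂ && nc a₂ b₁) = true := by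
  obtain ⟨s, -, -, h1⟩ := S₀.orth_unique hU hR h.symm ha₁
  obtain ⟨t, -, -, h2⟩ := S₀.orth_unique hU hR h.symm ha₂
  have hsame : ∀ s ∈ pairs z U, nc a₁ s = false → nc a₂ s = false → False := by
    intro s hs e1 e2
    obtain ⟨α, -, -, hu⟩ := S₀.orth_unique hR hU h hs
    exact ha ((hu a₁ ha₁ e1).trans (hu a₂ ha₂ e2).symm)
  have A₁ := S₀.pairs_mem_Abar hR ha₁
  have A₂ := S₀.pairs_mem_Abar hR ha₂
  have B₁ := S₀.pairs_mem_Abar hU hb₁
  have B₂ := S₀.pairs_mem_Abar hU hb₂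
  obtain ⟨h12, -⟩ := S₀.pairs_three hU hb₁ hb₂ hb
  have x1 := S₀.nc_mul_right B₁ B₂ A₁
  have x2 := S₀.nc_mul_right B₁ B₂ A₂
  have d1 : ∀ x y, x ∈ pairs z U → y ∈ pairs z U → x ≠ y → nc a₁ x = false → nc a₁ y = false → False :=
    fun x y hx hy hxy e e' => hxy ((h1 x hx (by rw [S₀.nc_comm]; exact e)).trans
      (h1 y hy (by rw [S₀.nc_comm]; exact e')).symm)
  have d2 : ∀ x y, x ∈ pairs z U → y ∈ pairs z U → x ≠ y → nc a₂ x = false → nc a₂ y = false → False :=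
    fun x y hx hy hxy e e' => hxy ((h2 x hx (by rw [S₀.nc_comm]; exact e)).trans
      (h2 y hy (by rw [S₀.nc_comm]; exact e')).symm)
  cases e11 : nc a₁ b₁ <;> cases e12 : nc a₁ b₂ <;> cases e21 : nc a₂ b₁ <;> cases e22 : nc a₂ b₂ <;>
    simp only [e11, e12, e21, e22, Bool.and_true, Bool.and_false, Bool.xor_self, Bool.xor_false,
      Bool.xor_true, Bool.not_false] at x1 x2 ⊢ <;>
    first
      | exact (d1 b₁ b₂ hb₁ hb₂ hb e11 e12).elim
      | exact (d2 b₁ b₂ hb₁ hb₂ hb e21 e22).elim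
      | exact (hsame b₁ hb₁ e11 e21).elim
      | exact (hsame b₂ hb₂ e12 e22).elim
      | exact (hsame _ h12 x1 x2).elim

end CfsgLib.FischerTypes.M24QuadCent
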