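import Cfsg.Agent.FischerTypes.M24QuadCent.Perms
import Cfsg.Agent.FischerTypes.M24QuadCent.Model

/-!
# The members act as odd elements, and the even part is self-centralizing

A member acts on the 126 quadruples as an element outside the simple group generated by the products of
two generators; that group is normalized by the action of the centralizer and has trivial centralizer.
-/

set_option autoImplicit false
set_option linter.unusedSectionVars false
set_option linter.unusedDecidableInType false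
set_option linter.unusedFintypeInType false

namespace CfsgLib.FischerTypes.M24QuadCent

open Cfsg CfsgLib.FischerTypes
open Model (tau Wplus)

attribute [local instance] Classical.propDecidable

namespace Model

theorem tau_zero_fix : tau 0 0 = 0 := by
  refine Fin.ext ?_
  rw [tau_apply]
  decide +kernel

/-- A generator takes the table predecessor to the quadruple. -/
theorem tau_table {i : Fin 126} (h0 : i.1 ≠ 0) :
    ∃ (p : Fin 126) (k : Fin 8), p.1 < i.1 ∧ tau k p = i ∧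
      Code.line 0 i = (Code.transv 0 (Code.gen k) (Code.line 0 p).1, Code.transv 0 (Code.gen k) (Code.line 0 p).2) := by
  have hl : i.1 < (Code.table 0).length := by rw [Code.table_length.1]; exact i.2
  obtain ⟨hp, he⟩ := Code.table_step 0 ⟨i.1, hl⟩ h0
  simp only at hp he
  set p := ((Code.table 0).getD i.1 ((0, 0), 0, 0)).2.1
  set k := ((Code.table 0).getD i.1 ((0, 0), 0, 0)).2.2
  refine ⟨⟨p, hp.trans i.2⟩, k, hp, ?_, he⟩
  obtain ⟨hj, hm⟩ := Code.perm_step k ⟨p, hp.trans i.2⟩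
  refine Fin.ext ?_
  rw [tau_apply]
  simp only at hj hm ⊢
  by_contra hne
  have h1 : (Code.line 0 i).1 ∈ Code.triple (Code.line 0 ((Code.perm k).getD p 0)) := by
    rw [he]; exact hm
  exact line_disjoint i.2 hj (Ne.symm hne) h1

theorem exists_move (i : Fin 126) : ∃ w ∈ Wplus, w 0 = i := by
  obtain ⟨i, hi⟩ := i
  induction i using Nat.strong_induction_on with
  | _ i ih =>
    by_cases h0 : i = 0
    · subst h0; exact ⟨1, one_mem _, rfl⟩
    obtain ⟨⟨p, hpp⟩, k, hp, hk, -⟩ := tau_table (i := ⟨i, hi⟩) h0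
    obtain ⟨w, hw, he⟩ := ih p hp hpp
    refine ⟨tau k * w * tau k * (tau k * tau 0), mul_mem (tau_conj_mem k hw) (tau_tau_mem k 0), ?_⟩
    rw [show tau k * w * tau k * (tau k * tau 0) = tau k * w * (tau k * tau k) * tau 0 by group,
      tau_mul_self, mul_one]
    rw [Equiv.Perm.mul_apply, Equiv.Perm.mul_apply, tau_zero_fix, he, hk]

end Model

variable {G : Type*} [Group G] [Finite G] {D : Set G} {z : G}

variable (S₀ : Setting G D z) (C : Coord D z)

include S₀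

theorem Coord.rho_mem'_tau (k : Fin 8) : C.rho S₀ (C.mem' S₀ k) = tau k :=
  Equiv.ext fun i => Fin.ext (by rw [C.rho_mem' S₀, Model.tau_apply])

/-- The members of a quadruple act alike. -/
theorem Coord.rho_same {R : Finset G} (hR : IsRep D z R) {a b : ↥(CC z)} (ha : (a : G) ∈ R)
    (hb : (b : G) ∈ R) : C.rho S₀ a = C.rho S₀ b := by
  by_cases hab : (a : G) = b
  · rw [Subtype.ext hab]
  have hq : a * b ∈ Qsub D z := mem_Qsub.2 (S₀.pairs_mem_Abar hR ⟨a, ha, b, hb, hab, rfl⟩)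
  have hb2 : b * b = 1 := Subtype.ext (mul_self S₀.hyp.group.1 (hR.mem _ hb))
  have h := MonoidHom.mem_ker.1 (C.Qsub_le_ker S₀ hq)
  rw [map_mul] at h
  rw [eq_inv_of_mul_eq_one_left h, ← map_inv, inv_eq_of_mul_eq_one_right hb2]

/-- A generator lies in the quadruple of its line. -/
theorem Coord.mem'_zero : (C.mem' S₀ 0 : G) ∈ (C.equiv S₀ 0).1 := by
  obtain ⟨hR, m1, -⟩ := (C.gens 0).choose_spec
  have h : (C.gens 0).choose.Nonempty := Finset.card_pos.1 (by rw [hR.card]; norm_num)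
  rw [← C.eq_equiv S₀ hR (i := 0) (n := (Code.gen 0).1) (by decide) m1]
  exact h.choose_spec

/-- A member of a quadruple acts as an odd element. -/
theorem Coord.rho_odd {w : ↥(CC z)} (hw : (w : G) ∈ Mz D z) : C.rho S₀ w * tau 0 ∈ Wplus := by
  obtain ⟨R, hR, hwR⟩ := S₀.exists_rep_mem hw
  obtain ⟨⟨i, hi⟩, he⟩ := (C.equiv S₀).surjective ⟨R, hR⟩
  rw [← show (C.equiv S₀ ⟨i, hi⟩).1 = R from congrArg Subtype.val he] at hwR
  clear he hR R hw
  induction i using Nat.strong_induction_on generalizing w with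
  | _ i ih =>
    have H := S₀.hyp
    by_cases h0 : i = 0
    · subst h0
      rw [C.rho_same S₀ (C.equiv S₀ 0).2 hwR (C.mem'_zero S₀), C.rho_mem'_tau S₀, Model.tau_mul_self]
      exact one_mem _
    obtain ⟨⟨p, hpp⟩, k, hp, -, hline⟩ := Model.tau_table (i := ⟨i, hi⟩) h0
    have hm := (C.mem' S₀ k).2
    have hc := conjRep_pairs H (C.equiv S₀ ⟨p, hpp⟩).2 hm (C.equiv_spec S₀ _).1
    rw [(C.mem'_spec S₀ k).2, show Code.transv 0 (Code.gen k) (Code.line 0 p).1 = (Code.line 0 i).1 from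
      (congrArg Prod.fst hline).symm] at hc
    have hRi : conjRep (C.mem' S₀ k : G) (C.equiv S₀ ⟨p, hpp⟩).1 = (C.equiv S₀ ⟨i, hi⟩).1 :=
      C.eq_equiv S₀ ((C.equiv S₀ ⟨p, hpp⟩).2.conj H hm) (line_fst_mem i) hc
    rw [← hRi, conjRep, Finset.mem_image] at hwR
    obtain ⟨v, hv, hvw⟩ := hwR
    set v' : ↥(CC z) := ⟨v, (C.equiv S₀ ⟨p, hpp⟩).2.mem_CC H hv⟩
    have e : w = C.mem' S₀ k * v' * (C.mem' S₀ k)⁻¹ := Subtype.ext hvw.symm
    rw [e, map_mul, map_mul, map_inv, C.rho_mem'_tau S₀,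
      inv_eq_of_mul_eq_one_right (Model.tau_mul_self k)]
    exact Model.odd_conj k (ih p hp hpp (w := v') hv)

theorem Coord.rho_mem_sq {w : ↥(CC z)} (hw : (w : G) ∈ Mz D z) : C.rho S₀ w * C.rho S₀ w = 1 := by
  rw [← map_mul, show w * w = 1 from Subtype.ext (mul_self S₀.hyp.group.1 hw.1), map_one]

theorem Coord.rho_pair_mem {v w : ↥(CC z)} (hv : (v : G) ∈ Mz D z) (hw : (w : G) ∈ Mz D z) :
    C.rho S₀ (v * w) ∈ Wplus := by
  have := mul_mem (C.rho_odd S₀ hv) (inv_mem (C.rho_odd S₀ hw))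
  rwa [_root_.mul_inv_rev, inv_eq_of_mul_eq_one_right (C.rho_mem_sq S₀ hw),
    inv_eq_of_mul_eq_one_right (Model.tau_mul_self 0), mul_assoc (C.rho S₀ v), ← mul_assoc (tau 0),
    Model.tau_mul_self, one_mul, ← map_mul] at this

theorem Coord.rho_normalizes (g : ↥(CC z)) {σ : Equiv.Perm (Fin 126)} (hσ : σ ∈ Wplus) :
    C.rho S₀ g * σ * (C.rho S₀ g)⁻¹ ∈ Wplus := by
  have hconj : ∀ k : Fin 8, ((g * C.mem' S₀ k * g⁻¹ : ↥(CC z)) : G) ∈ Mz D z := by
    intro k
    obtain ⟨R, hR, hw⟩ := S₀.exists_rep_mem (C.mem'_spec S₀ k).1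
    exact (hR.conj S₀.hyp g.2).subset_Mz S₀.hyp
      (Finset.mem_image_of_mem (fun x => (g : G) * x * (g : G)⁻¹) hw)
  induction hσ using Subgroup.closure_induction with
  | mem x hx =>
    obtain ⟨a, b, rfl⟩ := hx
    rw [← C.rho_mem'_tau S₀, ← C.rho_mem'_tau S₀, ← map_mul, ← map_inv, ← map_mul, ← map_mul,
      show g * (C.mem' S₀ a * C.mem' S₀ b) * g⁻¹ = g * C.mem' S₀ a * g⁻¹ * (g * C.mem' S₀ b * g⁻¹) by group]
    exact C.rho_pair_mem S₀ (hconj a) (hconj b)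
  | one => rw [mul_one, mul_inv_cancel]; exact one_mem _
  | mul x y _ _ hx hy =>
    have := mul_mem hx hy
    rwa [show C.rho S₀ g * x * (C.rho S₀ g)⁻¹ * (C.rho S₀ g * y * (C.rho S₀ g)⁻¹) =
      C.rho S₀ g * (x * y) * (C.rho S₀ g)⁻¹ by group] at this
  | inv x _ hx =>
    have := inv_mem hx
    rwa [show (C.rho S₀ g * x * (C.rho S₀ g)⁻¹)⁻¹ = C.rho S₀ g * x⁻¹ * (C.rho S₀ g)⁻¹ by group] at this

include C in
theorem Coord.beta_symm (n m : ℕ) : Code.beta 0 n m = Code.beta 0 m n := by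
  rw [← C.u_eq S₀, ← C.nc_P S₀, ← C.nc_P S₀, S₀.nc_comm]

theorem transv_bound {l : ℕ × ℕ} {x : ℕ} (hx : x < 4096) (h1 : l.1 < 4096) (h2 : l.2 < 4096) :
    Code.transv 0 l x < 4096 := by
  refine Nat.xor_lt_two_pow (n := 12) (Nat.xor_lt_two_pow (n := 12) hx ?_) ?_ <;> split_ifs <;>
    first | assumption | norm_num

/-- A product of two members moves the codes by the two transvections. -/
theorem Coord.conj_two {a b : Fin 126} {v w : ↥(CC z)} (hv : (v : G) ∈ (C.equiv S₀ a).1)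
    (hw : (w : G) ∈ (C.equiv S₀ b).1) (x : ℕ) :
    cl z ((v * w : ↥(CC z)) : G) * C.P x * (cl z ((v * w : ↥(CC z)) : G))⁻¹ =
      C.P (Code.transv 0 (Code.line 0 a) (Code.transv 0 (Code.line 0 b) x)) := by
  obtain ⟨a1, a2, a3⟩ := line0_bound a
  obtain ⟨b1, b2, b3⟩ := line0_bound b
  obtain ⟨m1, m2⟩ := C.equiv_spec S₀ a
  obtain ⟨n1, n2⟩ := C.equiv_spec S₀ b
  rw [← C.u_eq S₀] at *
  rw [← C.conj_P S₀ (C.equiv S₀ a).2 hv a1 a2 a3 m1 m2, ← C.conj_P S₀ (C.equiv S₀ b).2 hw b1 b2 b3 n1 n2,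
    Subgroup.coe_mul, cl_mul v.2 w.2]
  group

include C in
/-- The even part has trivial centralizer. -/
theorem Coord.eq_one_of_commute {σ : Equiv.Perm (Fin 126)} (h : ∀ w ∈ Wplus, Commute σ w) : σ = 1 := by
  have hpick : ∀ a : Fin 126, ∃ v : ↥(CC z), (v : G) ∈ (C.equiv S₀ a).1 := fun a => by
    obtain ⟨v, hv⟩ := Finset.card_pos.1 (show 0 < (C.equiv S₀ a).1.card by
      rw [(C.equiv S₀ a).2.card]; norm_num)
    exact ⟨⟨v, (C.equiv S₀ a).2.mem_CC S₀.hyp hv⟩, hv⟩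
  have h0 : σ 0 = 0 := by
    by_contra hne
    obtain ⟨p, hp, hmove⟩ := Code.stab_spec.2 (σ 0) (fun e => hne (Fin.ext e))
    obtain ⟨p1, p2, -, -, e1, e2, e3, e4, e5, e6, e7, e8⟩ := Code.stab_spec.1 p hp
    obtain ⟨v, hv⟩ := hpick ⟨p.1, p1⟩
    obtain ⟨w, hw⟩ := hpick ⟨p.2, p2⟩
    have hπ := C.rho_pair_mem S₀ ((C.equiv S₀ ⟨p.1, p1⟩).2.subset_Mz S₀.hyp hv)
      ((C.equiv S₀ ⟨p.2, p2⟩).2.subset_Mz S₀.hyp hw)
    have hfix : C.rho S₀ (v * w) 0 = 0 := by
      refine C.rho_eq S₀ (line_fst_mem 0) ?_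
      rw [C.conj_two S₀ hv hw]
      have g0 : (Code.line 0 0).1 = (Code.gen 0).1 := by rw [Code.table_zero]
      simp only [Fin.val_zero, g0]
      rw [C.beta_symm S₀] at e1 e3 e5 e7
      simp [Code.transv, e1, e3, e5, e7]
    have hc := DFunLike.congr_fun (h _ hπ).eq 0
    rw [Equiv.Perm.mul_apply, Equiv.Perm.mul_apply, hfix] at hc
    obtain ⟨b1, b2, -⟩ := line0_bound (σ 0)
    obtain ⟨q1, q2, -⟩ := line0_bound ⟨p.1, p1⟩
    obtain ⟨r1, r2, -⟩ := line0_bound ⟨p.2, p2⟩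
    have hpair := conjRep_pairs S₀.hyp (C.equiv S₀ (σ 0)).2 (v * w).2 (C.equiv_spec S₀ (σ 0)).1
    rw [C.conj_two S₀ hv hw, ← C.equiv_rho S₀, ← hc] at hpair
    exact hmove (C.equiv_mem_triple S₀ (transv_bound S₀ (transv_bound S₀ b1 r1 r2) q1 q2) hpair)
  refine Equiv.ext fun i => ?_
  obtain ⟨w, hw, rfl⟩ := Model.exists_move i
  have := DFunLike.congr_fun (h w hw).eq 0
  rw [Equiv.Perm.mul_apply, Equiv.Perm.mul_apply, h0] at this
  rw [this, Equiv.Perm.one_apply]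

end CfsgLib.FischerTypes.M24QuadCent
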