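import Cfsg.Agent.FischerTypes.M24QuadCent.Lines
import Cfsg.Agent.FischerTypes.M24QuadCent.Faithful
import Cfsg.Agent.FischerTypes.M24QuadCent.Order

/-!
# The action on the 126 quadruples

The section has preimage `Q` of order `2^13` in the centralizer, and the kernel of the action on the
quadruples contains it with index three.
-/

set_option autoImplicit false
set_option linter.unusedSectionVars false
set_option linter.unusedDecidableInType false
set_option linter.unusedFintypeInType false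

namespace CfsgLib.FischerTypes.M24QuadCent

open Cfsg CfsgLib.FischerTypes

attribute [local instance] Classical.propDecidable

variable {G : Type*} [Group G] [Finite G] {D : Set G} {z : G}

theorem conjRep_conjRep (g h : G) (R : Finset G) : conjRep g (conjRep h R) = conjRep (g * h) R := by
  rw [conjRep, conjRep, conjRep, Finset.image_image]
  refine Finset.image_congr fun x _ => ?_
  simp [mul_assoc]

theorem conjRep_one (R : Finset G) : conjRep 1 R = R := by simp [conjRep]

/-- The action on the quadruples. -/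
noncomputable def sig (H : M24.Hyp G D) : ↥(CC z) →* Equiv.Perm {R : Finset G // IsRep D z R} where
  toFun g :=
    { toFun := fun R => ⟨conjRep (g : G) R.1, R.2.conj H g.2⟩
      invFun := fun R => ⟨conjRep (g : G)⁻¹ R.1, R.2.conj H (inv_mem g.2)⟩
      left_inv := fun R => Subtype.ext ((conjRep_conjRep _ _ _).trans (by rw [inv_mul_cancel, conjRep_one]))
      right_inv := fun R => Subtype.ext ((conjRep_conjRep _ _ _).trans (by rw [mul_inv_cancel, conjRep_one])) }
  map_one' := Equiv.ext fun R => Subtype.ext (conjRep_one _)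
  map_mul' g h := Equiv.ext fun R => Subtype.ext (conjRep_conjRep _ _ _).symm

theorem line0_bound (i : Fin 126) : (Code.line 0 i).1 < 4096 ∧ (Code.line 0 i).2 < 4096 ∧
    (Code.line 0 i).1 ≠ (Code.line 0 i).2 := by
  have hi : (i : ℕ) < (Code.table 0).length := by rw [Code.table_length.1]; exact i.2
  obtain ⟨a, b, -, -, e⟩ := Code.table_bound 0 ((Code.table 0).getD i ((0, 0), 0, 0))
    (by rw [← List.getElem_eq_getD (h := hi)]; exact List.getElem_mem hi)
  exact ⟨a, b, e⟩

variable (S₀ : Setting G D z) (C : Coord D z)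

include S₀

/-- The preimage of the section. -/
def Qsub (D : Set G) (z : G) : Subgroup ↥(CC z) := (Abar D z).comap (QuotientGroup.mk' (Zc z))

omit S₀ [Finite G] in
theorem mem_Qsub {x : ↥(CC z)} : x ∈ Qsub D z ↔ cl z (x : G) ∈ Abar D z := by
  rw [cl_coe]; rfl

theorem Setting.Qsub_normal : (Qsub D z).Normal := by
  refine ⟨fun x hx g => ?_⟩
  rw [mem_Qsub] at hx ⊢
  rw [Subgroup.coe_mul, Subgroup.coe_mul, Subgroup.coe_inv, cl_mul (mul_mem g.2 x.2) (inv_mem g.2),
    cl_mul g.2 x.2, cl_inv g.2]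
  exact conj_mem_Abar S₀.hyp g.2 hx

theorem Setting.card_Zc : Nat.card (Zc z) = 2 := by
  rw [Zc, Nat.card_zpowers]
  exact orderOf_eq_prime (Subtype.ext (by rw [pow_two]; exact S₀.commute_z_z))
    fun h => S₀.z_ne_one (congrArg Subtype.val h)

include C in
theorem Coord.card_Qsub : Nat.card (Qsub D z) = 8192 := by
  set f : ↥(Qsub D z) →* ↥(Abar D z) :=
    ((QuotientGroup.mk' (Zc z)).comp (Qsub D z).subtype).codRestrict (Abar D z) (fun x => x.2) with hf
  have hsurj : Function.Surjective f := fun p => by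
    obtain ⟨x, hx⟩ := QuotientGroup.mk_surjective (p : Quo z)
    have hm : x ∈ Qsub D z := by
      show QuotientGroup.mk' (Zc z) x ∈ Abar D z
      rw [QuotientGroup.mk'_apply, hx]; exact p.2
    exact ⟨⟨x, hm⟩, Subtype.ext hx⟩
  have hle : Zc z ≤ Qsub D z := fun x hx => by
    show QuotientGroup.mk' (Zc z) x ∈ Abar D z
    rw [QuotientGroup.mk'_apply, (QuotientGroup.eq_one_iff x).2 hx]; exact one_mem _
  have hker : f.ker = (Zc z).subgroupOf (Qsub D z) := by
    ext x
    rw [MonoidHom.mem_ker, Subgroup.mem_subgroupOf, ← QuotientGroup.eq_one_iff]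
    exact Subtype.ext_iff
  rw [Subgroup.card_eq_card_quotient_mul_card_subgroup f.ker,
    Nat.card_congr (QuotientGroup.quotientKerEquivOfSurjective f hsurj).toEquiv, C.card_Abar S₀, hker,
    Nat.card_congr (Subgroup.subgroupOfEquivOfLe hle).toEquiv, S₀.card_Zc]

/-- The action on the indices. -/
noncomputable def Coord.rho : ↥(CC z) →* Equiv.Perm (Fin 126) :=
  (C.equiv S₀).symm.permCongrHom.toMonoidHom.comp (sig S₀.hyp)

theorem Coord.equiv_rho (g : ↥(CC z)) (i : Fin 126) :
    (C.equiv S₀ (C.rho S₀ g i)).1 = conjRep (g : G) (C.equiv S₀ i).1 := by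
  show (C.equiv S₀ ((C.equiv S₀).symm (sig S₀.hyp g ((C.equiv S₀).symm.symm i)))).1 = _
  rw [Equiv.apply_symm_apply, Equiv.symm_symm]
  rfl

/-- Where an element takes a quadruple is read off the codes. -/
theorem Coord.rho_eq {g : ↥(CC z)} {i j : Fin 126} {n : ℕ} (hn : n ∈ Code.triple (Code.line 0 j))
    (h : cl z (g : G) * C.P (Code.line 0 i).1 * (cl z (g : G))⁻¹ = C.P n) : C.rho S₀ g i = j := by
  refine (C.equiv S₀).injective (Subtype.ext ?_)
  rw [C.equiv_rho S₀]
  exact C.eq_equiv S₀ ((C.equiv S₀ i).2.conj S₀.hyp g.2) hn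
    (h ▸ conjRep_pairs S₀.hyp (C.equiv S₀ i).2 g.2 (C.equiv_spec S₀ i).1)

omit S₀ in
theorem line_fst_mem (i : ℕ) : (Code.line 0 i).1 ∈ Code.triple (Code.line 0 i) := by simp [Code.triple]

include C in
theorem Coord.Qsub_le_ker : Qsub D z ≤ (C.rho S₀).ker := fun g hg => by
  rw [MonoidHom.mem_ker]
  refine Equiv.ext fun i => ?_
  rw [Equiv.Perm.one_apply]
  refine C.rho_eq S₀ (line_fst_mem i) ?_
  rw [(S₀.abar_comm (mem_Qsub.1 hg) (C.P_mem S₀ _)).eq, mul_inv_cancel_right]

/-- A member of each generating quadruple. -/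
noncomputable def Coord.mem' (k : Fin 8) : ↥(CC z) :=
  have h : (C.gens k).choose.Nonempty := Finset.card_pos.1 (by rw [(C.gens k).choose_spec.1.card]; norm_num)
  ⟨h.choose, (C.gens k).choose_spec.1.mem_CC S₀.hyp h.choose_spec⟩

theorem Coord.mem'_spec (k : Fin 8) : (C.mem' S₀ k : G) ∈ Mz D z ∧
    ∀ x, cl z (C.mem' S₀ k : G) * C.P x * (cl z (C.mem' S₀ k : G))⁻¹ = C.P (Code.transv 0 (Code.gen k) x) := by
  obtain ⟨hR, m1, m2⟩ := (C.gens k).choose_spec
  have h : (C.gens k).choose.Nonempty := Finset.card_pos.1 (by rw [hR.card]; norm_num)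
  refine ⟨hR.subset_Mz S₀.hyp h.choose_spec, fun x => ?_⟩
  obtain ⟨g1, g2, g3⟩ := gen_bound k
  rw [← C.u_eq S₀]
  exact C.conj_P S₀ hR h.choose_spec g1 g2 g3 m1 m2 x

theorem Coord.rho_mem' (k : Fin 8) (i : Fin 126) :
    (C.rho S₀ (C.mem' S₀ k) i : ℕ) = (Code.perm k).getD i 0 := by
  obtain ⟨hj, hm⟩ := Code.perm_step k i
  rw [C.rho_eq S₀ (j := ⟨(Code.perm k).getD i 0, hj⟩) hm ((C.mem'_spec S₀ k).2 _)]

/-- The element of a word. -/
noncomputable def Coord.word (w : List (Fin 8)) : ↥(CC z) := ((w.reverse).map (C.mem' S₀)).prod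

theorem Coord.conj_word (w : List (Fin 8)) (x : ℕ) :
    cl z (C.word S₀ w : G) * C.P x * (cl z (C.word S₀ w : G))⁻¹ = C.P (Code.appWord 0 w x) := by
  induction w generalizing x with
  | nil => simp [Coord.word, Code.appWord, cl_one]
  | cons k w ih =>
    rw [show C.word S₀ (k :: w) = C.word S₀ w * C.mem' S₀ k by simp [Coord.word], Subgroup.coe_mul,
      cl_mul (C.word S₀ w).2 (C.mem' S₀ k).2, show Code.appWord 0 (k :: w) x =
        Code.appWord 0 w (Code.transv 0 (Code.gen k) x) from rfl, ← ih, ← (C.mem'_spec S₀ k).2]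
    group

/-- The element acting as a scalar of order three. -/
noncomputable def Coord.scal : ↥(CC z) := C.word S₀ (List.replicate 8 Code.scalWord).flatten

theorem Coord.scal_mem_ker : C.scal S₀ ∈ (C.rho S₀).ker := by
  rw [MonoidHom.mem_ker]
  exact Equiv.ext fun i => C.rho_eq S₀ (Code.scal_fixes i) (C.conj_word S₀ _ _)

omit S₀ in
theorem selB_false (l : List Bool) (h : ∀ b ∈ l, b = false) : ∀ n, Code.selB l n = false := by
  induction l with
  | nil => simp [Code.selB]
  | cons x l ih =>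
    intro n
    simp [Code.selB, h x List.mem_cons_self, ih (fun b hb => h b (List.mem_cons_of_mem _ hb))]

/-- An element fixing all quadruples commutes with the action of the members on the section. -/
theorem Coord.conj_comm {g : ↥(CC z)} (hg : g ∈ (C.rho S₀).ker) (k : Fin 8) {p : Quo z} (hp : p ∈ Abar D z) :
    cl z (g : G) * (cl z (C.mem' S₀ k : G) * p * (cl z (C.mem' S₀ k : G))⁻¹) * (cl z (g : G))⁻¹ =
      cl z (C.mem' S₀ k : G) * (cl z (g : G) * p * (cl z (g : G))⁻¹) * (cl z (C.mem' S₀ k : G))⁻¹ := by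
  obtain ⟨R, hR, hwR⟩ := S₀.exists_rep_mem (C.mem'_spec S₀ k).1
  obtain ⟨α, β, hα, hβ, hne⟩ := S₀.exists_two hR
  set w := (C.mem' S₀ k : G)
  have hmem' : (g : G) * w * (g : G)⁻¹ ∈ R := by
    obtain ⟨i, hi⟩ := (C.equiv S₀).surjective ⟨R, hR⟩
    have hRe : (C.equiv S₀ i).1 = R := congrArg Subtype.val hi
    have hfix : conjRep (g : G) R = R := by
      rw [← hRe, ← C.equiv_rho S₀, MonoidHom.mem_ker.1 hg, Equiv.Perm.one_apply]
    rw [← hfix]
    exact Finset.mem_image_of_mem (fun x => (g : G) * x * (g : G)⁻¹) hwR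
  have hw : w ∈ CC z := (C.mem' S₀ k).2
  have hq := conj_mem_Abar S₀.hyp g.2 hp
  rw [S₀.conj_eq hR hwR hα hβ hne hq, ← S₀.conj_eq hR hmem' hα hβ hne hq,
    cl_mul (mul_mem g.2 hw) (inv_mem g.2), cl_mul g.2 hw, cl_inv g.2]
  group

/-- An element fixing all quadruples and two pairs of the first lies in `Q`. -/
theorem Coord.mem_Qsub_of_fix {g : ↥(CC z)} (hg : g ∈ (C.rho S₀).ker)
    (h1 : cl z (g : G) * C.P 1 * (cl z (g : G))⁻¹ = C.P 1)
    (h2 : cl z (g : G) * C.P 2 * (cl z (g : G))⁻¹ = C.P 2) : g ∈ Qsub D z := by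
  have H := S₀.hyp
  -- so it fixes every line pointwise
  have hlines : ∀ i : ℕ, i < 126 → cl z (g : G) * C.P (Code.line 0 i).1 * (cl z (g : G))⁻¹ = C.P (Code.line 0 i).1 ∧
      cl z (g : G) * C.P (Code.line 0 i).2 * (cl z (g : G))⁻¹ = C.P (Code.line 0 i).2 := by
    intro i
    induction i using Nat.strong_induction_on with
    | _ i ih =>
      intro hi
      by_cases h0 : i = 0
      · subst h0
        rw [Code.table_zero]
        exact ⟨h1, h2⟩
      have hl : i < (Code.table 0).length := by rw [Code.table_length.1]; exact hi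
      obtain ⟨hp, he⟩ := Code.table_step 0 ⟨i, hl⟩ h0
      simp only at hp he
      obtain ⟨f1, f2⟩ := ih _ hp (hp.trans hi)
      rw [he]
      simp only
      rw [← (C.mem'_spec S₀ _).2, ← (C.mem'_spec S₀ _).2, C.conj_comm S₀ hg _ (C.P_mem S₀ _),
        C.conj_comm S₀ hg _ (C.P_mem S₀ _),
        f1, f2]
      exact ⟨rfl, rfl⟩
  have hA : ∀ p ∈ Abar D z, Commute (cl z (g : G)) p := by
    intro p hp
    induction hp using Subgroup.closure_induction with
    | one => exact Commute.one_right _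
    | mul x y _ _ hx hy => exact hx.mul_right hy
    | inv x _ hx => exact hx.inv_right
    | mem p hp =>
      obtain ⟨R, hR, hp⟩ := hp
      obtain ⟨i, hi⟩ := (C.equiv S₀).surjective ⟨R, hR⟩
      have hRe : (C.equiv S₀ i).1 = R := congrArg Subtype.val hi
      obtain ⟨m1, m2⟩ := C.equiv_spec S₀ i
      obtain ⟨b1, b2, b3⟩ := line0_bound i
      rw [hRe] at m1 m2
      obtain ⟨f1, f2⟩ := hlines i i.2
      have c1 : Commute (cl z (g : G)) (C.P (Code.line 0 i).1) := mul_inv_eq_iff_eq_mul.1 f1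
      have c2 : Commute (cl z (g : G)) (C.P (Code.line 0 i).2) := mul_inv_eq_iff_eq_mul.1 f2
      rcases (S₀.pairs_three hR m1 m2 fun e => b3 (C.P_inj S₀ b1 b2 e)).2 p hp with rfl | rfl | rfl
      exacts [c1, c2, c1.mul_right c2]
  -- correct by an element of `Q`
  let F : Fin 4096 → (Fin 12 → Bool) := fun n j => nc (C.P n) (C.bas.getD j 1)
  have hbasmem : ∀ j : Fin 12, C.bas.getD j 1 ∈ C.bas := fun j => by
    rw [← List.getElem_eq_getD (h := by rw [C.length]; exact j.2)]
    exact List.getElem_mem _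
  have hbas : ∀ x ∈ C.bas, ∃ j : Fin 12, C.bas.getD j 1 = x := fun x hx => by
    obtain ⟨j, hj, rfl⟩ := List.getElem_of_mem hx
    exact ⟨⟨j, C.length ▸ hj⟩, (List.getElem_eq_getD (h := hj) 1).symm⟩
  have hall0 : ∀ p, (∀ q ∈ Abar D z, Commute p q) → (∀ x ∈ C.bas, nc p x = false) →
      ∀ q ∈ Abar D z, nc p q = false := by
    intro p hp hx q hq
    obtain ⟨n, -, rfl⟩ := C.exists_code S₀ hq
    rw [Coord.P, apply_sel (S := (Abar D z).toSubmonoid) (fun y => nc p y)
      (by rw [S₀.nc_comm]; exact S₀.nc_one p) (fun y hy w hw => by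
        rw [S₀.nc_comm p, S₀.nc_mul_of_commute (hp y hy).symm (hp w hw).symm, S₀.nc_comm y p, S₀.nc_comm w p])
      C.mem n]
    exact selB_false _ (by simpa using hx) n
  have hFinj : Function.Injective F := by
    intro n m hnm
    refine Fin.ext (Nat.xor_eq_zero_iff.1 (C.eq_zero_of_P S₀ (Nat.xor_lt_two_pow (n := 12) n.2 m.2) ?_))
    by_contra hne1
    have hq : ∀ q ∈ Abar D z, nc (C.P (n.1 ^^^ m.1)) q = false :=
      hall0 _ (fun q hq => S₀.abar_comm (C.P_mem S₀ _) hq) fun x hx => by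
        obtain ⟨j, rfl⟩ := hbas x hx
        rw [C.P_xor S₀, S₀.nc_mul (C.P_mem S₀ _) (C.P_mem S₀ _) (C.mem _ hx)]
        have := congrFun hnm j
        simp only [F] at this
        rw [this, Bool.xor_self]
    refine hne1 ?_
    rw [show n.1 ^^^ m.1 = 0 from Nat.eq_of_testBit_eq fun j => by
      rw [Nat.zero_testBit]
      by_cases hj : j < 12
      · have h := hq _ (C.P_mem S₀ ((Code.dual C.u).getD j 0))
        rw [C.nc_P S₀, Code.beta, Code.dual_spec C.u ⟨j, hj⟩, selB_single] at h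
        simpa [hj] using h
      · exact Nat.testBit_lt_two_pow ((Nat.xor_lt_two_pow (n := 12) n.2 m.2).trans_le
          (Nat.pow_le_pow_right two_pos (not_lt.1 hj)))]
    exact sel_zero _
  obtain ⟨n, hn⟩ := (hFinj.bijective_of_nat_card_le (by simp)).2 fun j => nc (cl z (g : G)) (C.bas.getD j 1)
  obtain ⟨q, hq⟩ := QuotientGroup.mk_surjective (C.P n)
  have hqQ : q ∈ Qsub D z := by
    rw [mem_Qsub, cl_coe, hq]; exact C.P_mem S₀ _
  have hclq : cl z (q : G) = C.P n := by rw [cl_coe, hq]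
  set h := g * q with hh
  have hclh : cl z (h : G) = cl z (g : G) * C.P n := by rw [hh, Subgroup.coe_mul, cl_mul g.2 q.2, hclq]
  have hcA : ∀ p ∈ Abar D z, Commute (cl z (h : G)) p := fun p hp => by
    rw [hclh]; exact (hA p hp).mul_left (S₀.abar_comm (C.P_mem S₀ _) hp)
  have hnch : ∀ p ∈ Abar D z, nc (cl z (h : G)) p = false := hall0 _ hcA fun x hx => by
    obtain ⟨j, rfl⟩ := hbas x hx
    rw [hclh, S₀.nc_mul_of_commute (hA _ (C.mem _ hx)) (S₀.abar_comm (C.P_mem S₀ _) (C.mem _ hx))]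
    have := congrFun hn j
    simp only [F] at this
    rw [this, Bool.xor_self]
  have hker : h ∈ (C.rho S₀).ker := mul_mem hg (C.Qsub_le_ker S₀ hqQ)
  have hfixM : ∀ w ∈ Mz D z, Commute (h : G) w := by
    intro w hw
    obtain ⟨R, hR, hwR⟩ := S₀.exists_rep_mem hw
    obtain ⟨b, hb⟩ := Finset.card_pos.1 (show 0 < (R.erase w).card by
      rw [Finset.card_erase_of_mem hwR, hR.card]; norm_num)
    obtain ⟨hbw, hb⟩ := Finset.mem_erase.1 hb
    obtain ⟨c, e, hce, hwc, hwe, hbc, hbe, hRe⟩ := exists_four hR.card hwR hb hbw.symm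
    have hpu := pairUnique H.group.1 (noTwins_of_primitive H.group H.type.1 H.prim)
    have key : ∀ x ∈ R, w ≠ x → (h : G) * w * (h : G)⁻¹ = w ∨ (h : G) * w * (h : G)⁻¹ = x := by
      intro x hx hne
      have hC := mul_mem (hR.mem_CC H hwR) (hR.mem_CC H hx)
      have hc := (S₀.nc_false_iff h.2 hC).1 (hnch _ (S₀.pairs_mem_Abar hR ⟨w, hwR, x, hx, hne, rfl⟩))
      have e1 : (h : G) * w * (h : G)⁻¹ * ((h : G) * x * (h : G)⁻¹) = w * x := by
        rw [show (h : G) * w * (h : G)⁻¹ * ((h : G) * x * (h : G)⁻¹) = (h : G) * (w * x) * (h : G)⁻¹ by group,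
          hc.eq, mul_inv_cancel_right]
      rcases hpu _ (H.group.2.1 (h : G) w (hR.mem w hwR)) _ (H.group.2.1 (h : G) x (hR.mem x hx)) w
        (hR.mem w hwR) x (hR.mem x hx) (fun he => hne (mul_left_cancel (mul_right_cancel he)))
        ((commute_conj_iff' _ w x).2 (hR.comm w hwR x hx)) hne (hR.comm w hwR x hx) e1 with h' | h'
      exacts [Or.inl h'.1, Or.inr h'.1]
    have : (h : G) * w * (h : G)⁻¹ = w := by
      rcases key b hb hbw.symm with h' | h'
      · exact h'
      rcases key c (by simp [hRe]) hwc with h'' | h''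
      · exact h''
      · exact absurd (h'.symm.trans h'') hbc
    exact mul_inv_eq_iff_eq_mul.1 this
  have hhQ : h ∈ Qsub D z := by
    rw [mem_Qsub]
    rcases S₀.eq_of_centralize hfixM with h' | h' <;> rw [h']
    · rw [cl_one]; exact one_mem _
    · rw [cl_self]; exact one_mem _
  have := mul_mem hhQ (inv_mem hqQ)
  rwa [hh, mul_inv_cancel_right] at this

/-- The kernel of the action has order `3·2^13`. -/
theorem Coord.card_ker : Nat.card (C.rho S₀).ker = 3 * 8192 := by
  have := S₀.Qsub_normal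
  set K := (C.rho S₀).ker with hK
  set T := C.scal S₀ with hT
  have hTK : T ∈ K := C.scal_mem_ker S₀
  have tP : ∀ x, cl z (T : G) * C.P x * (cl z (T : G))⁻¹ =
      C.P (Code.appWord 0 (List.replicate 8 Code.scalWord).flatten x) := fun x => C.conj_word S₀ _ x
  have t1 := tP 1
  have t2 := tP 2
  rw [Code.scal_spec.2.1] at t1
  rw [Code.scal_spec.2.2] at t2
  set φ : ↥(CC z) → Quo z := fun g => cl z (g : G) * C.P 1 * (cl z (g : G))⁻¹ with hφ
  have hline : ∀ g ∈ K, φ g = C.P 1 ∨ φ g = C.P 2 ∨ φ g = C.P 3 := by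
    intro g hg
    have h0 := conjRep_pairs S₀.hyp (C.equiv S₀ 0).2 g.2 (C.equiv_spec S₀ 0).1
    rw [← C.equiv_rho S₀, MonoidHom.mem_ker.1 hg, Equiv.Perm.one_apply] at h0
    obtain ⟨n, hn, he⟩ := C.exists_code S₀ (S₀.pairs_mem_Abar (C.equiv S₀ 0).2 h0)
    have h3 := C.equiv_mem_triple S₀ hn (he.symm ▸ h0)
    have hl : Code.line 0 ((0 : Fin 126) : ℕ) = (1, 2) := by decide
    rw [hl] at h3 he
    have he' : φ g = C.P n := he.symm
    simp only [Code.triple, List.mem_cons, List.not_mem_nil, or_false] at h3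
    rcases h3 with rfl | rfl | rfl <;> simp [he']
  -- an element is determined modulo `Q` by its effect on one pair
  have hkey : ∀ g ∈ K, φ g = C.P 1 → g ∈ Qsub D z := by
    intro g hg h1
    refine C.mem_Qsub_of_fix S₀ hg h1 ?_
    have hcomm : cl z (g : G) * cl z (T : G) * C.P 2 * (cl z (g : G) * cl z (T : G))⁻¹ =
        cl z (T : G) * cl z (g : G) * C.P 2 * (cl z (T : G) * cl z (g : G))⁻¹ := by
      have key : ∀ w : List (Fin 8), ∀ p ∈ Abar D z,
          cl z (g : G) * cl z (C.word S₀ w : G) * p * (cl z (g : G) * cl z (C.word S₀ w : G))⁻¹ =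
            cl z (C.word S₀ w : G) * cl z (g : G) * p * (cl z (C.word S₀ w : G) * cl z (g : G))⁻¹ := by
        intro w
        induction w with
        | nil => intro p _; simp [Coord.word, cl_one]
        | cons k w ih =>
          intro p hp
          set m := (C.mem' S₀ k : G)
          have hmC : m ∈ CC z := (C.mem' S₀ k).2
          have e1 : cl z m * (cl z (g : G) * p * (cl z (g : G))⁻¹) * (cl z m)⁻¹ =
              cl z (g : G) * (cl z m * p * (cl z m)⁻¹) * (cl z (g : G))⁻¹ := (C.conj_comm S₀ hg k hp).symm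
          rw [show C.word S₀ (k :: w) = C.word S₀ w * C.mem' S₀ k by simp [Coord.word], Subgroup.coe_mul,
            cl_mul (C.word S₀ w).2 hmC]
          have := ih _ (conj_mem_Abar S₀.hyp hmC hp)
          calc cl z (g : G) * (cl z (C.word S₀ w : G) * cl z m) * p * (cl z (g : G) * (cl z (C.word S₀ w : G) * cl z m))⁻¹
              = cl z (g : G) * cl z (C.word S₀ w : G) * (cl z m * p * (cl z m)⁻¹) *
                (cl z (g : G) * cl z (C.word S₀ w : G))⁻¹ := by group
            _ = cl z (C.word S₀ w : G) * cl z (g : G) * (cl z m * p * (cl z m)⁻¹) *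
                (cl z (C.word S₀ w : G) * cl z (g : G))⁻¹ := this
            _ = cl z (C.word S₀ w : G) * (cl z (g : G) * (cl z m * p * (cl z m)⁻¹) * (cl z (g : G))⁻¹) *
                (cl z (C.word S₀ w : G))⁻¹ := by group
            _ = _ := by rw [← e1]; group
      exact key _ _ (C.P_mem S₀ 2)
    have hl : cl z (g : G) * cl z (T : G) * C.P 2 * (cl z (g : G) * cl z (T : G))⁻¹ = C.P 1 := by
      rw [show cl z (g : G) * cl z (T : G) * C.P 2 * (cl z (g : G) * cl z (T : G))⁻¹ =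
        cl z (g : G) * (cl z (T : G) * C.P 2 * (cl z (T : G))⁻¹) * (cl z (g : G))⁻¹ by group, t2]
      exact h1
    rw [hl] at hcomm
    have h2' : cl z (T : G) * (cl z (g : G) * C.P 2 * (cl z (g : G))⁻¹) * (cl z (T : G))⁻¹ =
        cl z (T : G) * C.P 2 * (cl z (T : G))⁻¹ := by
      rw [t2, hcomm]; group
    exact mul_left_cancel (mul_right_cancel h2')
  have h3 : C.P 3 = C.P 1 * C.P 2 := C.P_xor S₀ 1 2
  have t3 : cl z (T : G) * C.P 3 * (cl z (T : G))⁻¹ = C.P 2 := by
    rw [h3, show cl z (T : G) * (C.P 1 * C.P 2) * (cl z (T : G))⁻¹ = cl z (T : G) * C.P 1 * (cl z (T : G))⁻¹ *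
      (cl z (T : G) * C.P 2 * (cl z (T : G))⁻¹) by group, t1, t2, ← C.P_xor S₀]
    rfl
  have φT : φ T = C.P 3 := t1
  have φTT : φ (T * T) = C.P 2 := by
    rw [hφ]
    simp only [Subgroup.coe_mul, cl_mul T.2 T.2]
    rw [show cl z (T : G) * cl z (T : G) * C.P 1 * (cl z (T : G) * cl z (T : G))⁻¹ =
      cl z (T : G) * (cl z (T : G) * C.P 1 * (cl z (T : G))⁻¹) * (cl z (T : G))⁻¹ by group, t1, t3]
  have hmulφ : ∀ g h : ↥(CC z), φ (g * h) = cl z (g : G) * φ h * (cl z (g : G))⁻¹ := fun g h => by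
    simp only [hφ, Subgroup.coe_mul, cl_mul g.2 h.2]
    group
  have hfix : ∀ g ∈ K, ∀ h ∈ K, φ g = φ h → g⁻¹ * h ∈ Qsub D z := fun g hg h hh he =>
    hkey _ (mul_mem (inv_mem hg) hh) (by
      rw [hmulφ, ← he]
      simp only [hφ, Subgroup.coe_inv, cl_inv g.2]
      group)
  let f : Fin 3 → ↥K ⧸ (Qsub D z).subgroupOf K :=
    ![QuotientGroup.mk 1, QuotientGroup.mk ⟨T, hTK⟩, QuotientGroup.mk ⟨T * T, mul_mem hTK hTK⟩]
  have hmk : ∀ a b : ↥K, (QuotientGroup.mk a : ↥K ⧸ (Qsub D z).subgroupOf K) = QuotientGroup.mk b ↔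
      φ a.1 = φ b.1 := by
    intro a b
    rw [QuotientGroup.eq, Subgroup.mem_subgroupOf, Subgroup.coe_mul, Subgroup.coe_inv]
    refine ⟨fun h => ?_, hfix _ a.2 _ b.2⟩
    have e : φ ((a : ↥(CC z)) * ((a : ↥(CC z))⁻¹ * b)) = φ a.1 := by
      rw [hmulφ]
      have hc := (S₀.abar_comm (mem_Qsub.1 h) (C.P_mem S₀ 1)).eq
      simp only [hφ, Subgroup.coe_mul, Subgroup.coe_inv] at hc ⊢
      rw [hc, mul_inv_cancel_right]
    rw [mul_inv_cancel_left] at e
    exact e.symm
  have φ1 : φ 1 = C.P 1 := by simp [hφ, cl_one]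
  have hf : Function.Bijective f := by
    constructor
    · intro i j h
      have hval : ∀ i : Fin 3, ∃ a : ↥K, f i = QuotientGroup.mk a ∧ φ a.1 = C.P (![1, 3, 2] i) := by
        intro i
        fin_cases i
        exacts [⟨1, rfl, φ1⟩, ⟨⟨T, hTK⟩, rfl, φT⟩, ⟨⟨T * T, mul_mem hTK hTK⟩, rfl, φTT⟩]
      obtain ⟨a, ha, ha'⟩ := hval i
      obtain ⟨b, hb, hb'⟩ := hval j
      have hlt : ∀ i : Fin 3, (![1, 3, 2] : Fin 3 → ℕ) i < 4096 := by decide
      have hinj : Function.Injective (![1, 3, 2] : Fin 3 → ℕ) := by decide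
      exact hinj (C.P_inj S₀ (hlt i) (hlt j)
        (ha'.symm.trans (((hmk a b).1 (ha.symm.trans (h.trans hb))).trans hb')))
    · intro y
      obtain ⟨a, rfl⟩ := QuotientGroup.mk_surjective y
      rcases hline a.1 a.2 with h | h | h
      · exact ⟨0, (hmk _ _).2 (φ1.trans h.symm)⟩
      · exact ⟨2, (hmk _ _).2 (φTT.trans h.symm)⟩
      · exact ⟨1, (hmk _ _).2 (φT.trans h.symm)⟩
  rw [Subgroup.card_eq_card_quotient_mul_card_subgroup ((Qsub D z).subgroupOf K),
    ← Nat.card_congr (Equiv.ofBijective f hf), Nat.card_fin,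
    Nat.card_congr (Subgroup.subgroupOfEquivOfLe (C.Qsub_le_ker S₀)).toEquiv, C.card_Qsub S₀]

end CfsgLib.FischerTypes.M24QuadCent
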