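import Cfsg.Agent.FischerTypes.M24QuadCent.Parity
import Cfsg.Agent.FischerTypes.M24Big
import Cfsg.Agent.LargeExtraspecial.Quotient
import Cfsg.Agent.CharPLocal.Basic

/-!
# The centralizer of a product of four commuting members in the derived group

It is an extension of an extraspecial group of order `2^13` by a group of order three, `PSU₄(9)` and a
group of order two, and the extraspecial group is its generalized Fitting subgroup.
-/

set_option autoImplicit false
set_option linter.unusedSectionVars false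
set_option linter.unusedDecidableInType false
set_option linter.unusedFintypeInType false

namespace CfsgLib.FischerTypes.M24QuadCent

open Cfsg CfsgLib.FischerTypes
open Model (tau Wplus)

attribute [local instance] Classical.propDecidable

variable {G : Type*} [Group G] [Finite G] {D : Set G} {z : G}

theorem card_comap_of_le_range {A B : Type*} [Group A] [Group B] {f : A →* B} (hf : Function.Injective f)
    {H : Subgroup B} (hH : H ≤ f.range) : Nat.card ↥(H.comap f) = Nat.card ↥H := by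
  rw [← Subgroup.card_map_of_injective hf, Subgroup.map_comap_eq_self hH]

theorem units_cube (u : ℤˣ) (h : u ^ 3 = 1) : u = 1 := by
  rcases Int.units_eq_one_or u with rfl | rfl
  · rfl
  · exact absurd h (by decide)

variable (S₀ : Setting G D z)

include S₀

/-- The section lies in the derived group. -/
theorem Setting.Qsub_le_comm {x : ↥(CC z)} (hx : x ∈ Qsub D z) : (x : G) ∈ commutator G := by
  obtain ⟨χ, hker, hχ⟩ := M24.exists_sign_commutator S₀.hyp
  have hm : ∀ {R : Finset G}, IsRep D z R → ∀ a ∈ R, χ a = -1 := fun hR a ha => hχ a (hR.mem a ha)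
  have hz : χ z = 1 := by
    obtain ⟨R, hR⟩ := S₀.exists_rep
    obtain ⟨a, ha⟩ := Finset.card_pos.1 (show 0 < R.card by rw [hR.card]; norm_num)
    obtain ⟨b, hb⟩ := Finset.card_pos.1 (show 0 < (R.erase a).card by
      rw [Finset.card_erase_of_mem ha, hR.card]; norm_num)
    obtain ⟨hba, hb⟩ := Finset.mem_erase.1 hb
    obtain ⟨c, e, hce, hac, hae, hbc, hbe, hRe⟩ := exists_four hR.card ha hb hba.symm
    have h4 := (S₀.four hR hRe hba.symm hac hae hbc hbe hce).1
    rw [← h4, map_mul, map_mul, map_mul, hm hR a ha, hm hR b hb, hm hR c (by simp [hRe]), hm hR e (by simp [hRe])]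
    decide
  have hZ : Zc z ≤ (χ.comp (CC z).subtype).ker := by
    rw [Zc, Subgroup.zpowers_le]
    exact MonoidHom.mem_ker.2 hz
  set ψ : Quo z →* ℤˣ := QuotientGroup.lift (Zc z) (χ.comp (CC z).subtype) hZ with hψ
  have hA : Abar D z ≤ ψ.ker := by
    refine (Subgroup.closure_le _).2 ?_
    rintro p ⟨R, hR, a, ha, b, hb, -, rfl⟩
    rw [SetLike.mem_coe, MonoidHom.mem_ker, cl_of_mem (mul_mem (hR.mem_CC S₀.hyp ha) (hR.mem_CC S₀.hyp hb))]
    show χ (a * b) = 1
    rw [map_mul, hm hR a ha, hm hR b hb]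
    decide
  rw [← hker, MonoidHom.mem_ker]
  exact MonoidHom.mem_ker.1 (hA (x := QuotientGroup.mk x) hx)

variable (C : Coord D z)

/-- The kernel of the action lies in the derived group. -/
theorem Coord.ker_le_comm {x : ↥(CC z)} (hx : x ∈ (C.rho S₀).ker) : (x : G) ∈ commutator G := by
  have := S₀.Qsub_normal
  obtain ⟨χ, hker, -⟩ := M24.exists_sign_commutator S₀.hyp
  set Q₁ := (Qsub D z).subgroupOf (C.rho S₀).ker with hQ₁
  have hidx : Q₁.index = 3 := by
    have h := Q₁.index_mul_card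
    rw [hQ₁, Nat.card_congr (Subgroup.subgroupOfEquivOfLe (C.Qsub_le_ker S₀)).toEquiv, C.card_Qsub S₀,
      C.card_ker S₀] at h
    rw [hQ₁]
    omega
  have h3 : (⟨x, hx⟩ : ↥(C.rho S₀).ker) ^ 3 ∈ Q₁ := hidx ▸ Q₁.pow_index_mem _
  have := S₀.Qsub_le_comm (Subgroup.mem_subgroupOf.1 h3)
  rw [← hker, MonoidHom.mem_ker] at this ⊢
  refine units_cube _ ?_
  rw [← map_pow]
  simpa using this

include C in
/-- The structure of the centralizer in the derived group. -/
theorem Coord.structure_main : ∃ (Q : Subgroup ↥(commutator G ⊓ CC z)) (_ : Q.Normal),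
    Cfsg.generalizedFittingSubgroup ↥(commutator G ⊓ CC z) = Q ∧ Cfsg.IsExtraspecial 2 ↥Q ∧
      Nat.card Q = 2 ^ 13 ∧
      ∃ (N M : Subgroup ↥(commutator G ⊓ CC z)) (_ : N.Normal) (_ : M.Normal), Q ≤ N ∧ N ≤ M ∧
        Nat.card N = 3 * Nat.card Q ∧
        (∃ (K : Type) (_ : Field K) (_ : Fintype K), Fintype.card K = 9 ∧
          Nonempty (↥M ⧸ N.subgroupOf M ≃* Cfsg.PSU 4 K 3)) ∧ M.index = 2 := by
  have : Fact (Nat.Prime 2) := ⟨Nat.prime_two⟩
  obtain ⟨χ, hker, hχ⟩ := M24.exists_sign_commutator S₀.hyp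
  set L₀ := commutator G ⊓ CC z with hL₀
  set incl : ↥L₀ →* ↥(CC z) := Subgroup.inclusion inf_le_right with hincl
  have hinj : Function.Injective incl := Subgroup.inclusion_injective _
  have hrange : ∀ {x : ↥(CC z)}, (x : G) ∈ commutator G → x ∈ incl.range := fun {x} hx =>
    ⟨⟨x, hx, x.2⟩, Subtype.ext rfl⟩
  set ρC : ↥L₀ →* Equiv.Perm (Fin 126) := (C.rho S₀).comp incl with hρC
  set Q' := (Qsub D z).comap incl with hQ'
  set N' := ρC.ker with hN'
  set M' := Wplus.comap ρC with hM'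
  have hQn : Q'.Normal := S₀.Qsub_normal.comap _
  have hMn : M'.Normal := ⟨fun m hm g => by
    rw [hM', Subgroup.mem_comap] at hm ⊢
    rw [map_mul, map_mul, map_inv]
    exact C.rho_normalizes S₀ (incl g) hm⟩
  have hQN : Q' ≤ N' := fun x hx => MonoidHom.mem_ker.2 (MonoidHom.mem_ker.1 (C.Qsub_le_ker S₀ hx) :)
  have hNM : N' ≤ M' := fun x hx => by
    rw [hM', Subgroup.mem_comap, MonoidHom.mem_ker.1 hx]; exact one_mem _
  have hcQ : Nat.card Q' = 8192 := by
    rw [hQ', card_comap_of_le_range hinj fun x hx => hrange (S₀.Qsub_le_comm hx), C.card_Qsub S₀]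
  have hcN : Nat.card N' = 3 * 8192 := by
    rw [hN', hρC, ← MonoidHom.comap_ker, card_comap_of_le_range hinj fun x hx => hrange (C.ker_le_comm S₀ hx),
      C.card_ker S₀]
  -- the even part is covered
  set f : ↥M' →* ↥Wplus := (ρC.comp M'.subtype).codRestrict Wplus (fun m => m.2) with hf
  have hgen : ∀ σ ∈ Wplus, ∃ x : ↥L₀, ρC x = σ := by
    intro σ hσ
    refine (?_ : σ ∈ ρC.range)
    refine (Subgroup.closure_le _).2 ?_ hσ
    rintro _ ⟨a, b, rfl⟩
    have hm : ((C.mem' S₀ a * C.mem' S₀ b : ↥(CC z)) : G) ∈ commutator G := by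
      rw [← hker, MonoidHom.mem_ker, Subgroup.coe_mul, map_mul, hχ _ (C.mem'_spec S₀ a).1.1,
        hχ _ (C.mem'_spec S₀ b).1.1]
      decide
    obtain ⟨x, hx⟩ := hrange hm
    refine ⟨x, ?_⟩
    rw [hρC, MonoidHom.comp_apply, hx, map_mul, C.rho_mem'_tau S₀, C.rho_mem'_tau S₀]
  have hsurj : Function.Surjective f := by
    rintro ⟨σ, hσ⟩
    obtain ⟨x, rfl⟩ := hgen σ hσ
    exact ⟨⟨x, hσ⟩, rfl⟩
  have hfker : f.ker = N'.subgroupOf M' := by
    ext m
    rw [MonoidHom.mem_ker, Subgroup.mem_subgroupOf, hN', MonoidHom.mem_ker]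
    exact Subtype.ext_iff
  have hcM : Nat.card M' = 3265920 * (3 * 8192) := by
    rw [Subgroup.card_eq_card_quotient_mul_card_subgroup f.ker,
      Nat.card_congr (QuotientGroup.quotientKerEquivOfSurjective f hsurj).toEquiv, Model.card_Wplus, hfker,
      Nat.card_congr (Subgroup.subgroupOfEquivOfLe hNM).toEquiv, hcN]
  have hcC : 2 * Nat.card ↥L₀ = 321052999680 := by
    obtain ⟨R, hR⟩ := S₀.exists_rep
    obtain ⟨d, hd⟩ := Finset.card_pos.1 (show 0 < R.card by rw [hR.card]; norm_num)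
    rw [hL₀, M24.two_mul_card_inf_commutator S₀.hyp (hR.mem d hd) (hR.mem_CC S₀.hyp hd), S₀.card_CC]
  have hidx : M'.index = 2 := by
    have h := M'.index_mul_card
    rw [hcM] at h
    refine Nat.eq_of_mul_eq_mul_right (show 0 < 3265920 * (3 * 8192) by norm_num) ?_
    omega
  -- the extraspecial group
  have hzc : (⟨z, mem_CC.2 (Commute.refl z)⟩ : ↥(CC z)) ∈ Qsub D z := by
    rw [mem_Qsub, cl_self]; exact one_mem _
  obtain ⟨z', hz'⟩ := hrange (S₀.Qsub_le_comm hzc)
  have hz'G : (z' : G) = z := congrArg Subtype.val hz'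
  have hz'Q : z' ∈ Q' := by rw [hQ', Subgroup.mem_comap, hz']; exact hzc
  have hclQ : ∀ {x : ↥L₀}, x ∈ Q' → cl z (x : G) ∈ Abar D z := fun {x} hx => mem_Qsub.1 hx
  have hcase : ∀ {x : ↥L₀}, cl z (x : G) = 1 → x = 1 ∨ x = z' := by
    intro x hx
    rw [← cl_one z, eq_comm, S₀.cl_eq_iff (one_mem _) x.2.2] at hx
    rcases hx with h | h
    · exact Or.inl (Subtype.ext h)
    · exact Or.inr (Subtype.ext (by rw [h, one_mul, hz'G]))
  have hlift : ∀ n, ∃ y ∈ Q', cl z (y : G) = C.P n := by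
    intro n
    obtain ⟨y, hy⟩ := QuotientGroup.mk_surjective (C.P n)
    have hyQ : y ∈ Qsub D z := by rw [mem_Qsub, cl_coe, hy]; exact C.P_mem S₀ n
    obtain ⟨y', hy'⟩ := hrange (S₀.Qsub_le_comm hyQ)
    refine ⟨y', by rw [hQ', Subgroup.mem_comap, hy']; exact hyQ, ?_⟩
    rw [show (y' : G) = y from congrArg Subtype.val hy', cl_coe, hy]
  have hQp : IsPGroup 2 Q' := IsPGroup.of_card (n := 13) (by rw [hcQ]; norm_num)
  have hES : Cfsg.IsExtraspecial 2 ↥Q' := by
    refine (CfsgLib.LargeExtraspecial.isExtraspecial_of_props (z := z') hQp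
      (orderOf_eq_prime (Subtype.ext ?_) fun h => S₀.z_ne_one ?_) hz'Q ?_ ?_ ?_ ?_ ?_).1
    · rw [pow_two, Subgroup.coe_mul, hz'G, S₀.commute_z_z, Subgroup.coe_one]
    · rw [← hz'G, h, Subgroup.coe_one]
    · intro x _
      refine Subtype.ext ?_
      rw [Subgroup.coe_mul, Subgroup.coe_mul, hz'G]
      exact (mem_CC.1 x.2.2).eq
    · intro x hx
      refine hcase ?_
      rw [Subgroup.coe_mul, cl_mul x.2.2 x.2.2, S₀.abar_sq (hclQ hx)]
    · intro x hx y hy
      refine hcase ?_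
      simp only [Subgroup.coe_mul, Subgroup.coe_inv]
      rw [cl_mul (mul_mem (mul_mem x.2.2 y.2.2) (inv_mem x.2.2)) (inv_mem y.2.2),
        cl_mul (mul_mem x.2.2 y.2.2) (inv_mem x.2.2), cl_mul x.2.2 y.2.2, cl_inv x.2.2, cl_inv y.2.2,
        (S₀.abar_comm (hclQ hx) (hclQ hy)).eq]
      group
    · intro x hx hc
      refine hcase ?_
      obtain ⟨n, hn, he⟩ := C.exists_code S₀ (hclQ hx)
      rw [← he, show n = 0 from Nat.eq_of_testBit_eq fun j => by
        rw [Nat.zero_testBit]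
        by_cases hj : j < 12
        · obtain ⟨y, hy, hye⟩ := hlift ((Code.dual C.u).getD j 0)
          have h1 := (S₀.nc_false_iff x.2.2 y.2.2).2 (congrArg Subtype.val (hc y hy)).symm
          rw [← he, hye, C.nc_P S₀, Code.beta, Code.dual_spec C.u ⟨j, hj⟩, selB_single] at h1
          simpa [hj] using h1
        · exact Nat.testBit_lt_two_pow (hn.trans_le (le_trans (by norm_num)
            (Nat.pow_le_pow_right two_pos (not_lt.1 hj))))]
      exact sel_zero _
    · obtain ⟨x, hx, hxe⟩ := hlift 1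
      obtain ⟨y, hy, hye⟩ := hlift 128
      refine ⟨x, hx, y, hy, fun h => ?_⟩
      have h1 := (S₀.nc_false_iff x.2.2 y.2.2).2 (congrArg Subtype.val h :)
      rw [hxe, hye, C.nc_P S₀, C.u_eq S₀] at h1
      exact absurd h1 (by decide)
  -- it contains its centralizer
  have hcent : Subgroup.centralizer (Q' : Set ↥L₀) ≤ Q' := by
    intro x hx
    have hcomm : ∀ n, cl z ((incl x : ↥(CC z)) : G) * C.P n * (cl z ((incl x : ↥(CC z)) : G))⁻¹ = C.P n := by
      intro n
      obtain ⟨y, hy, hye⟩ := hlift n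
      have h : Commute (x : G) (y : G) := (congrArg Subtype.val (Subgroup.mem_centralizer_iff.1 hx y hy)).symm
      rw [← hye, show ((incl x : ↥(CC z)) : G) = x from rfl, mul_inv_eq_iff_eq_mul,
        ← cl_mul x.2.2 y.2.2, ← cl_mul y.2.2 x.2.2, h.eq]
    have hker' : incl x ∈ (C.rho S₀).ker := MonoidHom.mem_ker.2
      (Equiv.ext fun i => C.rho_eq S₀ (line_fst_mem i) (hcomm _))
    exact C.mem_Qsub_of_fix S₀ hker' (hcomm 1) (hcomm 2)
  -- and it is the largest normal two-subgroup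
  have hcore : Cfsg.pCore 2 ↥L₀ = Q' := by
    set P := Cfsg.pCore 2 ↥L₀ with hP
    have hPp : IsPGroup 2 P := CfsgLib.PLocal.isPGroup_pCore 2 _
    have hle : Q' ≤ P := le_sSup ⟨hQn, hQp⟩
    have hPn : P.Normal := inferInstance
    have hW := Model.isSimple_Wplus
    set V := (P.subgroupOf M').map f with hV
    have hVn : V.Normal := Subgroup.Normal.map inferInstance f hsurj
    have hVbot : V = ⊥ := by
      refine (hVn.eq_bot_or_eq_top).resolve_right fun h => ?_
      have hp : IsPGroup 2 V := (hPp.comap_subtype).map f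
      obtain ⟨k, hk⟩ := hp.exists_card_eq
      rw [h, Subgroup.card_top, Model.card_Wplus] at hk
      have h3 : 3 ∣ 2 ^ k := hk ▸ (by norm_num)
      exact absurd ((Nat.prime_dvd_prime_iff_eq Nat.prime_three Nat.prime_two).1
        (Nat.prime_three.dvd_of_dvd_pow h3)) (by norm_num)
    have hPM : ∀ m : ↥M', (m : ↥L₀) ∈ P → ρC m = 1 := fun m hm => by
      have : f m ∈ V := ⟨m, hm, rfl⟩
      rw [hVbot, Subgroup.mem_bot] at this
      exact congrArg Subtype.val this
    have hPN : P ≤ N' := fun x hx => by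
      rw [hN', MonoidHom.mem_ker]
      refine C.eq_one_of_commute S₀ fun σ hσ => ?_
      obtain ⟨m, rfl⟩ := hgen σ hσ
      have hmem : x * m * x⁻¹ * m⁻¹ ∈ P := by
        rw [mul_assoc x, mul_assoc x]
        exact mul_mem hx (hPn.conj_mem _ (inv_mem hx) m)
      have hmem' : x * m * x⁻¹ * m⁻¹ ∈ M' := mul_mem (hMn.conj_mem m hσ x) (inv_mem hσ)
      have h1 := hPM ⟨_, hmem'⟩ hmem
      simp only [map_mul, map_inv] at h1
      exact mul_inv_eq_iff_eq_mul.1 (mul_inv_eq_one.1 h1)
    refine (Subgroup.eq_of_le_of_card_ge hle ?_).symm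
    obtain ⟨k, hk⟩ := hPp.exists_card_eq
    have hdvd := Subgroup.card_dvd_of_le hPN
    rw [hk, hcN] at hdvd
    have h13 : 2 ^ k ∣ 2 ^ 13 := ((Nat.Coprime.pow_left k (by norm_num : Nat.Coprime 2 3)).dvd_of_dvd_mul_left
      hdvd)
    rw [hk, hcQ]
    exact Nat.le_of_dvd (by norm_num) h13
  have hF : Cfsg.generalizedFittingSubgroup ↥L₀ = Q' := by
    rw [CfsgLib.CharPLocal.generalizedFittingSubgroup_eq_pCore (p := 2) (by rw [hcore]; exact hcent), hcore]
  obtain ⟨K, iK, iF, hK, ⟨e⟩⟩ := Model.exists_equiv_psu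
  refine ⟨Q', hQn, hF, hES, by rw [hcQ]; norm_num, N', M', inferInstance, hMn, hQN, hNM, by rw [hcN, hcQ],
    ⟨K, iK, iF, hK, ⟨(QuotientGroup.quotientMulEquivOfEq hfker.symm).trans
      ((QuotientGroup.quotientKerEquivOfSurjective f hsurj).trans e)⟩⟩, hidx⟩

end CfsgLib.FischerTypes.M24QuadCent
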